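/-
Simple groups without elements of order six.
-/
import Cfsg.Agent.Loc.N63
import Cfsg.Agent.Ab2.LYp
import Cfsg.Agent.GW.Cent4
import Cfsg.Agent.GW.Main
import Cfsg.Agent.Invol.QGroup
set_option autoImplicit false
set_option linter.unusedSectionVars false

namespace CF.Cl2
open Subgroup Cfsg CF.BG CF.Sig CF.GW CF.Ab2
open CF.Loc (mul_mem_of_relIndex_two relIndex_eq_two_of_le)
open scoped commutatorElement MatrixGroups

universe u

section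
variable {G : Type u} [Group G] [Finite G]
variable {A B C D E H K L M N O P Q R S T U V W X Y Z : Subgroup G} {a b c d g k n r s t u v x y z : G}

/-- no involution has a centralizer of order four in a Sylow subgroup -/
def No4 (G : Type*) [Group G] : Prop :=
  ∀ S : Subgroup G, Syl 2 S ⊤ → ∀ t ∈ S, Iv t → ♯(S ⊓ 𝐂₁ t) ≠ 4

theorem cmm (hx : x ∈ K) (hy : y ∈ K) : x * y * x⁻¹ ∈ K := mul_mem (mul_mem hx hy) (inv_mem hx)

theorem N6.four (h : N6 G) (o : orderOf x = 3) (k : P2 V) (n : x ∈ 𝐍 V) (c : ♯V ≤ 4) (ha : a ∈ V)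
    (i : Iv a) : FP a (x * a * x⁻¹) ∧ V4 a (x * a * x⁻¹) = V :=
  have f : FP a (x * a * x⁻¹) := ⟨i, i.conj x, h.com o k n ha, fun e =>
    i.ne_one (h.eq_one o i.piElt (mul_inv_eq_iff_eq_mul.1 e.symm).symm)⟩
  ⟨f, eq_of_card_le (V4_le.2 ⟨ha, conj_mem_of_norm n ha⟩) (f.card ▸ c)⟩

theorem ab_qt (n : T ≤ 𝐍 Z) (h : ∀ t ∈ T, t * t ∈ Z) : Abelem 2 (qt Z T) := ab_mk fun _ hw => by
  obtain ⟨t, ht, nt, rfl⟩ := mem_qt.1 hw
  rw [← qe_mul nt nt, qe_of_mem (h t ht)]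

theorem MxD.type1 (h : MxD D) (pf : ⁅(⊤ : Subgroup G), (⊤ : Subgroup G)⁆ = ⊤) (n4 : No4 G)
    (hT : Syl 2 T (𝐍 D)) (hs : s ∈ T) (hx : x ∈ 𝐍 D) (o : orderOf x = 3)
    (i : s * x * s⁻¹ = x⁻¹) (i2 : D.relIndex T = 2) : False := by
  have h6 := h.n6
  have k3 := p2_t3 h.pi
  have dT := hT.le_of_normal (normalIn_norm D) h.pi
  have w : ∀ t ∈ T, t ∉ D → ¬ PiElt {3}ᶜ (t⁻¹ * (x * t * x⁻¹)) := fun t ht nt => by
    have ns : s ∉ D := fun m => o3_not o k3 (inv_o3 o i ▸ mul_mem (inv_mem m) (conj_mem_of_norm hx m))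
    have n := hT.le ht
    have m := hT.le hs
    refine not3_of_qe (mul_mem (inv_mem n) (cmm hx n)) ?_
    rw [qe_mul (inv_mem n) (cmm hx n), qe_inv n, qe_conj hx n, (qe_eq_iff n m).2
      (mul_mem_of_relIndex_two i2 (inv_mem ht) hs (mt inv_mem_iff.1 nt) ns), ← qe_conj hx m, ← qe_inv m,
      ← qe_mul (inv_mem m) (cmm hx m), inv_o3 o i]
    exact o3_qe o hx k3
  have kZ := h.pi.le (inf_le_left : 𝐙 D ≤ D)
  have xZ := norm_center D hx
  have z0 := h.pi.center_ne_bot h.ne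
  have nz : ∀ t ∈ T, t ∉ D → t ∉ 𝐂 (𝐙 D) := fun t ht nt c => by
    have := (h6.csq kZ xZ (w t ht nt)).1
    rw [inf_eq_left.2 (le_cent1_iff.2 c), cj_of_norm xZ, inf_idem] at this
    exact z0 this
  have le4 : ∀ V, P2 V → x ∈ 𝐍 V → ∀ t ∈ T, t ∉ D → (𝐂₁ t).relIndex V ≤ 2 → ♯V ≤ 4 := fun V k n t ht nt c => by
    rw [← card_inf_mul_relIndex (𝐂₁ t) V, inf_comm]
    exact Nat.mul_le_mul ((h6.csq k n (w t ht nt)).2.1.trans c) c
  have big : 4 < ♯D := by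
    by_contra! c
    obtain ⟨S, hS, l⟩ := exists_syl_le le_top hT.pi
    have cD : S ⊓ 𝐂 D ≤ D := fun t ht => by_contra fun nt => nz t ((hT.eq_of_le (le_inf l hT.le) inf_le_right
      (hS.pi.le inf_le_left)).ge (mi ht.1 (cent_le_norm D ht.2))) nt (cent_anti inf_le_left ht.2)
    obtain ⟨z, hz, iz⟩ := exists_iv_of_two (hS.pi.le (inf_le_left : 𝐙 S ≤ S))
      (hS.pi.center_ne_bot (ne_bot_mono h.ne (dT.trans l)))
    obtain ⟨f, e⟩ := h6.four o h.pi hx c (cD (mi hz.1 (cent_anti (dT.trans l) hz.2))) iz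
    refine n4 S hS _ (l (dT (e.le (right_mem_V4 _ _)))) f.r ?_
    rw [← f.card, show S ⊓ 𝐂₁ (x * z * x⁻¹) = V4 z (x * z * x⁻¹) from le_antisymm (le_trans ?_ (cD.trans e.ge))
      (le_inf (e.le.trans (dT.trans l)) (le_cent1_iff.2 (f.abel (right_mem_V4 _ _))))]
    rw [← e, cent_V4]
    exact le_inf inf_le_left (le_inf (inf_le_left.trans (le_cent1_iff.2 hz.2)) inf_le_right)
  have nT : 𝐍 T ≤ 𝐍 D := fun g hg => by_contra fun ng => by
    have lg := cj_le_of_norm hg dT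
    have ig : (cj g D).relIndex T = 2 := by rw [← i2, ← BG.relIndex_cj g D T, cj_of_norm hg]
    have nl : ¬ cj g D ≤ D := mt mem_norm_of_cj_le ng
    have iD := relIndex_eq_two_of_le ig dT fun m => nl (eq_of_card_le m (card_cj g D).le).ge
    have c2 : ∀ a ∈ cj g (𝐙 D), (𝐂₁ a).relIndex D ≤ 2 := fun a ha => by
      rw [← iD]
      exact relIndex_le_of_le_left (le_cent1_iff.2 (cj_cent_iff.2 inf_le_right ha)) (relIndex_ne_zero' _ _)
    by_cases c : cj g (𝐙 D) ≤ D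
    · obtain ⟨t, ht, nt⟩ := SetLike.not_le_iff_exists.1 nl
      refine nz t (lg ht) nt ?_
      rw [← eq_of_card_le (le_inf c fun a ha => le_cent1_iff.1 (relIndex_eq_one.1 ?_)) (card_cj g _).ge]
      · exact cent_symm (cj_cent_iff.2 inf_le_right) ht
      have := h6.cidx o h.pi hx (c ha)
      have := c2 a ha
      have := relIndex_pos (𝐂₁ a) D
      omega
    · obtain ⟨a, ha, na⟩ := SetLike.not_le_iff_exists.1 c
      exact big.not_ge (le4 D h.pi hx a (lg (cj_mono g inf_le_left ha)) na (c2 a ha))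
  have hS := hT.syl_of_norm_le nT le_top
  have cl := h6.cls o h.pi hx
  refine h6.sc_Y hS pf dT i2 h.ne cl nT (n4 T hS) (fun c => ?_) fun t ht nt c => ?_
  · obtain ⟨t, ht, nt⟩ := Loc.exists_not_mem_two i2
    exact (nz t ht nt (c ht)).elim
  have c4 := le4 _ kZ xZ t ht nt c.le
  obtain ⟨z, hz, iz⟩ := exists_iv_of_two kZ z0
  obtain ⟨f, e⟩ := h6.four o kZ xZ c4 hz iz
  have nZ := (le_norm_self D).trans (norm_center D)
  have ab : Abelem 2 (qt (𝐙 D) D) := ab_qt nZ fun a ha => mi (mul_mem ha ha) (mem_cent.2 fun b hb => by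
    have m := commutator_mem_commutator ha hb
    calc _ = ⁅a, b⁆ * ⁅a, b⁆ * b * (a * a) := by rw [f.sq (e.ge (mi (der_le D m) (cl m))), one_mul]
      _ = ⁅a, b⁆ * a * (b * a) := by group
      _ = _ := by rw [← mem_cent.1 (cl m) a ha]; group)
  have tZ := norm_center D (hT.le ht)
  have h6' := h6.quo (p2_t3 kZ)
  have xq := qt_norm (𝐙 D) (zpowers_le.2 hx) (qe_mem_qt (mem_zpowers x) xZ)
  refine ⟨ab, (h6'.csq ab.pi xq fun j => w t ht nt ?_).2.2, ?_⟩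
  · have m := mul_mem (inv_mem tZ) (cmm xZ tZ)
    rw [← qe_conj xZ tZ, ← qe_inv tZ, ← qe_mul (inv_mem tZ) (cmm xZ tZ)] at j
    exact piGrp_zpowers.1 ((p2_t3 kZ).of_qt (zpowers_le.2 m) (qt_zpowers m ▸ j.zpowers))
  by_contra! c
  refine big.not_ge ((card_le_of_le ?_).trans c4)
  by_contra ne
  obtain ⟨_, hw, iw⟩ := exists_iv_of_two ab.pi (mt (qt_eq_bot nZ).1 ne)
  obtain ⟨a, ha, na, rfl⟩ := mem_qt.1 hw
  have e := (h6'.four (o3_qe o xZ (p2_t3 kZ)) ab.pi xq c hw iw).2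
  have xa := conj_mem_of_norm hx ha
  rw [← qe_conj xZ na, V4, ← qt_zpowers na, ← qt_zpowers (nZ xa), ← qt_sup (zpowers_le.2 na)
    (zpowers_le.2 (nZ xa))] at e
  have l := (qt_le_qt_iff nZ (sup_le (zpowers_le.2 na) (zpowers_le.2 (nZ xa)))).1 e.ge
  have j : ∀ b ∈ D, b ∈ 𝐂₁ a → b ∈ 𝐂₁ (x * a * x⁻¹) → zpowers b ≤ 𝐂 D := fun b hb j k => cent_symm (l.trans
    (sup_le (inf_le_right.trans (cent_anti (zpowers_le.2 hb))) (cent_symm (zpowers_le.2 ((cent_V4 _ _).ge (mi j k))))))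
  have cm := h6.com o h.pi hx ha
  exact ne (le_inf le_rfl (l.trans (sup_le inf_le_right (sup_le (j a ha (self_mem_cent1 a) (mem_cent1.2 cm))
    (j _ xa (mem_cent1.2 cm.symm) (self_mem_cent1 _))))))

/-- the two elementary abelian subgroups are swapped -/
theorem AB.swap (h : AB T A B T) (h6 : N6 G) (pf : ⁅(⊤ : Subgroup G), (⊤ : Subgroup G)⁆ = ⊤) (n4 : No4 G)
    (hS : Syl 2 S ⊤) (l : T ≤ S) (nA : S ⊓ 𝐍 A ≤ T) {q : ℕ} (q2 : 2 < q) (cZ : ♯(A ⊓ B) = q)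
    (iA : A.relIndex T = q) (iB : B.relIndex T = q) (sq : ∀ t ∈ T, t * t ∈ A ⊓ B) : S ≤ T := by
  have cA : ♯A = q * q := by rw [h.card_A, iB, cZ]
  have cB : ♯B = q * q := by rw [h.card_B, iA, cZ]
  have pm : ∀ g ∈ 𝐍 T, ∀ E ≤ T, Abelem 2 E → ♯E = q * q → cj g E = A ∨ cj g E = B := fun g hg E a b c =>
    (h.le_or' (cj_le_of_norm hg a) (b.cj g)).imp (eq_of_card_le · (by rw [card_cj, c, cA]))
      (eq_of_card_le · (by rw [card_cj, c, cB]))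
  have sw : ∀ g ∈ S ⊓ 𝐍 T, g ∉ T → cj g A = B ∧ cj g B = A := fun g hg ng => by
    have e := (pm g hg.2 A h.la h.ea cA).resolve_left fun e => ng (nA (mi hg.1 (cj_eq_self.1 e)))
    exact ⟨e, (pm g hg.2 B h.lb h.eb cB).resolve_right fun e' => h.nab (cj_inj.1 (e.trans e'.symm)).le⟩
  have fx : ∀ g ∈ S ⊓ 𝐍 T, g ∉ T → ∀ y, y * g = g * y → (y ∈ A ↔ y ∈ B) := fun g hg ng y c =>
    have e : g * y * g⁻¹ = y := mul_inv_eq_iff_eq_mul.2 c.symm
    ⟨fun m => e ▸ (sw g hg ng).1.le (conj_mem_cj.2 m), fun m => e ▸ (sw g hg ng).2.le (conj_mem_cj.2 m)⟩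
  by_contra ne
  have lR : T ≤ S ⊓ 𝐍 T := le_inf l (le_norm_self T)
  haveI := Fact.mk p2
  obtain ⟨g, hg, ng⟩ := SetLike.not_le_iff_exists.1 fun m : S ⊓ 𝐍 T ≤ T =>
    ne (Transfer.le_of_inf_normalizer_le hS.pi.isPGroup l le_rfl (l.trans (le_norm_self S)) m)
  have i : T.relIndex (S ⊓ 𝐍 T) = 2 := relIndex_eq_two_iff_exists_notMem_and.2 ⟨g, hg, ng, fun b hb =>
    or_iff_not_imp_right.2 fun nb => nA (mi (mul_mem hb.1 hg.1) (cj_eq_self.1 (by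
      rw [← cj_cj, (sw g hg ng).1, (sw b hb nb).2])))⟩
  have lF : ∀ F ≤ S ⊓ 𝐍 T, Abelem 2 F → ♯F = q * q → F ≤ T := fun F a b c => by_contra fun m => by
    obtain ⟨f, hf, nf⟩ := SetLike.not_le_iff_exists.1 m
    have k := card_inf_mul_relIndex T F
    have : ♯(T ⊓ F) ≤ q := cZ ▸ card_le_of_le fun y hy => by
      have := fx f (a hf) nf y (b.abel.mul_comm hy.2 hf)
      rcases h.inv y hy.1 (ab_sq b hy.2) with j | j
      exacts [mi j (this.1 j), mi (this.2 j) j]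
    rw [relIndex_eq_two_of_le i a m, c] at k
    nlinarith
  have nR : 𝐍 (S ⊓ 𝐍 T) ≤ 𝐍 T := fun g hg => mem_norm_of_cj_le (by
    nth_rw 1 [← h.sup_eq, cj_sup]
    exact sup_le (lF _ (cj_le_of_norm hg (h.la.trans lR)) (h.ea.cj g) ((card_cj g A).trans cA))
      (lF _ (cj_le_of_norm hg (h.lb.trans lR)) (h.eb.cj g) ((card_cj g B).trans cB)))
  have eS : S ⊓ 𝐍 T = S := le_antisymm inf_le_left (Transfer.le_of_inf_normalizer_le hS.pi.isPGroup
    inf_le_left le_rfl (inf_le_left.trans (le_norm_self S)) (inf_le_inf_left S nR))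
  rw [eS] at sw fx i nR
  have nZ : T ≤ 𝐍 (A ⊓ B) := norm_of_cent h.cZ
  have ab := ab_qt nZ sq
  refine h6.sc_Y hS pf l i (ne_bot_mono h.Z_ne (inf_le_left.trans h.la))
    (((abel_qt_iff nZ).1 ab.abel).trans (cent_symm h.cZ)) nR (n4 S hS) ?_ ?_ <;> rw [h.center_eq]
  · refine fun c => ⟨h.ea.le inf_le_left, fun t ht nt y hy cy e => ?_⟩
    have fy := fx t ht nt y cy
    rcases e with e | e
    · rcases h.inv y hy e with j | j
      exacts [mi j (fy.1 j), mi (fy.2 j) j]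
    obtain ⟨a, ha, b, hb, rfl⟩ := h.mul y hy
    have a' := (sw t ht nt).1.le (conj_mem_cj.2 ha)
    have b' := (sw t ht nt).2.le (conj_mem_cj.2 hb)
    have tt : t * (t * a * t⁻¹) * t⁻¹ = a := by
      rw [show t * (t * a * t⁻¹) * t⁻¹ = t * t * a * (t * t)⁻¹ by group, e]; group
    have e1 : t * a * t⁻¹ * (t * b * t⁻¹) = a * b := by rw [conj_mul, ← cy]; group
    have hz : b * (t * a * t⁻¹)⁻¹ ∈ A ⊓ B := mi (mem_of_eq (mul_mem (inv_mem ha)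
      (conj_mem_of_norm (h.nA (h.lb a')) b')) (by rw [e1]; group)) (mul_mem hb (inv_mem a'))
    have e2 := mem_cent.1 (c ht) _ hz
    have e3 : t * b * t⁻¹ = b * (t * a * t⁻¹)⁻¹ * a := by
      calc _ = t * (b * (t * a * t⁻¹)⁻¹) * t⁻¹ * (t * (t * a * t⁻¹) * t⁻¹) := by group
        _ = _ := by rw [← e2, tt]; group
    have e4 : a * (t * a * t⁻¹) = t * a * t⁻¹ * a := by
      have k1 := h.cz (h.la ha) hz
      have k2 := h.cz (h.lb a') hz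
      rw [e3] at e1
      generalize t * a * t⁻¹ = v at *
      rw [← mul_right_inj (b * v⁻¹), ← mul_assoc, k1, ← mul_assoc _ v a, k2, mul_assoc v, e1]; group
    have aB : a ∈ B := (h.mem_or ha a' e4).elim id fun m => tt ▸ (sw t ht nt).1.le (conj_mem_cj.2 m)
    exact mi (fy.2 (mul_mem aB hb)) (mul_mem aB hb)
  refine fun t ht nt _ => ⟨ab, ?_⟩
  have tZ : t ∈ 𝐍 (A ⊓ B) := cj_eq_self.1 (by rw [cj_inf, (sw t ht nt).1, (sw t ht nt).2, inf_comm])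
  have cT : ♯(qt (A ⊓ B) T) = q * q := by
    have := card_mul_relIndex (inf_le_left.trans h.la : A ⊓ B ≤ T)
    rw [← card_mul_relIndex h.la, cA, cZ, iA, mul_assoc] at this
    rw [card_qt nZ, Nat.eq_of_mul_eq_mul_left (by omega) this]
  have : qt (A ⊓ B) A ⊓ (qt (A ⊓ B) T ⊓ 𝐂₁ (qe (A ⊓ B) t)) = ⊥ := eq_bot_of_forall fun _ hw => by
    obtain ⟨a, ha, na, rfl⟩ := mem_qt.1 hw.1
    have := mem_cent1.1 hw.2.2
    rw [← qe_mul na tZ, ← qe_mul tZ na, eq_comm, qe_eq_iff (mul_mem tZ na) (mul_mem na tZ)] at this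
    refine qe_of_mem (mi ha (mem_of_eq ((sw t ht nt).1.le (conj_mem_cj.2 (mul_mem ha this.1))) (by group)))
  have := relIndex_of_inf_bot this ▸ relIndex_le_of_le_right (H := qt (A ⊓ B) A)
    (inf_le_left : _ ⊓ 𝐂₁ (qe (A ⊓ B) t) ≤ qt (A ⊓ B) T) (relIndex_ne_zero' _ _)
  rw [relIndex_qt inf_le_left nZ, iA] at this
  rw [cT, pow_two]
  exact ⟨Nat.mul_le_mul this this, by nlinarith⟩

theorem MxD.type2 [IsSimpleGroup G] (h : MxD D) (ns : NS (⊤ : Subgroup G)) (n4 : No4 G)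
    (hT : Syl 2 T (𝐍 D)) (hs : s ∈ T) (hx : x ∈ 𝐍 D) (o : orderOf x = 3)
    (i : s * x * s⁻¹ = x⁻¹) (i2 : D.relIndex T ≠ 2) (e : Abelem 2 D) (sq : ∀ t ∈ T, t * t ∈ D)
    (c : ∀ t ∈ T, t ∉ D → D ⊓ 𝐂₁ t ≤ 𝐂 T) : Ab2.Gd (⊤ : Subgroup G) ∨ ∃ n, 2 ≤ n ∧ Tg (2 ^ n) G := by
  have dT := hT.le_of_normal (normalIn_norm D) h.pi
  obtain ⟨Z, hZ⟩ : ∃ Z, Z = D ⊓ 𝐂 T := ⟨_, rfl⟩
  have zD : Z ≤ D := hZ ▸ inf_le_left
  have zc : Z ≤ 𝐂 T := hZ ▸ inf_le_right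
  have c' : ∀ t ∈ T, t ∉ D → D ⊓ 𝐂₁ t = Z := fun t ht nt =>
    hZ ▸ le_antisymm (le_inf inf_le_left (c t ht nt)) (inf_le_inf_left D (cent_le_cent1 ht))
  have sq' : ∀ t ∈ T, t * t ∈ Z := fun t ht => (em (t ∈ D)).elim (fun m => ab_sq e m ▸ one_mem Z)
    fun m => (c' t ht m).le (mi (sq t ht) (mem_cent1.2 (mul_assoc t t t)))
  have nZ := norm_of_cent (cent_symm zc)
  have der := (abel_qt_iff nZ).1 (ab_qt nZ sq').abel
  have k1 : ∀ t ∈ T, ∀ U ≤ T, (𝐂₁ t).relIndex U ≤ ♯Z := fun t ht U l => CIT.relIndex_le_card fun d hd =>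
    mem_of_eq (der (commutator_mem_commutator (inv_mem ht) (l hd))) (by group)
  have k2 : ∀ t ∈ T, t ∉ D → ♯Z * (𝐂₁ t).relIndex D = ♯D := fun t ht nt => by
    rw [← c' t ht nt, inf_comm, card_inf_mul_relIndex]
  have w : ¬ PiElt {3}ᶜ (s⁻¹ * (x * s * x⁻¹)) := fun e => o3_ne o ((o3_pi o).eq_one (inv_o3 o i ▸ e))
  have sD : s ∉ D := fun m => w ((p2_t3 h.pi).elt (mul_mem (inv_mem m) (conj_mem_of_norm hx m)))
  have cD : ♯D = ♯Z * ♯Z := by
    rw [← k2 s hs sD, le_antisymm (k1 s hs D dT) (c' s hs sD ▸ (h.n6.csq h.pi hx w).2.1)]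
  have z1 : 1 < ♯Z := one_lt_card.2 (hZ ▸ hT.pi.inf_cent_ne_bot h.pi hT.le h.ne)
  by_cases un : ∀ E ≤ T, Abelem 2 E → ♯D ≤ ♯E → E = D
  · refine .inl (gold (.inl ly) ns (sc_X (hT.syl_of_norm_le (fun g hg => cj_eq_self.1 (un _
      (cj_le_of_norm hg dT) (e.cj g) (card_cj g D).ge)) le_top) e dT un c' zD zc (fun t ht nt z hz => ?_)
      der cD.le) h.ne)
    refine CIT.exists_conj_of_ncard (S := (t * ·) '' Z) (fun d hd => ⟨_, der (commutator_mem_commutator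
      (inv_mem ht) (dT hd)), by group⟩) ?_ ⟨z, hz, rfl⟩
    rw [Set.ncard_image_of_injective _ (mul_right_injective t), CIT.ncard_sub]
    exact (Nat.eq_of_mul_eq_mul_left (by omega) (cD.symm.trans (k2 t ht nt).symm)).le
  push Not at un
  obtain ⟨E, lE, eE, cE, ne⟩ := un
  have nE : ¬ E ≤ D := fun m => ne (eq_of_card_le m cE)
  obtain ⟨b, hb, nb⟩ := SetLike.not_le_iff_exists.1 nE
  have iZ : D ⊓ E ≤ Z := (inf_le_inf_left D (le_cent1_iff.2 (eE.abel hb))).trans (c' b (lE hb) nb).le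
  have nD : ¬ D ≤ Z := fun m => by have := card_le_of_le m; nlinarith
  obtain ⟨d, hd, nd⟩ := SetLike.not_le_iff_exists.1 nD
  have j1 : D.relIndex T ≤ ♯Z := by
    refine le_trans ?_ (k1 d (dT hd) T le_rfl)
    rw [← inf_relIndex_left T (𝐂₁ d)]
    exact relIndex_le_of_le_left (fun t ht => by_contra fun nt => nd ((c' t ht.1 nt).le
      (mi hd (mem_cent1.2 (mem_cent1.1 ht.2).symm)))) (relIndex_ne_zero' _ _)
  have j2 := relIndex_le_of_le_right (H := D) lE (relIndex_ne_zero' _ _)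
  have j3 := card_inf_mul_relIndex D E
  have j4 := card_le_of_le iZ
  have eZ : D ⊓ E = Z := eq_of_card_le iZ (by nlinarith)
  have j5 : D.relIndex T = ♯Z := le_antisymm j1 (by nlinarith)
  have j6 : D.relIndex E = ♯Z := le_antisymm (j2.trans j1) (by nlinarith)
  have eT : D ⊔ E = T := eq_of_card_le (sup_le dT lE) (by
    rw [← card_mul_relIndex dT, ← card_mul_relIndex (le_sup_left : D ≤ D ⊔ E),
      relIndex_sup_norm' (.inl (lE.trans hT.le)), j5, j6])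
  have mul : ∀ t ∈ T, ∃ a ∈ D, ∃ b ∈ E, a * b = t := fun t ht => (mem_sup_norm' (lE.trans hT.le)).1 (eT.ge ht)
  have ab : AB T D E T := ⟨e, eE, .refl hT.pi, dT, lE, mul, fun t ht t2 => ?_,
    fun m => nD ((le_inf le_rfl m).trans iZ), nE⟩
  · have q2 : 2 < ♯Z := by omega
    obtain ⟨S, hS, l⟩ := exists_syl_le le_top hT.pi
    have := card_mul_relIndex lE
    rw [← card_mul_relIndex dT, j5, ← j3, eZ, j6, cD] at this
    have eS := le_antisymm l (ab.swap h.n6 ns.perf n4 hS l (hT.eq_of_le (le_inf l hT.le) inf_le_right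
      (hS.pi.le inf_le_left)).ge q2 (eZ ▸ rfl) j5 (Nat.eq_of_mul_eq_mul_left (by positivity) this) (eZ ▸ sq'))
    have := AB.simple ⟨e, eE, eS ▸ hS, dT, lE, mul, ab.inv, ab.nab, nE⟩ (j5 ▸ q2)
    rw [j5, (h.pi.le zD).card_eq] at this
    rw [(h.pi.le zD).card_eq] at q2
    exact .inr ⟨_, (Nat.pow_lt_pow_iff_right (by decide)).1 (show 2 ^ 1 < _ from q2), this⟩
  obtain ⟨a, ha, b, hb, rfl⟩ := mul t ht
  refine (em (b ∈ D)).imp (mul_mem ha) fun nb => mul_mem (eZ.ge ((c' b (lE hb) nb).le (mi ha (mem_cent1.2 ?_)))).2 hb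
  rw [← inv_eq_of_mul_eq_one_right t2, mul_inv_rev, ab_inv e ha, ab_inv eE hb]

theorem N6.main [IsSimpleGroup G] (h : N6 G) (nc : ¬ IsMulCommutative G) :
    Ab2.Gd (⊤ : Subgroup G) ∨ GWC G ∨ ∃ n, 2 ≤ n ∧ Tg (2 ^ n) G := by
  have ns := ns_top nc
  haveI := Fact.mk p2
  by_cases n4 : No4 G
  · by_cases i : Involves (Equiv.Perm (Fin 4)) G
    swap
    · exact .inl (Fgs1.gd_of_s4free ns i)
    obtain ⟨U, hU⟩ := inv_of_s4 i
    obtain ⟨D, -, ⟨k, d0, iv⟩, mx⟩ := exists_maximal (P := fun U => P2 U ∧ U ≠ ⊥ ∧ Loc.Inv 3 (𝐍 U)) hU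
    have m : MxD D := ⟨h, k, d0, iv, fun E a b c => (mx E ⟨a, ne_bot_mono d0 b, c⟩ b).le⟩
    obtain ⟨s, hs, x, hx, ⟨j, e⟩, o, i⟩ := iv
    obtain ⟨T, hT, l⟩ := exists_syl_le (zpowers_le.2 hs) (PiElt.zpowers (π := {2})
      ((piNat_pow_self p2 j).dvd (orderOf_dvd_of_pow_eq_one e)))
    have hs' := zpowers_le.1 l
    have i2 := m.type1 ns.perf n4 hT hs' hx o i
    obtain ⟨a, b, c⟩ := (m.step hT hs' hx o i).resolve_left i2
    exact (m.type2 ns n4 hT hs' hx o i i2 a b c).imp_right .inr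
  simp only [No4, not_forall, not_not] at n4
  obtain ⟨S, hS, t, ht, i, c⟩ := n4
  rcases two_subgroup_cases_of_card_centralizer hS.pi.isPGroup ht i c with ⟨n, a, b, -, k⟩ | ⟨n, a, b, k⟩ | k
  · exact .inr (.inl (gw_simple G ‹_› nc (dg_of_syl hS (dc_of_dh k))))
  · have hQ := k.isQ8_Q k.two_le k.orderOf_b_one
    obtain ⟨x, hx, o⟩ := BG.exists_mem_orderOf_eq p3 ((k.three_dvd_of_top (hS.isSylowIn p2)
      (Invol.pResidual_two_eq_top_iff.2 fun H e => absurd (Fgs1.five_le_relIndex (H := H) ns fun l => by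
        simp [top_le_iff.1 l] at e) (by rw [relIndex_top_right, e]; decide)) (k.klein_T k.orderOf_b_zero) (k.sup_le_S _ _)
      (k.sup_le_S _ _) hQ).2.trans (relIndex_dvd_card _ _))
    have i : Iv _ := hQ.orderOf_sq
    exact absurd (h.eq_one o i.piElt (mul_inv_eq_iff_eq_mul.1 (hQ.eq_sq_of_invol (conj_mem_of_norm hx
      (mul_mem hQ.left_mem hQ.left_mem)) (i.conj x))).symm) i.ne_one
  · exact .inl (.inr (.inl ⟨S, hS, k⟩))

/-- the simple groups without elements of order six -/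
theorem N6.cases [IsSimpleGroup G] (h : N6 G) (nc : ¬ IsMulCommutative G) :
    (∃ (F : Type) (_ : Field F) (_ : Fintype F), Fintype.card F % 12 ≠ 1 ∧ Fintype.card F % 12 ≠ 11 ∧
        Nonempty (G ≃* PSL(2, F))) ∨
      (∃ (F : Type) (_ : Field F) (_ : Fintype F) (n : ℕ), 2 ≤ n ∧ n % 6 ≠ 0 ∧ Fintype.card F = 2 ^ n ∧
        Nonempty (G ≃* PSL(3, F))) ∨
      (∃ (F : Type) (_ : Field F) (_ : Fintype F) (n : ℕ), 2 ≤ n ∧ n % 6 ≠ 3 ∧ Fintype.card F = (2 ^ n) ^ 2 ∧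
        Nonempty (G ≃* Cfsg.PSU 3 F (2 ^ n))) ∨ Cfsg.Lie.IsoSuzuki G := by
  have l2 : ∀ (F : Type) [Field F] [Fintype F], Nonempty (G ≃* PSL(2, F)) → ∃ (F : Type) (_ : Field F)
      (_ : Fintype F), Fintype.card F % 12 ≠ 1 ∧ Fintype.card F % 12 ≠ 11 ∧ Nonempty (G ≃* PSL(2, F)) :=
    fun F _ _ e => ⟨F, _, _, (l2_n6 (h.of_equiv e.some)).1, (l2_n6 (h.of_equiv e.some)).2, e⟩
  have p9 : ∀ n k : ℕ, 2 ^ (6 * n + k) % 9 = 2 ^ k % 9 := fun n k => by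
    rw [pow_add, pow_mul, Nat.mul_mod, Nat.pow_mod]; simp
  rcases h.main nc with k | k | ⟨n, n2, F, _, _, c, k⟩
  · rcases k.cases (ns_top nc) with (⟨F, _, _, -, e⟩ | k | ⟨F, _, _, n, n2, c, ⟨e⟩⟩) | ⟨F, _, _, -, -, e⟩ | k
    · exact .inl (l2 F e)
    · exact .inr (.inr (.inr k))
    · refine .inr (.inr (.inl ⟨F, _, _, n, n2, fun m => ?_, c, ⟨e⟩⟩))
      haveI := CF.BN.Suz.charP_of_card (c.trans (pow_mul 2 n 2).symm)
      refine u3_n6 c (by rw [CharTwo.neg_eq, one_pow]) ?_ (h.of_equiv e)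
      have := p9 (n / 6) 3
      rw [← m, Nat.div_add_mod, m] at this
      omega
    · exact .inl (l2 F e)
    · exact absurd k (h.not_jr (ns_top nc))
  · rcases k with ⟨F, _, _, -, -, e⟩ | ⟨⟨e⟩⟩
    exacts [.inl (l2 F e), absurd (h.of_equiv e) a7_n6]
  haveI := CF.BN.Suz.charP_of_card c
  rcases k with ⟨⟨e⟩⟩ | ⟨⟨e⟩⟩
  · refine .inr (.inl ⟨F, _, _, n, n2, fun m => l3_n6 ?_ (h.of_equiv e), c, ⟨e⟩⟩)
    have := p9 (n / 6) 0
    rw [← m, Nat.div_add_mod, m, ← c] at this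
    omega
  · exact absurd (h.of_equiv e) sp4_n6

end

end CF.Cl2
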