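/-
Strongly closed 2-subgroups of class two: minimal overgroups.
-/
import Cfsg.Agent.Loc.SK4
import Cfsg.Agent.SC2.I
import Cfsg.Agent.PLocal.FFLoc
set_option autoImplicit false
set_option linter.unusedSectionVars false

namespace CF.Kz
open Subgroup Cfsg CF.BG CF.Sig CF.GW CF.Ab2 CF.SC2
open CF.Loc (ncl le_ncl ncl_le ncl_le_iff ncl_le_of_le le_normalizer_ncl cj_le_ncl ncl_mono UMax)
open CF.Cl2 (ncl_normal)
open scoped commutatorElement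

universe u
variable {G : Type u} [Group G] [Finite G]
variable {A B D E F H K L M N O P Q S T U V W X Y Z : Subgroup G} {a b c d e f g k l n o s t u v w x y z : G}

/-- the core of `A` in `L` -/
def Qc (A L : Subgroup G) : Subgroup G where
  carrier := {x | ∀ l ∈ L, l * x * l⁻¹ ∈ A}
  one_mem' l _ := by simp
  mul_mem' a b l hl := mem_of_eq (mul_mem (a l hl) (b l hl)) (by group)
  inv_mem' a l hl := mem_of_eq (inv_mem (a l hl)) (by group)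

def Yc (A L : Subgroup G) : Subgroup G := ncl (𝐙 A) L
def Vc (A L : Subgroup G) : Subgroup G := ⁅Yc A L, L⁆

theorem Qc_le : Qc A L ≤ A := fun x h => by simpa using h 1 (one_mem _)
theorem nQc : L ≤ 𝐍 (Qc A L) :=
  le_norm_iff.2 fun g hg x hx l hl => mem_of_eq (hx (l * g) (mul_mem hl hg)) (by group)
theorem le_Qc (a : D ≤ A) (n : L ≤ 𝐍 D) : D ≤ Qc A L := fun _ hx _ hl => a (conj_mem_of_norm (n hl) hx)
theorem nYc : L ≤ 𝐍 (Yc A L) := le_normalizer_ncl _ _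
theorem ZY : 𝐙 A ≤ Yc A L := le_ncl _ _
theorem nVc : L ≤ 𝐍 (Vc A L) := norm_comm_right _ _
theorem VY : Vc A L ≤ Yc A L := comm_le_left nYc

theorem cj_Qc (hn : n ∈ 𝐍 A) : cj n (Qc A L) = Qc A (cj n L) := by
  ext x
  refine mem_cj.trans ⟨fun h l hl => mem_of_eq (conj_mem_of_norm hn (h _ (mem_cj.1 hl))) (by group), fun h l hl =>
    mem_of_eq (conj_mem_of_norm' hn (h _ (conj_mem_cj.2 hl))) (by group)⟩

theorem cj_Yc (hn : n ∈ 𝐍 A) : cj n (Yc A L) = Yc A (cj n L) :=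
  (Loc.cj_ncl n _ L).trans (congrArg (ncl · _) (cj_of_norm (norm_center A hn)))

theorem cj_Vc (hn : n ∈ 𝐍 A) : cj n (Vc A L) = Vc A (cj n L) := by rw [Vc, cj_comm, cj_Yc hn]; rfl

theorem cm1 (e : x * y = y * x) : ⁅x, y⁆ = 1 := commutatorElement_eq_one_iff_mul_comm.2 e
theorem cm1' (e : ⁅x, y⁆ = 1) : x * y = y * x := commutatorElement_eq_one_iff_mul_comm.1 e

/-- the elements fixing `w` modulo `D` -/
def cM (w : G) (D : Subgroup G) : Subgroup G where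
  carrier := {l | l ∈ 𝐍 D ∧ ⁅l, w⁆ ∈ D}
  one_mem' := ⟨one_mem _, by simp⟩
  mul_mem' a b := ⟨mul_mem a.1 b.1, mem_of_eq (mul_mem (conj_mem_of_norm a.1 b.2) a.2) (by simp only [commutatorElement_def]; group)⟩
  inv_mem' a := ⟨inv_mem a.1, mem_of_eq (conj_mem_of_norm' a.1 (inv_mem a.2)) (by simp only [commutatorElement_def]; group)⟩

/-- strongly closed of class two, in a group without abelian strongly closed 2-subgroups -/
structure Hy (A : Subgroup G) : Prop extends SK A ⊤ where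
  cls : ⁅A, A⁆ ≤ 𝐂 A
  ne : A ≠ ⊥
  nsc : ∀ E : Subgroup G, Abel E → SK E ⊤ → E = ⊥

namespace Hy
variable (h : Hy A)
include h

theorem der : ⁅A, A⁆ ≤ 𝐙 A := le_inf (der_le A) h.cls
theorem cm (ha : a ∈ A) (hb : b ∈ A) : ⁅a, b⁆ ∈ 𝐙 A := h.der (commutator_mem_commutator ha hb)
theorem nrm (z : 𝐙 A ≤ D) (l : D ≤ A) : A ≤ 𝐍 D := norm_of_der_le l (h.der.trans z)

theorem bl (ha : a ∈ A) (hb : b ∈ A) (hc : c ∈ A) : ⁅a * b, c⁆ = ⁅a, c⁆ * ⁅b, c⁆ := by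
  rw [(h.cm hb hc).2 _ (h.cm ha hc).1, show ⁅a * b, c⁆ = a * ⁅b, c⁆ * a⁻¹ * ⁅a, c⁆ by simp only [commutatorElement_def]; group,
    (h.cm hb hc).2 a ha, mul_inv_cancel_right]

theorem br (ha : a ∈ A) (hb : b ∈ A) (hc : c ∈ A) : ⁅a, b * c⁆ = ⁅a, b⁆ * ⁅a, c⁆ := by
  rw [show ⁅a, b * c⁆ = ⁅a, b⁆ * (b * ⁅a, c⁆ * b⁻¹) by simp only [commutatorElement_def]; group,
    (h.cm ha hc).2 b hb, mul_inv_cancel_right]

theorem sq (ha : a ∈ A) (hb : b ∈ A) : ⁅a * a, b⁆ = ⁅a, b * b⁆ := by rw [h.bl ha ha hb, h.br ha hb hb]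

end Hy

/-- `A` lies in a unique maximal subgroup `M` of `L`, and `Z(A)` in the core -/
structure Lc (A M L : Subgroup G) : Prop extends Hy A where
  u : UMax A M L
  nn : ¬ L ≤ 𝐍 A
  z : 𝐙 A ≤ Qc A L

namespace Lc
variable (h : Lc A M L)
include h

theorem aL : A ≤ L := h.u.le.trans h.u.lt.le
theorem ex : ∃ g ∈ L, g ∉ M := let ⟨g, a, b⟩ := SetLike.exists_of_lt h.u.lt; ⟨g, a, b⟩
theorem nM : L ⊓ 𝐍 A ≤ M := h.u.le_of_ne (le_inf h.aL (le_norm_self A)) inf_le_left fun e => h.nn (e.ge.trans inf_le_right)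
theorem top (a : A ≤ K) (hg : g ∈ L) (m : g ∈ K) (ng : g ∉ M) : L ≤ K :=
  (h.u.eq_of_not_le (le_inf h.aL a) inf_le_left fun e => ng (e (mi hg m))).ge.trans inf_le_right

protected theorem cj (hn : n ∈ 𝐍 A) : Lc A (cj n M) (cj n L) := by
  refine ⟨h.toHy, ?_, fun e => h.nn ?_, ?_⟩
  · have : UMax (cj n A) (cj n M) (cj n L) := h.u.cj n
    rwa [cj_of_norm hn] at this
  · rwa [cj_le_iff, cj_of_mem (inv_mem hn)] at e
  · rw [← cj_Qc hn, ← cj_of_norm (norm_center A hn)]; exact cj_mono n h.z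

theorem gen0 (n : L ≤ 𝐍 K) (a : A ≤ K) : L ≤ K := by
  obtain ⟨g, hg, ng⟩ := h.ex
  obtain ⟨y, hy, m, hm, rfl⟩ := (h.toSK.mono h.aL le_top).frat (normalIn_inf_left n) (le_inf h.aL a) hg
  exact h.top a hy.1 hy.2 fun e => ng (mul_mem e (h.nM hm))

theorem opp (hg : g ∈ L) (ng : g ∉ M) (a : A ≤ K) (b : cj g A ≤ K) : L ≤ K := by
  have := h.u.sup_cj (le_antisymm (ncl_le h.aL (le_norm_self L)) (h.gen0 (le_normalizer_ncl _ _) (le_ncl _ _))) hg ng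
  exact this.ge.trans (sup_le a b)

theorem nQ : ¬ A ≤ Qc A L := fun e => h.nn (le_antisymm Qc_le e ▸ nQc)
theorem YQ : Yc A L ≤ Qc A L := ncl_le h.z nQc
theorem YA : Yc A L ≤ A := h.YQ.trans Qc_le
theorem VA : Vc A L ≤ A := VY.trans h.YA
theorem cQ : Qc A L ≤ 𝐂 (Yc A L) := cent_symm (ncl_le (cent_symm (Qc_le.trans (cent_symm inf_le_right))) (norm_cent nQc))
theorem abY : Abel (Yc A L) := h.YQ.trans h.cQ
theorem cy (hy : y ∈ Yc A L) (hc : c ∈ Qc A L) : y * c = c * y := h.cQ hc y hy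

/-- normalized by two opposite conjugates of `A` -/
theorem nn2 (hg : g ∈ L) (ng : g ∉ M) (a : 𝐙 A ≤ D) (b : D ≤ A) (a' : cj g (𝐙 A) ≤ D) (b' : D ≤ cj g A) : L ≤ 𝐍 D := by
  refine h.opp hg ng (h.nrm a b) ?_
  have := cj_mono g (h.nrm (D := cj g⁻¹ D) (cj_le_iff.1 a') (le_cj_iff.1 b'))
  rwa [cj_norm, cj_cj_inv] at this

theorem Qg (hg : g ∈ L) : Qc A L ≤ cj g A := cj_of_norm (nQc hg) ▸ cj_mono g Qc_le
theorem Zg (hg : g ∈ L) : cj g (𝐙 A) ≤ Yc A L := cj_le_of_norm (nYc hg) ZY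

theorem core (hg : g ∈ L) (ng : g ∉ M) (ha : a ∈ A) (e : g * a * g⁻¹ ∈ A) : a ∈ Qc A L :=
  have hg := inv_mem hg
  le_Qc inf_le_left (h.nn2 hg (mt (inv_mem_iff.1) ng) (le_inf inf_le_left (h.z.trans (h.Qg hg))) inf_le_left
    (le_inf ((h.Zg hg).trans h.YA) (cj_mono _ inf_le_left)) inf_le_right) (mi ha (mem_cj_inv.2 e))

theorem gen (hg : g ∈ L) (ng : g ∉ M) (ha : a ∈ A) (na : a ∉ Qc A L) (l : A ≤ K) (m : g * a * g⁻¹ ∈ K) : L ≤ K := by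
  refine h.top l (cmem hg (h.aL ha)) m fun e => na ?_
  obtain ⟨m, hm, k⟩ := h.into2 h.u.le le_top (zpowers_le.2 e) ((h.pi.elt ha).conj g).zpowers
  exact h.core (mul_mem (h.u.lt.le hm) hg) (fun e => ng ((mul_mem_cancel_left hm).1 e)) ha
    (mem_of_eq (k _ (mem_zpowers _) (cx_conj (mem_cx ha) trivial)) (by group))

theorem odd (l : A ≤ K) (k : ∀ o ∈ L, Eo o → o ∈ K) : L ≤ K := by
  obtain ⟨T, hT, a⟩ := exists_syl_le h.aL h.pi
  by_contra n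
  exact h.u.lt.not_ge (le_of_syl hT ((le_inf hT.le (h.norm hT.pi a le_top)).trans h.nM) fun P m o => le_trans
    (fun x hx => mi (m hx) (k x (m hx) (o.elt hx))) (h.u.le_of_ne (le_inf h.aL l) inf_le_left fun e => n (e.ge.trans inf_le_right)))

theorem Yeq (hg : g ∈ L) (ng : g ∉ M) (hy : y ∈ Yc A L) : ∃ z ∈ 𝐙 A, ∃ w ∈ 𝐙 A, z * (g * w * g⁻¹) = y := by
  have l := sup_le ZY (h.Zg hg)
  obtain ⟨z, hz, w, hw, e⟩ := (mem_sup_norm' (norm_of_cent (h.abY.cent (h.Zg hg) ZY))).1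
    (ncl_le le_sup_left (h.nn2 hg ng le_sup_left (l.trans h.YA) le_sup_right (l.trans (h.YQ.trans (h.Qg hg)))) hy)
  obtain ⟨w, hw', rfl⟩ := mem_cj_iff.1 hw
  exact ⟨z, hz, w, hw', e⟩

theorem cL (hg : g ∈ L) (ng : g ∉ M) (a : z ∈ 𝐂 A) (b : g * z * g⁻¹ ∈ 𝐂 A) : z ∈ 𝐂 L :=
  le_cent1_iff.1 (h.opp (inv_mem hg) (mt (inv_mem_iff.1) ng) (le_cent1_iff.2 a)
    (le_cent1_iff.2 (by rw [← cj_cent]; exact mem_cj_inv.2 b)))

theorem QL : ⁅Qc A L, L⁆ ≤ Yc A L := by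
  rw [commutator_comm]
  refine (le_centMod.1 (h.gen0 (norm_centMod nQc nYc) (le_centMod.2 ⟨h.aL.trans nYc, ?_⟩))).2
  exact (commutator_mono le_rfl Qc_le).trans (h.der.trans ZY)

theorem QQ (ha : a ∈ Qc A L) (hb : b ∈ Qc A L) : ⁅a, b⁆ ∈ 𝐂 L := by
  obtain ⟨g, hg, ng⟩ := h.ex
  refine h.cL hg ng (h.cm (Qc_le ha) (Qc_le hb)).2 (mem_of_eq (h.cm (ha g hg) (hb g hg)).2 ?_)
  simp only [commutatorElement_def]; group

theorem nF (a : A ≤ 𝐍 F) (v : Vc A L ≤ F) : L ≤ 𝐍 (F ⊓ Qc A L) := by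
  refine h.odd (norm_inf a (h.aL.trans nQc)) fun o ho eo => mem_norm_of fun x hx => ⟨?_, conj_mem_of_norm (nQc ho) hx.2⟩
  have l := zpowers_le.2 ho
  have := comm_comm_eq (l.trans nQc) (cop2' eo.zpowers (h.pi.le Qc_le)) (.inl (cyc_zpowers o).sol)
  have := v (commutator_mono ((commutator_mono le_rfl l).trans h.QL) l
    (this.ge (commutator_mem_commutator hx.2 (mem_zpowers o))))
  exact mem_of_eq (mul_mem (inv_mem this) hx.1) (by rw [commutatorElement_def]; group)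

theorem n1 (ha : a ∈ A) (na : a ∉ Qc A L) (hy : y ∈ Yc A L) (e : y * a = a * y) : y ∈ 𝐙 A := by
  obtain ⟨g, hg, ng⟩ := h.ex
  obtain ⟨z, hz, w, hw, rfl⟩ := h.Yeq hg ng hy
  have := h.gen (inv_mem hg) (mt inv_mem_iff.1 ng) ha na (le_cent1_iff.2 hw.2) (mem_cent1.2 (by
    rw [← mul_assoc a, hz.2 a ha, mul_assoc, mul_assoc z, mul_right_inj] at e
    calc _ = g⁻¹ * (a * (g * w * g⁻¹)) * g := by group
      _ = _ := by rw [← e]; group))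
  exact mul_mem hz (mem_of_eq hw (by rw [mem_cent1.1 (this hg), mul_inv_cancel_right]))

theorem n2 (ha : a ∈ A) (na : a ∉ Qc A L) (hy : y ∈ Yc A L) (e : ⁅y, a⁆ ∈ 𝐂 L) : y ∈ 𝐙 A := by
  obtain ⟨g, hg, ng⟩ := h.ex
  obtain ⟨z, hz, w, hw, rfl⟩ := h.Yeq hg ng hy
  have wA := h.YA (h.Zg hg (conj_mem_cj.2 hw))
  rw [h.bl hz.1 wA ha, cm1 (hz.2 a ha).symm, one_mul] at e
  have n : L ≤ 𝐍 (A ⊓ 𝐂 L) := norm_of_cent' inf_le_right
  have k : L ≤ cM w (A ⊓ 𝐂 L) := h.gen (inv_mem hg) (mt inv_mem_iff.1 ng) ha na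
    (fun b hb => ⟨n (h.aL hb), mem_of_eq (one_mem _) (cm1 (hw.2 b hb))⟩) ⟨n (cmem (inv_mem hg) (h.aL ha)),
      mem_of_eq (conj_mem_of_norm' (n hg) (inv_mem (mi (h.cm wA ha).1 e))) (by simp only [commutatorElement_def]; group)⟩
  have c : ⁅zpowers w, L⁆ ≤ A ⊓ 𝐂 L := (le_centMod.1 (zpowers_le.2 (mem_centMod.2 ⟨cent_le_norm _ (cent_anti inf_le_left hw.2),
    fun l hl => commutatorElement_inv l w ▸ inv_mem (k hl).2⟩))).2
  have := h.odd (le_cent1_iff.2 hw.2) fun o ho eo => cent_le_cent1 (mem_zpowers w) (cent_of_stable (cop2' eo.zpowers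
    (h.pi.le inf_le_left)) ((commutator_mono le_rfl (zpowers_le.2 ho)).trans c) ((zpowers_le.2 ho).trans (cent_symm inf_le_right))
      (mem_zpowers o))
  exact mul_mem hz (mem_of_eq hw (by rw [mem_cent1.1 (this hg), mul_inv_cancel_right]))

theorem sqY (hy : y ∈ Yc A L) : y * y ∈ 𝐙 A := by
  obtain ⟨a, ha, na⟩ := SetLike.not_le_iff_exists.1 h.nQ
  obtain ⟨t, ht, nt, e⟩ := exists_sq_mem (h.pi.elt ha) na
  replace ht := zpowers_le.2 ha ht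
  exact h.n1 ht nt (mul_mem hy hy) (cm1' (by rw [h.sq (h.YA hy) ht, cm1 (h.cy hy e)]))

theorem sqZ (hz : z ∈ 𝐙 A) : z * z ∈ 𝐂 L :=
  let ⟨_, hg, ng⟩ := h.ex
  h.cL hg ng (mul_mem hz hz).2 (mem_of_eq (h.sqY (h.Zg hg (conj_mem_cj.2 hz))).2 (by group))

theorem YZV : Yc A L ≤ 𝐙 A ⊔ Vc A L := fun y hy => by
  obtain ⟨g, hg, ng⟩ := h.ex
  obtain ⟨z, hz, w, hw, rfl⟩ := h.Yeq hg ng hy
  exact mul_mem (mem_sup_left hz) (mem_of_eq (mul_mem (mem_sup_right (inv_mem (commutator_mem_commutator (ZY hw) hg)))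
    (mem_sup_left hw)) (by rw [commutatorElement_def]; group))

theorem triv (c : L ≤ 𝐂 (𝐙 A)) : Vc A L = ⊥ :=
  comm_eq_bot'.2 (c.trans (cent_anti (ncl_le le_rfl (norm_of_cent c))))

theorem exY (c : ¬ L ≤ 𝐂 (𝐙 A)) : ∃ y ∈ Vc A L, y ∉ 𝐙 A := by
  by_contra! k
  exact c (h.gen0 (norm_cent (le_antisymm ZY (h.YZV.trans (sup_le le_rfl k)) ▸ nYc)) (cent_symm inf_le_right))

theorem idx (hy : y ∈ Yc A L) (ny : y ∉ 𝐙 A) : ♯A * ♯(𝐙 A) ≤ ♯(Yc A L) * ♯(Qc A L) := by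
  obtain ⟨g, hg, ng⟩ := h.ex
  let φ : A →* G := MonoidHom.mk' (fun a => ⁅y, a⁆) fun a b => h.br (h.YA hy) a.2 b.2
  have r : φ.range ≤ 𝐙 A := by rintro _ ⟨a, rfl⟩; exact h.cm (h.YA hy) a.2
  have k : ♯φ.ker ≤ ♯(Qc A L) := card_map (H := φ.ker) A.subtype_injective ▸ card_le (by
    rintro _ ⟨a, ha, rfl⟩
    exact by_contra fun e => ny (h.n1 a.2 e hy (cm1' ha)))
  have i : φ.range ⊓ cj g⁻¹ (𝐙 A) = ⊥ := eq_bot_of_forall (by
    rintro _ ⟨⟨a, rfl⟩, e⟩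
    exact cm1 (h.cy hy (by_contra fun k => ny (h.n2 a.2 k hy (h.cL hg ng (r ⟨a, rfl⟩).2 (mem_cj_inv.1 e).2)))))
  have j := card_le (sup_le (r.trans ZY) (h.Zg (inv_mem hg)))
  rw [card_sup_of_inf_bot (.inl (norm_of_cent (h.abY.cent (r.trans ZY) (h.Zg (inv_mem hg))))) i, card_cj] at j
  rw [← φ.ker.index_mul_card, index_ker, mul_right_comm]
  exact Nat.mul_le_mul j k

end Lc
end CF.Kz
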