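/-
Strongly closed 2-subgroups of class two: control of fusion, partners.
-/
import Cfsg.Agent.Loc.SK5
set_option autoImplicit false
set_option linter.unusedSectionVars false

namespace CF.Kz
open Subgroup Cfsg CF.BG CF.Sig CF.GW CF.Ab2 CF.SC2
open CF.Loc (ncl le_ncl ncl_le ncl_le_iff ncl_le_of_le le_normalizer_ncl cj_le_ncl ncl_mono UMax)
open CF.Cl2 (ncl_normal)
open scoped commutatorElement

universe u
variable {G : Type u} [Group G] [Finite G] {𝓕 : Set (Subgroup G)}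
variable {A B D E F H K L L' M N O P Q S T U V W X Y Z : Subgroup G} {a b c d e f g k l m n o s t u v w x y z : G}

/-- on `D`, `g` moves the family `𝓕` as an element of `N(A)` does -/
def Gd (A : Subgroup G) (𝓕 : Set (Subgroup G)) (D : Subgroup G) (g : G) : Prop :=
  ∃ n ∈ 𝐍 A, ∀ F ∈ 𝓕, ∀ d ∈ D, g * d * g⁻¹ ∈ F ↔ n * d * n⁻¹ ∈ F

theorem Gd.mono (h : Gd A 𝓕 D g) (l : E ≤ D) : Gd A 𝓕 E g := let ⟨n, a, b⟩ := h; ⟨n, a, fun F c d e => b F c d (l e)⟩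
theorem Gd.of (h : g ∈ 𝐍 A) : Gd A 𝓕 D g := ⟨g, h, fun _ _ _ _ => .rfl⟩

section
variable (inv : ∀ n ∈ 𝐍 A, ∀ F ∈ 𝓕, cj n F ∈ 𝓕)
include inv

theorem Gd.mul (h : Gd A 𝓕 D g) (j : Gd A 𝓕 (cj g D) k) : Gd A 𝓕 D (k * g) := by
  obtain ⟨n, a, b⟩ := h
  obtain ⟨m, c, e⟩ := j
  refine ⟨m * n, mul_mem c a, fun F hF d hd => ?_⟩
  have := (e F hF _ (conj_mem_cj.2 hd)).trans (mem_cj_inv.symm.trans ((b _ (inv _ (inv_mem c) F hF) d hd).trans mem_cj_inv))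
  simpa only [mul_inv_rev, mul_assoc] using this

theorem Gd.inv' (h : Gd A 𝓕 D g) : Gd A 𝓕 (cj g D) g⁻¹ := by
  obtain ⟨n, a, b⟩ := h
  refine ⟨n⁻¹, inv_mem a, fun F hF d hd => ?_⟩
  have := b _ (inv n a F hF) _ (mem_cj.1 hd)
  rw [conj_mem_cj, mem_cj] at this
  simpa [mul_assoc] using this.symm

theorem Hy.fl (h : Hy A) (loc : ∀ M L, Lc A M L → ∀ F ∈ 𝓕, L ≤ 𝐍 (F ⊓ Qc A L)) (l : D ≤ A) (e : cj g D ≤ A) :
    Gd A 𝓕 D g := by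
  induction hn : ♯A - ♯D using Nat.strong_induction_on generalizing D g with
  | _ _ ih =>
  subst hn
  replace ih : ∀ {E g}, ♯D < ♯E → E ≤ A → cj g E ≤ A → Gd A 𝓕 E g := fun c a b =>
    ih _ (by have := card_le a; omega) a b rfl
  rcases l.eq_or_lt with rfl | lt
  · exact .of (mem_norm_of_cj_le e)
  have lt' : ∀ {k}, cj k D ≤ A → ♯D < ♯(A ⊓ 𝐍 (cj k D)) := fun {k} a => card_cj k D ▸ card_lt (h.pi.nil.lt_inf_norm
    (a.lt_of_ne fun e => (card_lt lt).ne (by rw [← e, card_cj])))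
  obtain ⟨k, -, e1, sk, e2⟩ := h.full le_top (inf_le_right : A ⊓ 𝐍 D ≤ 𝐍 D) (h.pi.le inf_le_left)
  rw [cj_norm] at sk e2
  have q1 : cj k (A ⊓ 𝐍 D) ≤ A := cj_le_of fun y hy => e1 y hy (mem_cx hy.1)
  have l1 : D ≤ A ⊓ 𝐍 D := le_inf l (le_norm_self D)
  have EA := (cj_mono k l1).trans q1
  have g1 := (ih (by simpa using lt' (k := 1) (by simpa using l)) inf_le_left q1).mono l1
  have q2 : cj (k * g⁻¹) (A ⊓ 𝐍 (cj g D)) ≤ 𝐍 (cj k D) := by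
    rw [cj_inf, cj_norm, cj_cj, inv_mul_cancel_right]; exact inf_le_right
  obtain ⟨m, hm, e3⟩ := sk.into q2 ((h.pi.le inf_le_left).cj _)
  have g2 := ((ih (g := m * (k * g⁻¹)) (lt' e) inf_le_left (cj_le_of fun y hy => mem_of_eq (e3 _ (conj_mem_cj.2 hy)
    (e2 _ (q2 (conj_mem_cj.2 hy)) (cx_conj (mem_cx hy.1) trivial))).1 (by group))).mono (le_inf e (le_norm_self _))).inv' inv
  rw [cj_cj, mul_assoc, inv_mul_cancel_right] at g2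
  suffices g3 : Gd A 𝓕 (cj k D) m by simpa [mul_assoc] using (g1.mul inv g3).mul inv g2
  rw [← card_cj k D] at ih
  generalize cj k D = E at *
  by_cases c : A ⊓ 𝐂 E ≤ E
  · have z := (inf_le_inf_left A (cent_anti EA)).trans c
    let H : Subgroup G := {
      carrier := {m | m ∈ 𝐍 E ∧ Gd A 𝓕 E m}
      one_mem' := ⟨one_mem _, .of (one_mem _)⟩
      mul_mem' a b := ⟨mul_mem a.1 b.1, b.2.mul inv ((cj_of_norm b.1).symm ▸ a.2)⟩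
      inv_mem' a := ⟨inv_mem a.1, cj_of_norm a.1 ▸ a.2.inv' inv⟩ }
    have nE := h.nrm z EA
    by_contra n
    obtain ⟨P, lP, u⟩ := FF.exists_uMax (X := H) (fun a ha => ⟨nE ha, .of (le_norm_self A ha)⟩) nE fun k => n (k hm).2
    have n : ¬ P ≤ H := fun k => u.lt.not_ge (le_inf le_rfl k)
    have q := le_Qc EA lP
    have := loc _ P ⟨h, u, fun k => n fun x hx => ⟨lP hx, .of (k hx)⟩, z.trans q⟩
    refine n fun p hp => ⟨lP hp, 1, one_mem _, fun F hF d hd => ?_⟩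
    have := mem_norm.1 (this F hF hp) d
    rw [one_mul, inv_one, mul_one]
    exact ⟨fun k => (this.2 (mi k (q (conj_mem_of_norm (lP hp) hd)))).1, fun k => (this.1 (mi k (q hd))).1⟩
  obtain ⟨y, hy, n, hn, rfl⟩ := (sk.sub (U := A ⊓ 𝐂 E) (inf_le_inf_left A (cent_le_norm E)) fun u hu g hg k =>
    ⟨k.1, conj_mem_of_norm (norm_le_norm_cent E hg) hu.2⟩).frat ⟨cent_le_norm E, norm_le_norm_cent E⟩ inf_le_right hm
  obtain ⟨n', a, b⟩ := (ih (g := n) (card_lt (left_lt_sup.2 c)) (sup_le EA inf_le_left) (by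
    rw [cj_sup, cj_of_norm hn.1, cj_of_norm hn.2]; exact sup_le EA inf_le_left)).mono le_sup_left
  refine ⟨n', a, fun F hF d hd => .trans ?_ (b F hF d hd)⟩
  rw [show y * n * d * (y * n)⁻¹ = y * (n * d * n⁻¹) * y⁻¹ by group, ← hy _ (conj_mem_of_norm hn.1 hd), mul_inv_cancel_right]

theorem Hy.fl' (h : Hy A) (loc : ∀ M L, Lc A M L → ∀ F ∈ 𝓕, L ≤ 𝐍 (F ⊓ Qc A L)) (g : G) : Gd A 𝓕 (A ⊓ cj g⁻¹ A) g :=
  h.fl inv loc inf_le_left (cj_le_iff.2 inf_le_right)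

end

theorem Hy.scF (h : Hy A) (l : F ≤ A) (n : 𝐍 A ≤ 𝐍 F) (loc : ∀ M L, Lc A M L → L ≤ 𝐍 (F ⊓ Qc A L)) : SK F ⊤ :=
  h.sub l fun u hu g _ e =>
    let ⟨_, a, b⟩ := h.fl' (𝓕 := {F}) (fun _ a _ b => (congrArg _ b).trans (cj_of_norm (n a))) (fun M L k _ b => b ▸ loc M L k) g
    (b F rfl u (mi (l hu) (mem_cj_inv.2 e))).2 (conj_mem_of_norm (n a) hu)

/-- `L` moves `Z(A)` -/
structure NT (A M L : Subgroup G) : Prop extends Lc A M L where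
  nt : ¬ L ≤ 𝐂 (𝐙 A)

theorem NT.cj (h : NT A M L) (hn : n ∈ 𝐍 A) : NT A (cj n M) (cj n L) := ⟨h.toLc.cj hn, fun e => h.nt (by
  rwa [cj_le_iff, cj_of_norm (inv_mem (norm_cent (norm_center A) hn))] at e)⟩

theorem Hy.e0 (h : Hy A) (hz : z ∈ 𝐙 A) (k : ∀ M L, NT A M L → z ∈ 𝐂 L) : z = 1 := by
  refine eq_one_of_mem_bot (h.nsc (𝐙 A ⊓ 𝐂 (sSup {L | ∃ M, NT A M L})) ((center_abel A).mono inf_le_left)
    (h.scF (inf_le_left.trans inf_le_left) (norm_inf_cent (norm_center A) (le_norm_of_cj_le fun n hn => ?_)) fun M L k => ?_))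
    (mi hz (le_cent_sSup (A := zpowers z) (fun L e => zpowers_le.2 (e.elim fun M e => k M L e)) (mem_zpowers z)))
  · exact cj_le_iff.2 (sSup_le fun L ⟨M, e⟩ => cj_le_iff.1 (le_sSup ⟨_, e.cj hn⟩))
  by_cases c : L ≤ 𝐂 (𝐙 A)
  · exact norm_of_cent (c.trans (cent_anti (inf_le_left.trans inf_le_left)))
  · exact norm_of_cent' (inf_le_left.trans (inf_le_right.trans (cent_anti (le_sSup ⟨M, k, c⟩))))

theorem Hy.eaZ (h : Hy A) (hz : z ∈ 𝐙 A) : z * z = 1 := h.e0 (mul_mem hz hz) fun _ _ k => k.sqZ hz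

theorem Hy.exNT (h : Hy A) : ∃ M L, NT A M L := by
  by_contra! k
  exact h.pi.nil.center_ne_bot h.ne (eq_bot_of_forall fun z hz => h.e0 hz fun M L e => (k M L e).elim)

theorem Lc.eaY (h : Lc A M L) (hy : y ∈ Yc A L) : y * y = 1 := by
  obtain ⟨g, hg, ng⟩ := h.ex
  obtain ⟨z, hz, w, hw, rfl⟩ := h.Yeq hg ng hy
  have := hz.2 _ (h.YA (h.Zg hg (conj_mem_cj.2 hw)))
  have e := Cl2.sq_conj (h.eaZ hw) g
  generalize g * w * g⁻¹ = v at *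
  rw [mul_assoc, ← mul_assoc v, this, mul_assoc, e, mul_one, h.eaZ hz]

theorem Lc.sqQ (h : Lc A M L) (hc : c ∈ Qc A L) : c * c ∈ 𝐂 L := fun l hl => by
  have k := h.QL (commutator_mem_commutator (inv_mem hc) (inv_mem hl))
  have e : c * l = l * c * ⁅c⁻¹, l⁻¹⁆ := by rw [commutatorElement_def]; group
  generalize ⁅c⁻¹, l⁻¹⁆ = y at *
  calc _ = l * c * (c * (y * y)) := by rw [h.eaY k]; group
    _ = l * c * y * c * y := by rw [mul_assoc (l * c) y, h.cy k hc]; group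
    _ = c * (l * c * y) := by rw [← mul_assoc, ← mul_assoc, ← e]
    _ = _ := by rw [← e, mul_assoc]

theorem NT.cYQ (h : NT A M L) (ha : a ∈ A) (c : a ∈ 𝐂 (Yc A L)) : a ∈ Qc A L :=
  let ⟨y, hy, ny⟩ := h.exY h.nt
  by_contra fun k => ny (h.n1 ha k (VY hy) (c y (VY hy)))

/-- partners -/
structure Pt (A M L M' L' : Subgroup G) : Prop where
  l : NT A M L
  r : NT A M' L'
  n : ¬ Yc A L ≤ 𝐂 (Yc A L')

namespace Pt
variable {M' L' M₃ L₃ : Subgroup G} (h : Pt A M L M' L')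
include h

theorem symm : Pt A M' L' M L := ⟨h.r, h.l, fun e => h.n (cent_symm e)⟩
protected theorem cj (hn : n ∈ 𝐍 A) : Pt A (cj n M) (cj n L) (cj n M') (cj n L') :=
  ⟨h.l.cj hn, h.r.cj hn, fun e => h.n (by rwa [← cj_Yc hn, ← cj_Yc hn, ← cj_cent, cj_le_cj] at e)⟩

theorem inf (hy : y ∈ Yc A L) (k : y ∈ Qc A L') : y ∈ 𝐙 A :=
  let ⟨v, hv, nv⟩ := SetLike.not_le_iff_exists.1 h.symm.n
  h.l.n1 (h.r.YA hv) (fun e => nv (h.l.cQ e)) hy (h.r.cy hv k).symm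

theorem i1 : ♯(Yc A L ⊔ Qc A L') * ♯(𝐙 A) = ♯(Yc A L) * ♯(Qc A L') := by
  rw [← card_sup_mul_card_inf (.inl (h.l.YA.trans (h.r.aL.trans nQc))),
    le_antisymm (fun y (hy : y ∈ Yc A L ⊓ Qc A L') => h.inf hy.1 hy.2) (le_inf ZY h.r.z)]

theorem sup : A ≤ Yc A L ⊔ Qc A L' := by
  obtain ⟨y, hy, ny⟩ := h.l.exY h.l.nt
  obtain ⟨v, hv, nv⟩ := h.r.exY h.r.nt
  have a := h.l.idx (VY hy) ny
  have b := h.r.idx (VY hv) nv
  have c := h.i1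
  have d := h.symm.i1
  have e := Nat.mul_le_mul_right (♯(𝐙 A)) (card_le (sup_le h.r.YA (Qc_le (L := L))))
  refine (eq_of_card_le (sup_le h.l.YA Qc_le) (Nat.le_of_mul_le_mul_right ?_ (card_pos' (𝐙 A)))).ge
  rw [d] at e
  exact c ▸ b.trans (Nat.mul_le_mul_right _ (Nat.le_of_mul_le_mul_right (e.trans a) (card_pos' _)))

theorem dec (ha : a ∈ A) : ∃ y ∈ Yc A L, ∃ c ∈ Qc A L', y * c = a :=
  (mem_sup_norm (h.l.YA.trans (h.r.aL.trans nQc))).1 (h.sup ha)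

theorem decQ (ha : a ∈ Qc A L) : ∃ y ∈ Yc A L, ∃ c ∈ Qc A L ⊓ Qc A L', y * c = a := by
  obtain ⟨y, hy, c, hc, rfl⟩ := h.dec (Qc_le ha)
  exact ⟨y, hy, c, mi ((mul_mem_cancel_left (h.l.YQ hy)).1 ha) hc, rfl⟩

theorem inv (ha : a ∈ A) (e : a * a = 1) : a ∈ Qc A L ∨ a ∈ Qc A L' := by
  obtain ⟨y, hy, c, hc', rfl⟩ := h.dec ha
  obtain ⟨v, hv, c, hc, rfl⟩ := h.symm.decQ hc'
  by_cases k : v ∈ Qc A L
  · exact .inl (mul_mem (h.l.YQ hy) (mul_mem k hc.2))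
  refine .inr (mul_mem (h.r.z (h.l.n2 (h.r.YA hv) k hy (mem_of_eq (inv_mem (h.l.sqQ hc.2)) ?_))) (mul_mem (h.r.YQ hv) hc.1))
  rw [commutatorElement_def, inv_eq_of_mul_eq_one_right (h.l.eaY hy), inv_eq_of_mul_eq_one_right (h.r.eaY hv),
    eq_inv_iff_mul_eq_one, ← e, mul_assoc y (v * c), mul_assoc v c, ← mul_assoc c, ← h.l.cy hy hc.2, mul_assoc y c, ← mul_assoc c,
    ← h.r.cy hv hc.1]
  group

theorem le_or (k : Lc A M₃ L₃) : Yc A L₃ ≤ Qc A L ∨ Yc A L₃ ≤ Qc A L' := by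
  by_contra! e
  obtain ⟨x, hx, nx⟩ := SetLike.not_le_iff_exists.1 e.1
  obtain ⟨y, hy, ny⟩ := SetLike.not_le_iff_exists.1 e.2
  have i := fun {x} (hx : x ∈ Yc A L₃) => h.inv (k.YA hx) (k.eaY hx)
  exact (i (mul_mem hx hy)).elim (fun e => nx ((mul_mem_cancel_right ((i hy).resolve_right ny)).1 e))
    fun e => ny ((mul_mem_cancel_left ((i hx).resolve_left nx)).1 e)

theorem CQ (k : Pt A M L M₃ L₃) (hc : c ∈ Qc A L ⊓ Qc A L') : c ∈ Qc A L₃ := by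
  obtain ⟨y, hy, d, hd, rfl⟩ := k.decQ hc.1
  obtain ⟨v, hv, nv⟩ := SetLike.not_le_iff_exists.1 k.symm.n
  have nQ : v ∉ Qc A L := fun e => nv (h.l.cQ e)
  obtain ⟨w, hw, e, he, rfl⟩ := h.symm.decQ ((h.le_or k.r.toLc).resolve_left (fun e => nQ (e hv)) hv)
  refine mul_mem (k.r.z (h.l.n2 (k.r.YA hv) nQ hy (mem_of_eq (h.l.QQ hc.1 he.2) ?_))) hd.2
  have := h.l.bl (h.l.YA hy) (Qc_le hd.1) (k.r.YA hv)
  rw [cm1 (k.r.cy hv hd.2).symm, mul_one, h.l.br (Qc_le hc.1) (h.r.YA hw) (Qc_le he.1), cm1 (h.r.cy hw hc.2).symm, one_mul] at this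
  exact this.symm

theorem uq1 (k : Pt A M L M₃ L₃) : Yc A L₃ ≤ Yc A L' := fun v hv => by
  obtain ⟨w, hw, e, he, rfl⟩ := h.symm.decQ ((h.le_or k.r.toLc).resolve_left (fun e => k.symm.n (e.trans h.l.cQ)) hv)
  refine mul_mem hw (ZY ⟨Qc_le he.1, fun a ha => ?_⟩)
  obtain ⟨y, hy, c, hc', rfl⟩ := h.dec ha
  obtain ⟨u, hu, c, hc, rfl⟩ := h.symm.decQ hc'
  have := k.r.cy hv (h.CQ k (mi hc.2 hc.1))
  rw [← mul_assoc, ← h.r.cy hw hc.1, mul_assoc, mul_assoc, mul_right_inj] at this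
  rw [mul_assoc, mul_assoc, ← this, ← mul_assoc u, h.r.cy hu he.1, mul_assoc, ← mul_assoc, h.l.cy hy he.2, mul_assoc]

theorem uq (k : Pt A M L M₃ L₃) : Yc A L₃ = Yc A L' := le_antisymm (h.uq1 k) (k.uq1 h)

theorem tri (k : NT A M₃ L₃) (a : Yc A L₃ ≠ Yc A L) (b : Yc A L₃ ≠ Yc A L') : Yc A L₃ ≤ 𝐂 (Yc A L ⊔ Yc A L') :=
  le_cent_sup (by_contra fun e => b (h.uq ⟨h.l, k, fun c => e (cent_symm c)⟩))
    (by_contra fun e => a (h.symm.uq ⟨h.r, k, fun c => e (cent_symm c)⟩))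

theorem eq_or (k : NT A M₃ L₃) (l : Yc A L₃ ≤ Yc A L ⊔ Yc A L') : Yc A L₃ = Yc A L ∨ Yc A L₃ = Yc A L' := by
  by_contra! e
  have c := h.tri k e.1 e.2
  obtain ⟨x, hx, nx⟩ := k.exY k.nt
  have q := h.l.cYQ (k.VA hx) (cent_anti le_sup_left (c (VY hx)))
  have q' := h.r.cYQ (k.VA hx) (cent_anti le_sup_right (c (VY hx)))
  obtain ⟨y, hy, v, hv, rfl⟩ := (mem_sup_norm (h.l.YA.trans (h.r.aL.trans nYc))).1 (l (VY hx))
  exact nx (mul_mem (h.inf hy ((mul_mem_cancel_right (h.r.YQ hv)).1 q')) (h.symm.inf hv ((mul_mem_cancel_left (h.l.YQ hy)).1 q)))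

end Pt
end CF.Kz
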