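/-
Groups with abelian Sylow 2-intersections: essential subgroups.
-/
import Cfsg.Agent.Loc.AB10
import Cfsg.Agent.SC2.I
set_option autoImplicit false
set_option linter.unusedSectionVars false

namespace CF.Cl2
open Subgroup Cfsg CF.BG CF.Sig CF.GW CF.Ab2
open CF.FF (NatOn pb ib)
open CF.Loc (bar hat unbar)
open scoped commutatorElement MatrixGroups

universe u
variable {G : Type u} [Group G] [Finite G]
variable {A B D E H K L M N P Q R S T U V W X Y Z : Subgroup G} {a b c d g k l n r s t u v w x y z : G}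

/-- a strongly embedded subgroup and an offender give a natural `SL₂`-module -/
theorem nat_of_se (e : Abelem 2 V) (n : L ≤ 𝐍 V) (hT : Syl 2 T L) (p : 𝐎' 2 L = L) (lM : T ≤ M)
    (c : L ⊓ 𝐂 V ≤ M) (nle : ¬ L ≤ M) (se : ∀ Q ≤ T, T ⊓ 𝐂 V ≤ Q → ¬ Q ≤ 𝐂 V → L ⊓ 𝐍 Q ≤ M)
    (lW : W ≤ T) (sq : ∀ w ∈ W, w * w ∈ 𝐂 V) (nW : ¬ W ≤ 𝐂 V)
    (off : ♯V ≤ (𝐂 V).relIndex W * ♯(V ⊓ 𝐂 W)) :
    ∃ (F : Type) (_ : Field F) (_ : Fintype F) (ρ : G → SL(2, F)) (ψ : G → Fin 2 → F),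
      NatOn F V L T ρ ψ ∧ ∀ g ∈ L, ρ g = 1 → g ∈ 𝐂 V := by
  haveI := Fact.mk p2
  have sy : ∀ {T M : Subgroup G}, Syl 2 T M → M ≤ L → Syl 2 (bar V T) (bar V M) := fun {T M} a b => by
    refine Hall.map ?_ _
    rwa [← hall_map_iff (𝐍 V).subtype_injective, map_subgroupOf (a.le.trans (b.trans n)),
      map_subgroupOf (b.trans n)]
  have lm : L ⊓ M ≤ 𝐍 V := inf_le_left.trans n
  have up : ∀ {X}, X ≤ L → X ≤ L ⊓ M ⊔ 𝐂 V → X ≤ M := fun a b g hg => by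
    obtain ⟨m, hm, d, hd, rfl⟩ := (mem_sup_norm (lm.trans (norm_le_norm_cent V))).1 (b hg)
    exact mul_mem hm.2 (c (mi ((mul_mem_cancel_left (mi1 hm)).1 (a hg)) hd))
  have em : FF.Emb 2 (hat V V) (bar V L) (bar V T) (bar V (L ⊓ M)) := by
    refine ⟨Loc.isElemAb_hat e.isEA, Loc.bar_le_normalizer_hat _, Loc.bar_inf_centralizer_hat n,
      ⟨Loc.bar_mono hT.le, (sy hT le_rfl).pi.isPGroup, fun Q k a b =>
        ((sy hT le_rfl).eq_of_le a b (piGrp_of_isPGroup p2 k)).symm⟩, Loc.bar_mono (le_inf hT.le lM),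
      Loc.bar_mono inf_le_left, fun e => nle (up le_rfl ((Loc.bar_le_bar_iff n lm).1 e)),
      fun Q lQ k q y hy => ?_⟩
    obtain ⟨g, hg, rfl⟩ := (FF.mem_bar_iff n).1 hy.1
    have bK := Loc.bar_unbar (lQ.trans (Loc.bar_mono inf_le_left))
    set K := L ⊓ unbar V Q
    have KM : K ≤ M := up inf_le_left ((Loc.bar_le_bar_iff (inf_le_left.trans n) lm).1 (bK.le.trans lQ))
    obtain ⟨R, hR⟩ := BG.exists_syl 2 K
    obtain ⟨m, hm, eR⟩ := (hT.of_le (le_inf hT.le lM) inf_le_left).syl_cj_le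
      (hR.le.trans (le_inf inf_le_left KM)) hR.pi
    have gK : g ∈ 𝐍 K := norm_inf (zpowers_le.2 (le_norm_self L hg)) (Loc.le_normalizer_unbar
      (zpowers_le.2 (n hg)) (by rw [FF.bar_zpowers' (n hg)]; exact zpowers_le.2 hy.2)) (mem_zpowers g)
    obtain ⟨a, ha, b, hb, rfl⟩ := hR.syl_frattini (M := L ⊓ 𝐍 K) ⟨le_inf inf_le_left (le_norm_self K),
      inf_le_right⟩ (mi hg gK)
    refine FF.pb_mem lm (mi hg (mul_mem (KM ha) ?_))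
    have := se _ eR (le_trans ?_ ((hR.cj m).eq_of_le (le_inf eR (hR.cj m).le) inf_le_right
      (hT.pi.le inf_le_left)).ge) (fun e => q ?_) (mi (cmem hm.1 hb.1.1) (by
        rw [← cj_norm]; exact conj_mem_cj.2 hb.2))
    · exact mem_of_eq (cmem' hm.2 this) (by group)
    · exact fun x hx => mi hx.1 (mem_cj.2 (mi (cmem' hm.1 (hT.le hx.1)) (Loc.centralizer_le_unbar Q
        (conj_mem_of_norm' (norm_le_norm_cent V (n hm.1)) hx.2))))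
    · rw [cj_le_iff, cj_cent, cj_of_norm (inv_mem (n hm.1))] at e
      rw [← bK, ← (sy hR inf_le_left).eq_of_pi (bK ▸ piGrp_of_isPGroup p2 k)]
      exact (Loc.bar_eq_bot_iff (hR.le.trans (inf_le_left.trans n))).2 e
  have wn := lW.trans (hT.le.trans n)
  obtain ⟨B, lB, o, -⟩ := FF.exists_off (V := hat V V) (ab_mk (A := bar V W) fun y hy => by
      obtain ⟨w, hw, rfl⟩ := (FF.mem_bar_iff wn).1 hy
      rw [← FF.pb_mul (wn hw) (wn hw), FF.pb_eq_one (mul_mem (wn hw) (wn hw))]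
      exact sq w hw).isEA (Loc.bar_mono (lW.trans hT.le)) (mt (Loc.bar_eq_bot_iff wn).1 nW) le_rfl (by
    rwa [Loc.hat_inf_centralizer wn, Loc.card_hat le_rfl, Loc.card_hat inf_le_left, Loc.card_bar wn])
  obtain ⟨F, _, _, ρ, ψ, k, i⟩ := em.natP o (lB.trans (Loc.bar_mono lW)) (by
    rw [bar, ← map_pElementClosure]
    refine congrArg _ (map_injective (𝐍 V).subtype_injective ?_)
    rw [map_pElementClosure, map_subgroupOf n, p])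
  exact ⟨F, _, inferInstance, _, _, k.unbar n hT.le, fun g hg e =>
    (FF.pb_eq_one (n hg)).1 (i _ (FF.pb_mem n hg) e)⟩

theorem grow (k : P2 Y) (l : P ≤ Y) (h : Y ⊓ 𝐍 P ≤ P) : Y ≤ P := (k.nil.eq_of_inf_norm_le l h).ge

/-- Sylow intersections are abelian -/
structure AI (S : Subgroup G) : Prop where
  syl : Syl 2 S ⊤
  na : ¬ Abel S
  un : ∀ U ≤ S, ¬ Abel U → 𝐍 U ≤ 𝐍 S

/-- essential subgroups -/
structure Es (S P : Subgroup G) : Prop extends AI S where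
  le : P ≤ S
  ext : Syl 2 (S ⊓ 𝐍 P) (𝐍 P)
  ab : Abel P
  cen : S ⊓ 𝐂 P ≤ P
  nle : ¬ 𝐍 P ≤ 𝐍 P ⊓ 𝐍 S ⊔ 𝐂 P

namespace Es
variable (h : Es S P)
include h

theorem lT : P ≤ S ⊓ 𝐍 P := le_inf h.le (le_norm_self P)
theorem nab (l : P ≤ Q) (m : Q ≤ S) (n : ¬ Q ≤ P) : ¬ Abel Q := fun a =>
  n ((le_inf m (a.trans (cent_anti l))).trans h.cen)
theorem ne : ¬ S ⊓ 𝐍 P ≤ P := fun e => h.na (h.ab.mono (grow h.syl.pi h.le e))
theorem naT : ¬ Abel (S ⊓ 𝐍 P) := h.nab h.lT inf_le_left h.ne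
theorem nT : 𝐍 (S ⊓ 𝐍 P) ≤ 𝐍 S := h.un _ inf_le_left h.naT
theorem TL : S ⊓ 𝐍 P ≤ 𝐎' 2 (𝐍 P) := le_Op h.ext.pi inf_le_right
theorem sylL : Syl 2 (S ⊓ 𝐍 P) (𝐎' 2 (𝐍 P)) := h.ext.of_le h.TL (Op_normal _).le
theorem frat (hg : g ∈ 𝐍 P) : ∃ l ∈ 𝐎' 2 (𝐍 P), ∃ n ∈ 𝐍 P ⊓ 𝐍 S, l * n = g :=
  let ⟨l, hl, n, hn, e⟩ := h.sylL.syl_frattini (Op_normal _) hg
  ⟨l, hl, n, mi hn.1 (h.nT hn.2), e⟩
theorem ea : Abelem 2 (𝛀 2 P) := h.ab.abelem_Om p2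
theorem memV (ha : a ∈ P) (e : a * a = 1) : a ∈ 𝛀 2 P := mem_Om ha (by rwa [pow_two])
theorem PV : P ≤ 𝐂 (𝛀 2 P) := h.ab.trans (cent_anti (Om_le _ _))

theorem kV : 𝐍 P ⊓ 𝐂 (𝛀 2 P) ≤ 𝐂 P := by
  have n : 𝐍 P ⊓ 𝐂 (𝛀 2 P) ⊴ 𝐍 P := ⟨inf_le_left, norm_inf_cent (le_norm_self _) (norm_Om _ _)⟩
  have s := h.ext.inf_normal n
  have k := h.syl.pi.le h.le
  have o : ∀ Q ≤ 𝐍 P ⊓ 𝐂 (𝛀 2 P), Od Q → Q ≤ 𝐂 P := fun Q l o =>
    h.ab.cent_of_Om k (l.trans inf_le_left) (k.coprime o).symm (l.trans inf_le_right)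
  by_cases e : S ⊓ 𝐍 P ⊓ (𝐍 P ⊓ 𝐂 (𝛀 2 P)) ≤ P
  · exact SC2.le_of_syl s (e.trans h.ab) o
  refine (h.nle fun g hg => ?_).elim
  obtain ⟨a, ha, b, hb, rfl⟩ := s.syl_frattini n hg
  have l := inf_le_left.trans (inf_le_left (a := S) (b := 𝐍 P)) (a := S ⊓ 𝐍 P ⊓ (𝐍 P ⊓ 𝐂 (𝛀 2 P)))
  exact mul_mem (SC2.le_of_syl s (le_sup_of_le_left (le_inf (s.le.trans inf_le_left) (l.trans (le_norm_self S))))
    (fun Q l o' => le_sup_of_le_right (o Q l o')) ha) (mem_sup_left (mi hb.1 (h.un _ l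
      (h.nab (le_inf h.lT (le_inf (le_norm_self P) h.PV)) l e) hb.2)))

theorem cV : S ⊓ 𝐂 (𝛀 2 P) ≤ P := grow (h.syl.pi.le inf_le_left) (le_inf h.le h.PV) fun _ hx =>
  h.cen (mi hx.1.1 (h.kV (mi hx.2 hx.1.2)))

protected theorem cj (hg : g ∈ 𝐍 S) : Es S (cj g P) := by
  have e := cj_of_norm hg
  refine ⟨h.toAI, cj_le_of_norm hg h.le, ?_, abel_cj.2 h.ab, ?_, fun k => h.nle ?_⟩
  · have := h.ext.cj g
    rwa [cj_inf, e, cj_norm] at this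
  · rw [← cj_cent, ← e, ← cj_inf]; exact cj_mono g h.cen
  · rwa [← e, ← cj_norm, ← cj_norm, ← cj_cent, ← cj_inf, ← cj_sup, cj_le_cj] at k

theorem nat (lW : W ≤ S ⊓ 𝐍 P) (sq : ∀ w ∈ W, w * w ∈ P) (nW : ¬ W ≤ P)
    (off : ♯(𝛀 2 P) ≤ P.relIndex W * ♯(𝛀 2 P ⊓ 𝐂 W)) :
    ∃ (F : Type) (_ : Field F) (_ : Fintype F) (ρ : G → SL(2, F)) (ψ : G → Fin 2 → F),
      NatOn F (𝛀 2 P) (𝐎' 2 (𝐍 P)) (S ⊓ 𝐍 P) ρ ψ ∧ ∀ g ∈ 𝐎' 2 (𝐍 P), ρ g = 1 → g ∈ 𝐂 P := by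
  have l := (Op_normal (𝐍 P)).le
  have c := (inf_le_inf_right _ l).trans h.kV
  have lS := lW.trans inf_le_left
  obtain ⟨F, _, _, ρ, ψ, n, i⟩ := nat_of_se (M := 𝐍 P ⊓ 𝐍 S ⊔ 𝐂 P) h.ea (l.trans (norm_Om _ _)) h.sylL
    (pElementClosure_idem _) (le_sup_of_le_left (le_inf inf_le_right (inf_le_left.trans (le_norm_self S))))
    (c.trans le_sup_right) (fun k => h.nle fun g hg => by
      obtain ⟨a, ha, b, hb, rfl⟩ := h.frat hg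
      exact mul_mem (k ha) (mem_sup_left hb))
    (fun Q a b d => le_sup_of_le_left (inf_le_inf l (h.un _ (a.trans inf_le_left)
      (h.nab ((le_inf h.lT h.PV).trans b) (a.trans inf_le_left) fun k => d (k.trans h.PV)))))
    lW (fun w hw => h.PV (sq w hw)) (fun k => nW ((le_inf lS k).trans h.cV)) (by
      rwa [← inf_relIndex_right (𝐂 _), le_antisymm (le_inf ((le_inf (inf_le_right.trans lS)
        inf_le_left).trans h.cV) inf_le_right) (inf_le_inf_right W h.PV), inf_relIndex_right])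
  exact ⟨F, _, inferInstance, ρ, ψ, n, fun g hg e => c (mi hg (i g hg e))⟩

end Es

namespace AI
variable (h : AI S)
include h

theorem alp {R : Subgroup G → G → Prop} (hR : Transfer.FusRel S R)
    (h1 : ∀ U ≤ S, ∀ g ∈ 𝐍 S, g ∈ 𝐍 U → R U g) (h2 : ∀ P, Es S P → ∀ g ∈ 𝐎' 2 (𝐍 P), R P g) :
    Transfer.CtrlIn R S ⊤ := by
  haveI := Fact.mk p2
  refine hR.alperin (h.syl.isSylowIn p2) fun U hU ih => ?_
  by_cases c : S ⊓ 𝐂 U ≤ U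
  swap
  · exact hR.step_of_not_centric hU c le_top ih
  intro x hx
  by_cases a : Abel U
  swap
  · exact h1 U hU.1 x (h.un U hU.1 a hx.2) hx.2
  by_cases e : 𝐍 U ≤ 𝐍 U ⊓ 𝐍 S ⊔ 𝐂 U
  · obtain ⟨n, hn, d, hd, rfl⟩ := (mem_sup_norm (inf_le_left.trans (norm_le_norm_cent U))).1 (e hx.2)
    exact hR.mul_normalizer (cent_le_norm U hd) (h1 U hU.1 n hn.2 hn.1) (hR.cent U hU.1 d hd)
  have k : Es S U := ⟨h, hU.1, by simpa using syl_mk p2 hU.2.le (h.syl.pi.le inf_le_left) hU.2.not_dvd, a, c, e⟩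
  obtain ⟨l, hl, n, hn, rfl⟩ := k.frat hx.2
  exact hR.mul_normalizer hn.1 (h2 U k l hl) (h1 U hU.1 n hn.2 hn.1)

theorem foc (p : ⁅(⊤ : Subgroup G), (⊤ : Subgroup G)⁆ = ⊤) (h1 : ∀ a ∈ S, ∀ g ∈ 𝐍 S, a⁻¹ * (g * a * g⁻¹) ∈ D)
    (h2 : ∀ P, Es S P → ∀ g ∈ 𝐎' 2 (𝐍 P), ∀ a ∈ P, a⁻¹ * (g * a * g⁻¹) ∈ D) : S ≤ D := by
  haveI := Fact.mk p2
  have := (h.syl.isSylowIn p2).ctrlIn_focRel_iff.1 (h.alp (Transfer.focRel_fusRel S D)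
    (fun U l g hg _ a ha => h1 a (l ha) g hg) h2)
  rwa [p, inf_top_eq] at this

theorem cls (ns : NS (⊤ : Subgroup G)) (l : A ≤ S) (a : Abel A) (ne : A ≠ ⊥) (n : 𝐍 S ≤ 𝐍 A)
    (k : ∀ P, Es S P → 𝐎' 2 (𝐍 P) ≤ 𝐍 (P ⊓ A)) : ⁅S, S⁆ ≤ 𝐂 S := by
  have i1 : ∀ U, ∀ g ∈ 𝐍 (U ⊓ A), g ∈ 𝐍 U → ∀ u ∈ U, u ∈ A ↔ g * u * g⁻¹ ∈ A := fun U g k hg u hu =>
    ⟨fun m => (conj_mem_of_norm k (mi hu m)).2,
      fun m => ((mem_norm.1 k u).2 (mi (conj_mem_of_norm hg hu) m)).2⟩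
  have c := h.alp (R := fun U g => ∀ u ∈ U, u ∈ A ↔ g * u * g⁻¹ ∈ A)
    ⟨fun A B g l k u hu => k u (l hu), fun A g k h1 h2 u hu => by
      rw [h1 u hu, h2 _ (conj_mem_cj.2 hu)]; simp only [mul_inv_rev, mul_assoc], fun A g h1 u hu => by
      rw [inv_inv, h1 _ (mem_cj.1 hu)]; simp [mul_assoc], fun A _ g hg u hu => by
      rw [← hg u hu, mul_inv_cancel_right]⟩ (fun U _ g hg _ u _ => mem_norm.1 (n hg) u)
    fun P e g hg => i1 P g (k P e hg) ((Op_normal _).le hg)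
  have s := sc_Om h.syl l a fun a ha g _ e => (c _ (zpowers_le.2 (l ha)) g trivial
    ((cj_zpowers g a).le.trans (zpowers_le.2 e)) a (mem_zpowers a)).1 ha
  obtain g | g | g := gold (.inl ly) ns s ((h.syl.pi.le l).Om_ne_bot ne)
  · obtain ⟨D, w, z, r⟩ := g.rs ns h.syl
    exact r.der_le.trans r.cen
  exacts [(h.na (g.ab ns h.syl).abel).elim, (h.na (g.syl' h.syl).1.abel).elim]

end AI

end CF.Cl2
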