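/-
A set of involutions generating a dihedral 2-group.
-/
import Cfsg.Agent.Loc.SI2
set_option autoImplicit false
set_option linter.unusedSectionVars false

namespace CF.Cl2
open Subgroup Cfsg CF.BG CF.Sig CF.GW CF.Ab2
open scoped commutatorElement

universe u
variable {G : Type u} [Group G] [Finite G]
variable {A B D E H K L M N P Q R S T U V W X Y Z : Subgroup G} {a b c d g i j k l n p r s t u v w x y z : G}

theorem e2_pow (e : E2 r) : ∃ n, orderOf r = 2 ^ n := by
  simpa using e.zpowers.card_pow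

theorem exists_four (e : E2 r) (n : r * r ≠ 1) : ∃ i ∈ zpowers r, Iv (i * i) := by
  obtain ⟨k, hk⟩ := e2_pow e
  have d : 4 ∣ orderOf r := by
    rcases k with _ | _ | k
    · simp [orderOf_eq_one_iff.1 hk] at n
    · exact absurd (by rw [← pow_two, ← orderOf_dvd_iff_pow_eq_one, hk]; simp) n
    · exact hk ▸ Dvd.intro_left (2 ^ k) (by ring)
  refine ⟨_, pow_mem (mem_zpowers r) (orderOf r / 4), ?_⟩
  rw [Iv, ← pow_two, orderOf_pow, orderOf_pow_orderOf_div (orderOf_pos r).ne' d]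
  rfl

theorem inv_of_sq (hu : u * u = 1) (e : u * i * (u * i) = 1) : u * i * u = i⁻¹ :=
  eq_inv_of_mul_eq_one_left (by rw [← e]; group)

theorem inv_zp (hu : u * u = 1) (hv : v * v = 1) (hi : i ∈ zpowers (u * v)) : u * i * u = i⁻¹ := by
  obtain ⟨n, rfl⟩ := hi
  nth_rw 3 [← inv_eq_of_mul_eq_one_right hu]
  rw [← conj_zpow, ← inv_zpow, mul_inv_rev, inv_eq_of_mul_eq_one_right hu, inv_eq_of_mul_eq_one_right hv,
    ← mul_assoc, hu, one_mul]

/-- a set of involutions with small commuting graph -/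
structure Dh (S : Subgroup G) (O : Set G) (z : G) : Prop where
  pi : P2 S
  le : ∀ u ∈ O, u ∈ S
  sq : ∀ u ∈ O, u * u = 1
  cj : ∀ u ∈ O, ∀ g ∈ S, g * u * g⁻¹ ∈ O
  cm : ∀ u ∈ O, ∀ v ∈ O, u * v = v * u → v = u ∨ v = u * z
  be : ∀ u ∈ O, ∀ a ∈ O, ∀ b ∈ O, a * u * a = u * z → b * u * b = u * z → a * b = b * a
  zc : ∀ u ∈ O, u * z = z * u

namespace Dh
variable {O : Set G} (h : Dh S O z)
include h

theorem inv (hu : u ∈ O) : u⁻¹ = u := inv_eq_of_mul_eq_one_right (h.sq u hu)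
theorem cc (hu : u ∈ O) (g : G) : u * (u * g) = g := by rw [← mul_assoc, h.sq u hu, one_mul]

theorem pw (hu : u ∈ O) (ha : a ∈ O) (hi : i ∈ zpowers (u * a)) : u * i ∈ O := by
  obtain ⟨n, rfl⟩ := (mem_powers_iff_mem_zpowers).2 hi
  induction n using Nat.twoStepInduction with
  | zero => simpa using hu
  | one => simpa [h.cc hu] using ha
  | more n ih _ =>
    have := h.cj _ (ih (pow_mem (mem_zpowers _) n)) _ (inv_mem (mul_mem (h.le u hu) (h.le a ha)))
    rw [inv_inv, mul_inv_rev, h.inv hu, h.inv ha] at this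
    convert this using 1
    simp only [pow_succ' _ (n + 1), pow_succ _ n, mul_assoc, h.cc hu]

theorem four (hu : u ∈ O) (hv : v ∈ O) (n : u * v ≠ v * u) : ∃ i ∈ zpowers (u * v), i * i = z ∧ z ≠ 1 ∧ z * z = 1 := by
  obtain ⟨i, hi, e⟩ := exists_four (h.pi.elt (mul_mem (h.le u hu) (h.le v hv))) fun e =>
    n (by rw [← inv_eq_of_mul_eq_one_right e, mul_inv_rev, h.inv hu, h.inv hv])
  have k := inv_zp (h.sq u hu) (h.sq v hv) (mul_mem hi hi)
  have := (h.cm u hu _ (h.pw hu hv (mul_mem hi hi)) (by rw [h.cc hu, k, inv_eq_of_mul_eq_one_right e.sq])).resolve_left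
    fun c => e.ne_one (mul_eq_left.1 c)
  obtain rfl := mul_left_cancel this
  exact ⟨i, hi, rfl, e.ne_one, e.sq⟩

theorem gam (hu : u ∈ O) (hi : u * i ∈ O) (e : i * i = z) (hv : v ∈ O) : v * i * v = i⁻¹ := by
  have iz : i * z = z * i := by rw [← e, mul_assoc]
  have k : ∀ {i}, i * i = z → u * i * u * (u * i) = u * z := fun e => by rw [mul_assoc, h.cc hu, mul_assoc, e]
  have k1 := inv_of_sq (h.sq u hu) (h.sq _ hi)
  by_cases c : u * v = v * u
  · obtain rfl | rfl := h.cm u hu v hv c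
    · exact k1
    · have := h.sq _ hv
      rw [mul_assoc, ← mul_assoc z, ← h.zc u hu, mul_assoc, h.cc hu] at this
      calc _ = u * i * (z * u) * z := by rw [mul_assoc u z, ← iz]; group
        _ = u * i * u * (z * z) := by rw [← h.zc u hu]; group
        _ = _ := by rw [this, k1, mul_one]
  obtain ⟨j, hj, e', -, z2⟩ := h.four hu hv c
  have m := h.pw hu hv hj
  have k2 := inv_zp (h.sq v hv) (h.sq u hu) (i := j) (by
    rwa [← h.inv hu, ← h.inv hv, ← mul_inv_rev, zpowers_inv])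
  obtain c | c := h.cm _ hi _ m (h.be u hu _ hi _ m (k e) (k e'))
  · rwa [← mul_left_cancel c]
  · rw [mul_assoc, mul_right_inj] at c
    rw [c, ← iz.symm.trans rfl, mul_inv_rev, inv_eq_of_mul_eq_one_right z2, ← iz] at k2
    refine mul_right_cancel (b := z) ?_
    rw [← k2, mul_assoc, h.zc v hv]; group

theorem main (hv : v ∈ O) (hw : w ∈ O) (n : v * w ≠ w * v) :
    ∃ r, v * r ∈ O ∧ r ≠ 1 ∧ ∀ u ∈ O, v * u ∈ zpowers r := by
  have two : ∀ {s}, v * s ∈ O → (orderOf s ≤ 2 ↔ v * (v * s) = v * s * v) := fun {s} hs => by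
    rw [h.cc hv, inv_of_sq (h.sq v hv) (h.sq _ hs), eq_inv_iff_mul_eq_one, ← pow_two,
      ← orderOf_dvd_iff_pow_eq_one]
    have := orderOf_pos s
    exact ⟨fun e => by interval_cases orderOf s <;> simp, Nat.le_of_dvd two_pos⟩
  have w0 : v * (v * w) ∈ O := by rwa [h.cc hv]
  obtain ⟨r, hr, mx⟩ := Set.exists_max_image {s | v * s ∈ O} orderOf (Set.toFinite _) ⟨_, w0⟩
  have nr : v * (v * r) ≠ v * r * v := fun e => n (by
    simpa only [h.cc hv] using (two w0).1 ((mx _ w0).trans ((two hr).2 e)))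
  have pw : ∀ {s i}, v * s ∈ O → i ∈ zpowers s → v * i ∈ O := fun hs hi => h.pw hv hs (by rwa [h.cc hv])
  obtain ⟨j, hj, e, -⟩ := h.four hv hr nr
  rw [h.cc hv] at hj
  have zr : z ∈ zpowers r := e ▸ mul_mem hj hj
  have e2 : ∀ {s}, v * s ∈ O → E2 s := fun hs => h.pi.elt ((mul_mem_cancel_left (h.le v hv)).1 (h.le _ hs))
  refine ⟨r, hr, fun e => nr (by rw [e, mul_one]), fun u hu => ?_⟩
  replace hu : v * (v * u) ∈ O := by rwa [h.cc hv]
  generalize v * u = s at hu
  generalize hn : orderOf s = n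
  induction n using Nat.strong_induction_on generalizing s with | _ n ih => ?_
  by_cases s1 : s = 1
  · exact s1 ▸ one_mem _
  have lt : orderOf (s ^ 2) < orderOf s := by
    obtain ⟨k, hk⟩ := e2_pow (e2 hu)
    rcases k with _ | k
    · exact absurd (orderOf_eq_one_iff.1 hk) s1
    · rw [orderOf_pow, hk, Nat.gcd_eq_right (dvd_pow_self 2 k.succ_ne_zero)]
      exact Nat.div_lt_self (by positivity) one_lt_two
  obtain ⟨m, hm⟩ := mem_powers_iff_mem_zpowers.2 (ih _ (hn ▸ lt) _ (pw hu (pow_mem (mem_zpowers s) 2)) rfl)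
  obtain ⟨a, rfl⟩ | o := m.even_or_odd
  swap
  · obtain ⟨k, hk⟩ := e2_pow (e2 hr)
    rw [← hm, Nat.Coprime.orderOf_pow (hk ▸ (Nat.coprime_two_left.2 o).pow_left k)] at lt
    exact absurd (mx s hu) lt.not_ge
  have m := pow_mem (mem_zpowers r) a
  have hu' := pw hr m
  have k : ∀ {s}, v * s * v * (v * s) = v * s ^ 2 := by
    intro s; rw [mul_assoc, h.cc hv, mul_assoc, pow_two]
  have c : v * (v * r ^ a * (v * s)) = v * r ^ a * (v * s) * v := by
    refine mul_left_cancel (a := v * r ^ a) ?_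
    rw [mul_assoc (v * r ^ a) (v * s), h.cc hu', ← mul_assoc, ← mul_assoc, k, ← pow_mul, mul_two,
      show r ^ (a + a) = s ^ 2 from hm, ← k, mul_assoc, h.sq _ hu, mul_one]
  by_cases d : v * r ^ a * (v * s) = v * s * (v * r ^ a)
  · obtain d | d := h.cm _ hu' _ hu d
    · exact mul_left_cancel d ▸ m
    · rw [mul_assoc, mul_right_inj] at d
      exact d ▸ mul_mem m zr
  obtain ⟨i, hi, e, z1, -⟩ := h.four hu' hu d
  have := h.gam hu' (h.pw hu' hu hi) e hv
  rw [mul_assoc, mem_cent1.1 (zpowers_le.2 (mem_cent1.2 c.symm) hi), h.cc hv] at this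
  exact absurd (by rw [← e]; nth_rw 1 [this]; exact inv_mul_cancel i) z1

end Dh

end CF.Cl2
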