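/-
Blocks `L = A.SL₂(q)` with `A` the natural module.
-/
import Cfsg.Agent.Loc.SI3
import Cfsg.Agent.Loc.L34b
import Cfsg.Agent.Chev.FF
import Cfsg.Agent.PLocal.Qd2
set_option autoImplicit false
set_option linter.unusedSectionVars false

namespace CF.Cl2
open Subgroup Cfsg CF.BG CF.Sig CF.GW CF.Ab2
open CF.PLocal (upT)
open scoped commutatorElement MatrixGroups

universe u
variable {G : Type u} [Group G] [Finite G]
variable {A B D E H J K L M N P Q R S T U V W X Y Z : Subgroup G} {a b c d e g k l n s t u v w x y z : G}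
variable {F : Type} [Field F] [Fintype F] {ρ : G → SL(2, F)} {ψ : G → Fin 2 → F}

theorem idx_le_two (h : ∀ a ∈ K, ∀ b ∈ K, a ∉ H → b ∉ H → a * b ∈ H) : H.relIndex K ≤ 2 := by
  by_cases e : K ≤ H
  · rw [relIndex_eq_one.2 e]; norm_num
  obtain ⟨w, hw, nw⟩ := SetLike.not_le_iff_exists.1 e
  exact (relIndex_eq_two_iff_exists_notMem_and.2 ⟨w, hw, nw, fun b hb => or_iff_not_imp_right.2
    fun nb => h b hb w hw nb nw⟩).le

theorem mul_of_idx (i : H.relIndex K ≤ 2) (ha : a ∈ K) (hb : b ∈ K) (na : a ∉ H) (nb : b ∉ H) : a * b ∈ H :=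
  ((hyp_of_relIndex (le_antisymm i (one_lt_relIndex fun e => na (e ha)))).mul_mem ha hb (fun e => na e.2)
    fun e => nb e.2).2

theorem cjm (a b x : G) : a * b * x * (a * b)⁻¹ = a * (b * x * b⁻¹) * a⁻¹ := by group
theorem cjc (g k x : G) : g * (k * x * k⁻¹) * g⁻¹ = g * k * g⁻¹ * (g * x * g⁻¹) * (g * k * g⁻¹)⁻¹ := by group

theorem scal_one {f : G → F} {c : F} (two : ∀ x : F, x + x = 0) (e : E2 g) (n : g ∈ 𝐍 U)
    (k : ∀ u ∈ U, f (g * u * g⁻¹) = c * f u) (hu : u ∈ U) (u0 : f u ≠ 0) : c = 1 := by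
  have p : ∀ m : ℕ, f (g ^ m * u * (g ^ m)⁻¹) = c ^ m * f u := fun m => by
    induction m with
    | zero => simp
    | succ m ih =>
      rw [pow_succ' c, mul_assoc c, ← ih, ← k _ (conj_mem_of_norm (pow_mem n m) hu)]; congr 1; group
  obtain ⟨m, hm⟩ := e2_pow e
  have := p (2 ^ m)
  rw [← hm, pow_orderOf_eq_one, one_mul, inv_one, mul_one, eq_comm, mul_eq_right₀ u0, hm] at this
  clear hm k p
  induction m generalizing c with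
  | zero => simpa using this
  | succ m ih =>
    have := ih (c := c * c) (by rw [← sq, ← pow_mul, ← pow_succ', this])
    have := pow_eq_zero_iff two_ne_zero |>.1 (show (c + 1) ^ 2 = 0 by linear_combination this + two c + two 1)
    linear_combination this - two 1

theorem cube_span (q : 4 < Nat.card F) (two : ∀ x : F, x + x = 0) (R : Subring F) (h : ∀ t, t * t * t ∈ R) (x : F) :
    x ∈ R := by
  obtain ⟨t, t0, t1⟩ : ∃ t : F, t ≠ 0 ∧ t * t * t ≠ 1 := by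
    by_contra! c
    have := FiniteField.forall_pow_eq_one_iff F 3 |>.1 fun u => Units.ext (by simpa [pow_succ] using c u u.ne_zero)
    rw [← Nat.card_eq_fintype_card] at this
    have := Nat.le_of_dvd (by norm_num) this
    omega
  have a : ∀ x, x * x + x ∈ R := fun x => by
    convert sub_mem (sub_mem (h (x + 1)) (h x)) R.one_mem using 1; linear_combination -two (x * x) - two x
  have hr := h t
  have r0 : t * t * t ≠ 0 := by positivity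
  generalize t * t * t = r at hr r0 t1
  have : r + r * r ≠ 0 := fun e => t1 (mul_left_cancel₀ r0 (by linear_combination e - two r))
  rw [← mul_div_cancel₀ x this]
  generalize x / (r + r * r) = y
  convert sub_mem (a (r * y)) (mul_mem (mul_mem hr hr) (a y)) using 1
  linear_combination two (r * r * y)

/-- `g` acts semilinearly on `A ∩ B` and on `A / (A ∩ B)` -/
def Sl (A B : Subgroup G) (ψ : G → Fin 2 → F) (g : G) (σ : RingAut F) : Prop :=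
  g ∈ 𝐍 A ⊓ 𝐍 B ∧ ∃ c c' : F, c ≠ 0 ∧ c' ≠ 0 ∧ (∀ z ∈ A ⊓ B, ψ (g * z * g⁻¹) 0 = c * σ (ψ z 0)) ∧
    ∀ a ∈ A, ψ (g * a * g⁻¹) 1 = c' * σ (ψ a 1)

theorem cZ_mem (hg : g ∈ 𝐍 A ⊓ 𝐍 B) (hz : z ∈ A ⊓ B) : g * z * g⁻¹ ∈ A ⊓ B :=
  mi (conj_mem_of_norm hg.1 hz.1) (conj_mem_of_norm hg.2 hz.2)

theorem Sl.mul {σ τ : RingAut F} (h : Sl A B ψ a σ) (k : Sl A B ψ b τ) : Sl A B ψ (a * b) (σ * τ) := by
  obtain ⟨n, c, c', c0, c0', h, h'⟩ := h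
  obtain ⟨m, d, d', d0, d0', k, k'⟩ := k
  refine ⟨mul_mem n m, c * σ d, c' * σ d', by simp [*], by simp [*], fun z hz => ?_, fun z hz => ?_⟩ <;>
    rw [cjm]
  · rw [h _ (cZ_mem m hz), k z hz, map_mul, mul_assoc]; rfl
  · rw [h' _ (conj_mem_of_norm m.1 hz), k' z hz, map_mul, mul_assoc]; rfl

theorem Sl.inv {σ : RingAut F} (h : Sl A B ψ a σ) : Sl A B ψ a⁻¹ σ⁻¹ := by
  obtain ⟨n, c, c', c0, c0', h, h'⟩ := h
  refine ⟨inv_mem n, σ⁻¹ c⁻¹, σ⁻¹ c'⁻¹, by simp [*], by simp [*], fun z hz => ?_, fun z hz => ?_⟩ <;>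
    rw [← map_mul] <;> refine (σ.eq_symm_apply.2 ?_) <;> rw [eq_inv_mul_iff_mul_eq₀ (by assumption)]
  · rw [← h _ (cZ_mem (inv_mem n) hz)]; congr 1; group
  · rw [← h' _ (conj_mem_of_norm (inv_mem n).1 hz)]; congr 1; group

/-- elements acting linearly -/
def Lin (A B : Subgroup G) (ψ : G → Fin 2 → F) : Subgroup G where
  carrier := {g | Sl A B ψ g 1}
  mul_mem' h k := by simpa using Sl.mul h k
  one_mem' := ⟨one_mem _, 1, 1, by simp⟩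
  inv_mem' h := by simpa using Sl.inv h

/-- `L = A.SL₂(F)` with Sylow 2-subgroup `J = AB` -/
structure Nb (F : Type) [Field F] (A B J L : Subgroup G) (ρ : G → SL(2, F)) (ψ : G → Fin 2 → F) : Prop
    extends Nt F L A B J L ρ ψ where
  ka : ∀ l ∈ L, ρ l = 1 → l ∈ A
  ia : ∀ a ∈ A, a ∈ 𝐂 L → a = 1
  q : 2 < Nat.card F
  nA : 𝐍 A ≤ 𝐍 L

namespace Nb
variable (h : Nb F A B J L ρ ψ)
include h

theorem ψinj (ha : a ∈ A) (hb : b ∈ A) (e : ψ a = ψ b) : a = b := by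
  rw [eq_inv_of_mul_eq_one_left (h.ia _ (h.ψ_eq ha hb e).1 (h.ψ_eq ha hb e).2), ab_inv h.ea hb]

theorem ext (ha : a ∈ A) (hb : b ∈ A) (e : ψ a 0 = ψ b 0) (e' : ψ a 1 = ψ b 1) : a = b :=
  h.ψinj ha hb (funext (Fin.forall_fin_two.2 ⟨e, e'⟩))

theorem nA' : J ≤ 𝐍 A := h.toNt.toAB.nA
theorem z1 (hz : z ∈ A ⊓ B) : ψ z 1 = 0 := (h.z_iff hz.1).1 hz.2
theorem ext0 (ha : a ∈ A ⊓ B) (hb : b ∈ A ⊓ B) (e : ψ a 0 = ψ b 0) : a = b :=
  h.ext ha.1 hb.1 e (by rw [h.z1 ha, h.z1 hb])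
theorem ne0 (hz : z ∈ A ⊓ B) (n : z ≠ 1) : ψ z 0 ≠ 0 := h.ψne hz fun e => n (h.ia z hz.1 e)
theorem exZ0 (t : F) : ∃ z ∈ A ⊓ B, ψ z 0 = t := let ⟨z, hz, e⟩ := h.exZ t; ⟨z, hz, by simp [e]⟩
theorem LC (hl : l ∈ L) (c : l ∈ 𝐂 A) : l ∈ A := h.ka l hl (h.nat.ρ_eq_one_of_cent hl c)
theorem cZ0 : ♯(A ⊓ B) = Nat.card F := by
  have := h.nat.card_V'
  rw [(eq_bot_of_forall fun a ha => h.ia a (mi1 ha) (mi2 ha) : A ⊓ 𝐂 L = ⊥), card_bot, mul_one, h.nat.card_V, h.inf_centS, sq] at this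
  exact Nat.eq_of_mul_eq_mul_left Nat.card_pos this
theorem cA0 : ♯A = Nat.card F * Nat.card F := by rw [h.card_A, h.cZ0, h.cardB]
theorem cB0 : ♯B = Nat.card F * Nat.card F := by rw [h.card_B, h.cZ0, h.cardA]

theorem memJ (hl : l ∈ L) (e : ρ l 1 0 = 0) (e' : ρ l 0 0 = 1) : l ∈ J := by
  obtain ⟨s, hs, f⟩ := h.nat.up' (ρ l 0 1)
  have d := sl_det (ρ l)
  refine (mul_mem_cancel_left (inv_mem hs)).1 (h.la (h.ka _ (mul_mem (inv_mem (h.sL hs)) hl) ?_))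
  rw [h.ρmul (inv_mem (h.sL hs)) hl, h.nat.ρinv (h.sL hs), f, inv_mul_eq_one]
  ext i j; fin_cases i <;> fin_cases j <;> simp_all [PLocal.upT_val]

theorem nJ (hl : l ∈ L) : l ∈ 𝐍 J ↔ ρ l 1 0 = 0 := by
  refine ⟨fun n => (h.norm_iff hl).1 (h.normZ hl n), fun e => mem_norm_of fun s hs => ?_⟩
  have := h.ρcj hl (h.sL hs)
  rw [h.up hs, PLocal.conj_upT_of_eq_zero e] at this
  exact h.memJ (cmem hl (h.sL hs)) (by rw [this]; rfl) (by rw [this]; rfl)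

theorem mem2 (hl : l ∈ L) (n : l ∈ 𝐍 J) (e : E2 l) : l ∈ J := h.syl.mem_of_norm hl n e

theorem memC (hz : z ∈ A ⊓ B) (n : z ≠ 1) (hl : l ∈ L) (c : l * z = z * l) : l ∈ J := by
  have e := fun i => h.ψcj hl hz.1 i
  simp only [c, mul_inv_cancel_right, h.z1 hz, mul_zero, add_zero] at e
  exact h.memJ hl ((mul_eq_zero.1 ((e 1).symm.trans (h.z1 hz))).resolve_right (h.ne0 hz n))
    (mul_eq_right₀ (h.ne0 hz n) |>.1 (e 0).symm)

theorem ψ0cj (hl : l ∈ L) (hz : z ∈ A ⊓ B) : ψ (l * z * l⁻¹) 0 = ρ l 0 0 * ψ z 0 := by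
  rw [h.ψcj hl hz.1, h.z1 hz, mul_zero, add_zero]

theorem ψ1cj (hl : l ∈ L) (n : l ∈ 𝐍 J) (ha : a ∈ A) : ψ (l * a * l⁻¹) 1 = ρ l 1 1 * ψ a 1 := by
  rw [h.ψcj hl ha, (h.nJ hl).1 n, zero_mul, zero_add]

theorem diag {t : F} (ht : t ≠ 0) : ∃ k ∈ L ⊓ 𝐍 J, ρ k 0 0 = t ∧ ρ k 0 1 = 0 ∧ ρ k 1 0 = 0 ∧ ρ k 1 1 = t⁻¹ := by
  obtain ⟨k, hk, e⟩ := h.nat.ρsurj ⟨!![t, 0; 0, t⁻¹], by simp [Matrix.det_fin_two, ht]⟩
  exact ⟨k, mi hk ((h.nJ hk).2 (by simp [e])), by simp [e]⟩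

theorem gen : ∃ w ∈ L, L ≤ J ⊔ cj w J := by
  obtain ⟨w, hw, e⟩ := h.nat.ρsurj ⟨!![0, -1; 1, 0], by simp⟩
  obtain ⟨b, hb, nb⟩ := h.exB
  have l : J ⊔ cj w J ≤ L := sup_le h.sL (cj_le_of_mem hw h.sL)
  refine ⟨w, hw, fun x hx => ?_⟩
  obtain ⟨k, hk, f⟩ := h.nat.surj_of_le l le_sup_left (mem_sup_right (conj_mem_cj.2 (h.lb hb)))
    (h.nat.ρ_conj_ne (h.lb hb) (fun c => nb (h.mem_of_cent (h.lb hb) c)) hw (by simp [e])) (ρ x)
  refine (mul_mem_cancel_left (inv_mem hk)).1 (mem_sup_left (h.la (h.ka _ (mul_mem (inv_mem (l hk)) hx) ?_)))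
  rw [h.ρmul (inv_mem (l hk)) hx, h.nat.ρinv (l hk), f, inv_mul_cancel]

theorem A_le : A ≤ ⁅L, L⁆ := by
  obtain ⟨t, t0, t1⟩ := exists_ne01 h.q
  obtain ⟨k, hk, -, -, -, f⟩ := h.diag (inv_ne_zero t0)
  obtain ⟨a, ha, na⟩ := h.exA
  have m := h.cA hk.1 ha
  refine (h.cover (U := A ⊓ ⁅L, L⁆) inf_le_left (norm_inf h.lN ((le_norm_self L).trans (norm_der L))) fun e => ?_).trans
    (sup_le inf_le_right fun x hx => h.ia x hx.1 hx.2 ▸ one_mem _)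
  have := (h.z_iff (mul_mem m (inv_mem ha))).1 (e (mi (mul_mem m (inv_mem ha))
    (commutator_mem_commutator hk.1 (h.aL ha))))
  rw [h.ψmul m (inv_mem ha), Pi.add_apply, h.ψ1cj hk.1 hk.2 ha, f, inv_inv, h.ψinv ha, add_eq_zero_iff_eq_neg,
    h.neg, mul_eq_right₀ (mt (h.z_iff ha).2 na)] at this
  exact t1 this

theorem spl (hx : x ∈ 𝐂 J) (n : x ∈ 𝐍 L) : ∃ z ∈ A ⊓ B, z * x ∈ 𝐂 L := by
  obtain ⟨t, t0, t1⟩ := exists_ne01 h.q
  obtain ⟨k, hk, k1, k2, k3, k4⟩ := h.diag t0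
  have t2 : 1 + t ≠ 0 := fun e => t1 (by rw [← h.neg t, eq_comm, ← add_eq_zero_iff_eq_neg, e])
  have cm : ∀ {x l}, x ∈ 𝐂 J → x ∈ 𝐍 L → l ∈ L → ⁅x, l⁆ ∈ A := fun {x l} hx n hl =>
    h.LC (mul_mem (conj_mem_of_norm n hl) (inv_mem hl)) (mem_of_eq (mul_mem (cent_anti h.la hx)
      (conj_mem_of_norm (norm_le_norm_cent A (h.lN hl)) (inv_mem (cent_anti h.la hx)))) (by
        rw [commutatorElement_def]; group))
  have m : ⁅x, k⁆ ∈ A ⊓ B := h.inf_centS.le (mi (cm hx n hk.1) (mem_of_eq (mul_mem hx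
    (conj_mem_of_norm (norm_le_norm_cent J hk.2) (inv_mem hx))) (by rw [commutatorElement_def]; group)))
  obtain ⟨z, hz, e⟩ := h.exZ0 (ψ ⁅x, k⁆ 0 / (1 + t))
  have zk := conj_mem_of_norm (h.normZ hk.1 hk.2) hz
  have e1 : z * (k * z * k⁻¹) = ⁅x, k⁆ := h.ext0 (mul_mem hz zk) m (by
    rw [h.ψmul hz.1 zk.1, Pi.add_apply, h.ψ0cj hk.1 hz, k1, e]; field_simp)
  have yJ : z * x ∈ 𝐂 J := mul_mem (cent_symm h.cZ hz) hx
  have yN : z * x ∈ 𝐍 L := mul_mem (le_norm_self L (h.aL hz.1)) n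
  have yk : z * x * k * (z * x)⁻¹ = k := by
    rw [show z * x * k * (z * x)⁻¹ = z * ⁅x, k⁆ * k * z⁻¹ by rw [commutatorElement_def]; group, ← e1, ← mul_assoc z z, ab_sq h.ea hz.1]
    group
  refine ⟨z, hz, ?_⟩
  generalize z * x = y at yJ yN yk
  obtain ⟨w, hw, e⟩ := h.nat.ρsurj ⟨!![0, 1; 1, 0], by simp [h.neg]⟩
  have wk : w * k * w⁻¹ * k ∈ A := h.ka _ (mul_mem (cmem hw hk.1) hk.1) (by
    rw [h.ρmul (cmem hw hk.1) hk.1, h.ρcj hw hk.1]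
    ext i j; fin_cases i <;> fin_cases j <;> simp only [sl_mul, sl_inv, Fin.zero_eta, Fin.mk_one] <;>
      simp [e, k1, k2, k3, k4, t0, h.neg])
  have cA := cm yJ yN hw
  have yw : ⁅y, w⁆ = 1 := by
    have e1 : y * (w * k * w⁻¹ * k) * y⁻¹ = ⁅y, w⁆ * (w * k * w⁻¹) * ⁅y, w⁆⁻¹ * k := by
      conv_rhs => rw [← yk, commutatorElement_def]
      group
    rw [← mem_cent.1 yJ _ (h.la wk), mul_inv_cancel_right, mul_left_inj, eq_mul_inv_iff_mul_eq] at e1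
    have e2 : k * ⁅y, w⁆ * k⁻¹ = ⁅y, w⁆ := by
      have := h.cma wk cA
      rw [← mul_assoc ⁅y, w⁆, ← e1, mul_assoc (w * k * w⁻¹), mul_assoc (w * k * w⁻¹), mul_right_inj] at this
      rw [this, mul_inv_cancel_right]
    have e3 := fun i => h.ψcj hk.1 cA i
    simp only [e2, Fin.forall_fin_two, k1, k2, k3, k4, zero_mul, add_zero, zero_add] at e3
    refine h.ext cA (one_mem _) ?_ ?_ <;> rw [h.nat.ψone] <;> by_contra c
    · exact t1 ((mul_eq_right₀ c).1 e3.1.symm)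
    · exact t1 (inv_eq_one.1 ((mul_eq_right₀ c).1 e3.2.symm))
  have l : J ≤ L ⊓ 𝐂₁ y := le_inf h.sL (le_cent1_iff.2 yJ)
  refine le_cent1_iff.1 fun x hx => ?_
  obtain ⟨k, hk, f⟩ := h.nat.surj_of_le inf_le_left l (mi hw (mem_cent1.2
    (commutatorElement_eq_one_iff_mul_comm.1 yw).symm)) (by simp [e]) (ρ x)
  refine mi2 ((mul_mem_cancel_left (inv_mem hk)).1 (l (h.la (h.ka _ (mul_mem (inv_mem hk.1) hx) ?_))))
  rw [h.ρmul (inv_mem hk.1) hx, h.nat.ρinv hk.1, f, inv_mul_cancel]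

theorem cen (n : y ∈ 𝐍 A) (c : y ∈ 𝐂 (A ⊓ B)) (k : ∀ a ∈ A, ψ (y * a * y⁻¹) 1 = ψ a 1) :
    ∃ s ∈ J, s * y ∈ 𝐂 A := by
  obtain ⟨u, hu, eu⟩ := h.nat.ψsurj ![0, 1]
  obtain ⟨s, hs, es⟩ := h.nat.up' (ψ (y * u * y⁻¹) 0)
  refine ⟨s, hs, ?_⟩
  have k' : ∀ a ∈ A, ψ (s * y * a * (s * y)⁻¹) 1 = ψ a 1 := fun a ha => by
    rw [cjm, h.ψ1cj (h.sL hs) (le_norm_self J hs) (conj_mem_of_norm n ha), k a ha,
      es, (sl_up _).2.2.2, one_mul]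
  have yu : s * y * u * (s * y)⁻¹ = u := h.ext (conj_mem_of_norm (mul_mem (h.nA' hs) n) hu) hu (by
    rw [cjm, h.ψcj (h.sL hs) (conj_mem_of_norm n hu), k u hu, es, eu]
    simp [sl_up, h.two]) (k' u hu)
  have c := mul_mem (h.cZ hs) c
  have n := mul_mem (h.nA' hs) n
  generalize s * y = y at *
  obtain ⟨l, hl, el⟩ := h.nat.ρsurj ⟨!![1, 0; 1, 1], by simp⟩
  have hl' := conj_mem_of_norm' (h.nA n) hl
  have lu : l * u * l⁻¹ = u := h.ext (h.cA hl hu) hu (by simp [h.ψcj hl hu, el, eu]) (by simp [h.ψcj hl hu, el, eu])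
  have lu' : y⁻¹ * l * y * u * (y⁻¹ * l * y)⁻¹ = u := by
    rw [cjm, cjm, yu, lu]; (conv_lhs => rw [← yu]); group
  have e := fun i => h.ψcj hl' hu i
  simp only [lu', eu, Fin.forall_fin_two, Matrix.cons_val_zero, Matrix.cons_val_one, mul_zero, zero_add, mul_one] at e
  have key : ∀ a ∈ A, ψ a 0 = 0 → y * a * y⁻¹ = a := fun a ha a0 => by
    have m := conj_mem_of_norm n ha
    have e1 : y⁻¹ * l * y * a * (y⁻¹ * l * y)⁻¹ = a := h.ext (h.cA hl' ha) ha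
      (by rw [h.ψcj hl' ha, a0, ← e.1]; simp) (by rw [h.ψcj hl' ha, a0, ← e.2]; simp)
    have e2 := h.ψcj hl m 1
    rw [show l * (y * a * y⁻¹) * l⁻¹ = y * a * y⁻¹ by (conv_rhs => rw [← e1]); group, el] at e2
    exact h.ext m ha (by rw [a0]; simpa using e2) (k' a ha)
  refine mem_cent.2 fun a ha => ?_
  obtain ⟨z, hz, ez⟩ := h.exZ0 (ψ a 0)
  have := key _ (mul_mem hz.1 ha) (by rw [h.ψmul hz.1 ha, Pi.add_apply, ez, h.two])
  rw [← mul_assoc, ← mem_cent.1 c z hz, mul_assoc, mul_assoc, mul_right_inj, ← mul_assoc] at this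
  exact (mul_inv_eq_iff_eq_mul.1 this).symm

theorem exA1 (t : F) : ∃ a ∈ A, ψ a 1 = t := let ⟨a, ha, e⟩ := h.nat.ψsurj ![0, t]; ⟨a, ha, by simp [e]⟩
theorem nJ' (hg : g ∈ 𝐍 A ⊓ 𝐍 B) : g ∈ 𝐍 J := h.norm_AB hg.1 hg.2

theorem ψ1eq (hg : g ∈ 𝐍 A ⊓ 𝐍 B) (ha : a ∈ A) (hb : b ∈ A) (e : ψ a 1 = ψ b 1) :
    ψ (g * a * g⁻¹) 1 = ψ (g * b * g⁻¹) 1 := by
  have := h.z1 (cZ_mem hg (mi (mul_mem ha hb) ((h.z_iff (mul_mem ha hb)).2 (by
    rw [h.ψmul ha hb, Pi.add_apply, e, h.two]))))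
  rwa [← conj_mul, h.ψmul (conj_mem_of_norm hg.1 ha) (conj_mem_of_norm hg.1 hb), Pi.add_apply,
    add_eq_zero_iff_eq_neg, h.neg] at this

theorem sl (hg : g ∈ 𝐍 A ⊓ 𝐍 B) : ∃ σ, Sl A B ψ g σ := by
  choose z hz ez using h.exZ0
  set φ := fun t => ψ (g * z t * g⁻¹) 0
  have e : ∀ y ∈ A ⊓ B, ψ (g * y * g⁻¹) 0 = φ (ψ y 0) := fun y hy => by
    conv_lhs => rw [h.ext0 hy (hz _) (ez _).symm]
  have ad : ∀ s t, φ (s + t) = φ s + φ t := fun s t => by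
    have := e _ (mul_mem (hz s) (hz t))
    rwa [← conj_mul, h.ψmul (cZ_mem hg (hz s)).1 (cZ_mem hg (hz t)).1, h.ψmul (hz s).1 (hz t).1, Pi.add_apply,
      Pi.add_apply, ez, ez, eq_comm] at this
  have φ1 : φ 1 ≠ 0 := h.ne0 (cZ_mem hg (hz 1)) fun c => by
    have := ez 1; rw [conj_eq_one_iff.1 c, h.nat.ψone] at this; simp at this
  have φ0 : φ 0 = 0 := by simpa using ad 0 0
  have m : ∀ k ∈ L ⊓ 𝐍 J, g * k * g⁻¹ ∈ L ⊓ 𝐍 J := fun k hk =>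
    mi (conj_mem_of_norm (h.nA hg.1) hk.1) (cmem (h.nJ' hg) hk.2)
  have t : ∀ k ∈ L ⊓ 𝐍 J, ∀ s, φ (ρ k 0 0 * s) = ρ (g * k * g⁻¹) 0 0 * φ s := fun k hk s => by
    have := e _ (conj_mem_of_norm (h.normZ hk.1 hk.2) (hz s))
    rw [h.ψ0cj hk.1 (hz s), ez] at this
    rw [← this, ← h.ψ0cj (m k hk).1 (cZ_mem hg (hz s)), cjc]
  let σ : F →+* F := RingHom.mk' ⟨⟨fun t => φ t / φ 1, div_self φ1⟩, fun s u => by
    by_cases s0 : s = 0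
    · simp [s0, φ0]
    obtain ⟨k, hk, rfl, -⟩ := h.diag s0
    simp only []; rw [t k hk, ← mul_one (ρ k 0 0), t k hk]; field_simp⟩ fun s u => by simp [ad, add_div]
  obtain ⟨a, ha, ea⟩ := h.exA1 1
  refine ⟨.ofBijective σ (Finite.injective_iff_bijective.1 σ.injective), hg, φ 1, ψ (g * a * g⁻¹) 1, φ1, fun c => ?_,
    fun y hy => by rw [e y hy]; exact (mul_div_cancel₀ _ φ1).symm, fun b hb => ?_⟩
  · have := (h.z_iff ha).1 (mem_of_eq (conj_mem_of_norm' hg.2 ((h.z_iff (conj_mem_of_norm hg.1 ha)).2 c)) (by group))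
    simp [ea] at this
  by_cases b0 : ψ b 1 = 0
  · rw [h.z1 (cZ_mem hg (mi hb ((h.z_iff hb).2 b0))), b0, map_zero, mul_zero]
  obtain ⟨k, hk, k0, -, -, k1⟩ := h.diag (inv_ne_zero b0)
  have d := h.det (h.normZ (m k hk).1 (m k hk).2) (m k hk).1
  have := t k hk 1
  rw [h.ψ1eq hg hb (h.cA hk.1 ha) (by rw [h.ψ1cj hk.1 hk.2 ha, k1, ea, inv_inv, mul_one]),
    cjc,
    h.ψ1cj (m k hk).1 (m k hk).2 (conj_mem_of_norm hg.1 ha), mul_comm, ← inv_inv (ψ b 1), map_inv₀,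
    eq_inv_of_mul_eq_one_right d, ← k0]
  congr 2; rw [mul_one] at this; exact (eq_div_iff φ1).2 this.symm

theorem lin0 {σ : RingAut F} {c : F} (s : Sl A B ψ g σ) (k : ∀ z ∈ A ⊓ B, ψ (g * z * g⁻¹) 0 = c * ψ z 0) : σ = 1 := by
  obtain ⟨-, d, -, d0, -, e, -⟩ := s
  obtain ⟨z, hz, ez⟩ := h.exZ0 1
  have := e z hz; rw [k z hz, ez, map_one, mul_left_inj' one_ne_zero] at this
  ext t; obtain ⟨z, hz, rfl⟩ := h.exZ0 t
  exact mul_left_cancel₀ d0 (by rw [← e z hz, k z hz, this]; rfl)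

theorem lin1 {σ : RingAut F} {c : F} (s : Sl A B ψ g σ) (k : ∀ a ∈ A, ψ (g * a * g⁻¹) 1 = c * ψ a 1) : σ = 1 := by
  obtain ⟨-, -, d, -, d0, -, e⟩ := s
  obtain ⟨z, hz, ez⟩ := h.exA1 1
  have := e z hz; rw [k z hz, ez, map_one, mul_left_inj' one_ne_zero] at this
  ext t; obtain ⟨z, hz, rfl⟩ := h.exA1 t
  exact mul_left_cancel₀ d0 (by rw [← e z hz, k z hz, this]; rfl)

theorem der_lin : ⁅𝐍 A ⊓ 𝐍 B, 𝐍 A ⊓ 𝐍 B⁆ ≤ Lin A B ψ := commutator_le.2 fun a ha b hb => by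
  obtain ⟨σ, s⟩ := h.sl ha
  obtain ⟨τ, t⟩ := h.sl hb
  have := CF.Chev.isCyclic_ringAut (F := F)
  have := ((s.mul t).mul s.inv).mul t.inv
  rwa [mul_comm' σ, mul_inv_cancel_right, mul_inv_cancel] at this

theorem le_lin : L ⊓ 𝐍 J ≤ Lin A B ψ := fun l hl =>
  have d := h.det (h.normZ hl.1 hl.2) hl.1
  ⟨mi (h.lN hl.1) (h.symm.normS hl.1 hl.2), _, _, left_ne_zero_of_mul_eq_one d, right_ne_zero_of_mul_eq_one d,
    fun _ hz => h.ψ0cj hl.1 hz, fun _ ha => h.ψ1cj hl.1 hl.2 ha⟩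

theorem of_lin (cA : 𝐂 A ≤ A) (hg : g ∈ Lin A B ψ) (e : E2 g) : g ∈ J := by
  obtain ⟨n, c, c', -, -, k, k'⟩ := hg
  obtain ⟨z, hz, ez⟩ := h.exZ0 1
  obtain ⟨a, ha, ea⟩ := h.exA1 1
  obtain rfl := scal_one (f := fun z => ψ z 0) h.two e (mem_norm_of fun _ => cZ_mem n) k hz (by simp [ez])
  obtain rfl := scal_one (f := fun z => ψ z 1) h.two e n.1 k' ha (by simp [ea])
  obtain ⟨s, hs, m⟩ := h.cen n.1 (mem_cent.2 fun z hz => (mul_inv_eq_iff_eq_mul.1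
    (h.ext0 (cZ_mem n hz) hz (by simpa using k z hz))).symm) (by simpa using k')
  exact (mul_mem_cancel_left hs).1 (h.la (cA m))

end Nb

end CF.Cl2
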