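/-
Sylow 2-subgroups of type `T/Z(T)`, `T` of type `M₂₄`: coordinates and strong closure.
-/
import Cfsg.Agent.Loc.SW1
set_option autoImplicit false
set_option linter.unusedSectionVars false
set_option maxRecDepth 100000

namespace CF.SW
open Subgroup Cfsg CF.BG CF.Sig CF.GW CF.Ab2 CF.Cl2
open CF.Loc (ncl le_ncl)
open scoped commutatorElement

/-- number of common fixed points -/
def fx (J : Finset (Fin 8)) : ℕ := (Finset.univ.filter fun i => ∀ j ∈ J, ac j i = i).card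

theorem fx_ab : ∀ J : Finset (Fin 8), (∀ j ∈ J, ∀ k ∈ J, dm j k = dm k j) → (∀ j ∈ J, j = 0) ∨
    J.card * fx J < 64 ∧ ((∀ j ∈ J, dm j j = 0) → J.card * fx J ≤ 32) := by decide +kernel
theorem fx_q : ∀ j k, dm j j = 0 → dm k k = 0 → dm j k = dm k j → ∀ i, ac j (cx k i) = cx k i := by
  decide +kernel
theorem fx_four : ∀ J : Finset (Fin 8), 4 ≤ J.card → fx J ≤ 8 := by decide +kernel
theorem fx_one : ∀ j, j ≠ 0 → (Finset.univ.filter fun i => ac j i = i).card ≤ 16 ∧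
    (dm j j = 0 → (Finset.univ.filter fun i => ac j i = i).card = 16) := by decide +kernel
theorem dm_z : ∀ j, j ≠ 0 → j = 4 ∨ ∃ k, dm j k = dm 4 (dm k j) := by decide +kernel
theorem dm_inv : ∀ j, ∃ l, dm l j = 0 ∧ ∀ k, dm l k = 0 → j = k := by decide +kernel

universe u
variable {G : Type u} [Group G] [Finite G] {α : Fin 64 → G} {δ : Fin 8 → G}
variable {A B E H K N P S U X Y : Subgroup G} {a b c g k s t u v w x y : G} {i : Fin 64} {j l : Fin 8}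

/-- coordinates for `S = A ⋊ D₈` -/
structure Co (α : Fin 64 → G) (δ : Fin 8 → G) (A S : Subgroup G) : Prop where
  mem : ∀ a, a ∈ A ↔ ∃ i, α i = a
  mul : ∀ i j, α i * α j = α (xv i j)
  dmu : ∀ j k, δ j * δ k = δ (dm j k)
  act : ∀ j i, δ j * α i = α (ac j i) * δ j
  one : ∀ i j, α i * δ j = 1 → i = 0 ∧ j = 0
  top : ∀ s, s ∈ S ↔ ∃ i j, α i * δ j = s

/-- the coset of `A` -/
def Cs (α : Fin 64 → G) (δ : Fin 8 → G) (u : G) (j : Fin 8) : Prop := ∃ i, α i * δ j = u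

open _root_.Classical in
/-- the image in the dihedral group -/
noncomputable def Jm (α : Fin 64 → G) (δ : Fin 8 → G) (B : Subgroup G) : Finset (Fin 8) :=
  Finset.univ.filter fun j => ∃ u ∈ B, Cs α δ u j

theorem mem_Jm : j ∈ Jm α δ B ↔ ∃ u ∈ B, Cs α δ u j := by simp [Jm]

namespace Co
variable (h : Co α δ A S)
include h

theorem a0 : α 0 = 1 := mul_eq_left.1 (h.mul 0 0)
theorem d0 : δ 0 = 1 := mul_eq_left.1 (h.dmu 0 0)
theorem aA (i : Fin 64) : α i ∈ A := (h.mem _).2 ⟨i, rfl⟩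
theorem cd (j : Fin 8) : Cs α δ (δ j) j := ⟨0, by rw [h.a0, one_mul]⟩
theorem dS (j : Fin 8) : δ j ∈ S := (h.top _).2 ⟨0, j, by rw [h.a0, one_mul]⟩
theorem le : A ≤ S := fun a ha => by
  obtain ⟨i, rfl⟩ := (h.mem a).1 ha
  exact (h.top _).2 ⟨i, 0, by rw [h.d0, mul_one]⟩
theorem sq (ha : a ∈ A) : a * a = 1 := by
  obtain ⟨i, rfl⟩ := (h.mem a).1 ha
  rw [h.mul, (xv_f i i).2.2 rfl, h.a0]
theorem ab : Abelem 2 A := ab_mk fun _ => h.sq
theorem inj : Function.Injective α := fun i j e => (xv_f i j).2.1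
  (h.one _ 0 (by rw [h.d0, mul_one, ← h.mul, e, h.sq (h.aA j)])).1
theorem ex (hu : u ∈ S) : ∃ j, Cs α δ u j := let ⟨i, j, e⟩ := (h.top u).1 hu; ⟨j, i, e⟩
theorem cs_mul (p : Cs α δ u j) (q : Cs α δ w l) : Cs α δ (u * w) (dm j l) := by
  obtain ⟨i, rfl⟩ := p
  obtain ⟨k, rfl⟩ := q
  exact ⟨xv i (ac j k), by rw [← h.mul, ← h.dmu, mul_assoc, ← mul_assoc (α (ac j k)), ← h.act]; group⟩
theorem cs_mem (p : Cs α δ u j) : u ∈ A ↔ j = 0 := by
  obtain ⟨i, rfl⟩ := p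
  refine ⟨fun e => ?_, fun e => by rw [e, h.d0, mul_one]; exact h.aA i⟩
  obtain ⟨k, e⟩ := (h.mem _).1 e
  exact (h.one (xv k i) j (by rw [← h.mul, mul_assoc, ← e, h.sq (h.aA k)])).2
theorem cs_uq (p : Cs α δ u j) (q : Cs α δ u l) : j = l := by
  obtain ⟨m, e, k⟩ := dm_inv j
  exact k l ((h.cs_mem (h.cs_mul (h.cd m) q)).1 ((h.cs_mem (h.cs_mul (h.cd m) p)).2 e))
theorem cs_cj (p : Cs α δ u j) (i : Fin 64) : u * α i * u⁻¹ = α (ac j i) := by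
  obtain ⟨k, rfl⟩ := p
  rw [mul_assoc (α k), h.act, ← mul_assoc, h.ab.abel.mul_comm (h.aA k) (h.aA _)]; group
theorem cs_cent (p : Cs α δ u j) : α i ∈ 𝐂₁ u ↔ ac j i = i := by
  rw [← h.inj.eq_iff, ← h.cs_cj p, mem_cent1, mul_inv_eq_iff_eq_mul, eq_comm]
theorem cs_comm (p : Cs α δ u j) (i : Fin 64) : u * α i * u⁻¹ * α i = α (cx j i) := by
  rw [h.cs_cj p, h.mul]; rfl
theorem cs_div (p : Cs α δ u j) (q : Cs α δ w j) : u * w⁻¹ ∈ A := by
  obtain ⟨i, rfl⟩ := p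
  obtain ⟨k, rfl⟩ := q
  exact mem_of_eq (mul_mem (h.aA i) (inv_mem (h.aA k))) (by group)
theorem norm : S ≤ 𝐍 A := le_norm_iff.2 fun u hu a ha => by
  obtain ⟨j, p⟩ := h.ex hu
  obtain ⟨i, rfl⟩ := (h.mem a).1 ha
  exact h.cs_cj p i ▸ h.aA _

theorem card_eq (l : U ≤ A) {p : Fin 64 → Prop} [DecidablePred p] (e : ∀ i, α i ∈ U ↔ p i) :
    ♯U = (Finset.univ.filter p).card := by
  rw [← Fintype.card_subtype, ← Nat.card_eq_fintype_card]
  refine (Nat.card_congr (Equiv.ofBijective (fun i : {i // p i} => (⟨α i, (e i).2 i.2⟩ : U))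
    ⟨fun i j q => Subtype.ext (h.inj (congrArg Subtype.val q)), fun a => ?_⟩)).symm
  obtain ⟨i, q⟩ := (h.mem a).1 (l a.2)
  exact ⟨⟨i, (e i).1 (q ▸ a.2)⟩, Subtype.ext q⟩

theorem card : ♯A = 64 := (h.card_eq le_rfl (p := fun _ => True) fun i => iff_true_intro (h.aA i)).trans (by decide)

theorem card_cent (hu : u ∈ S) (n : u ∉ A) : ♯(A ⊓ 𝐂₁ u : Subgroup G) ≤ 16 ∧
    (u * u ∈ A → ♯(A ⊓ 𝐂₁ u : Subgroup G) = 16) := by
  obtain ⟨j, p⟩ := h.ex hu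
  rw [h.card_eq inf_le_left (p := fun i => ac j i = i) fun i => by
    rw [mem_inf, h.cs_cent p, and_iff_right (h.aA i)], h.cs_mem (h.cs_mul p p)]
  exact fx_one j (mt (h.cs_mem p).2 n)

theorem card_fx (l : B ≤ S) : ♯(A ⊓ 𝐂 B : Subgroup G) = fx (Jm α δ B) :=
  h.card_eq inf_le_left fun i => by
    rw [mem_inf, and_iff_right (h.aA i)]
    refine ⟨fun e j hj => ?_, fun e => mem_cent.2 fun u hu => ?_⟩
    · obtain ⟨u, hu, p⟩ := mem_Jm.1 hj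
      exact (h.cs_cent p).1 (cent_le_cent1 hu e)
    · obtain ⟨j, p⟩ := h.ex (l hu)
      exact (mem_cent1.1 ((h.cs_cent p).2 (e j (mem_Jm.2 ⟨u, hu, p⟩)))).symm

theorem card_le_J (l : B ≤ S) : ♯B ≤ (Jm α δ B).card * ♯(B ⊓ A : Subgroup G) := by
  choose f hf using fun u : B => h.ex (l u.2)
  choose r r1 r2 using fun j : Jm α δ B => mem_Jm.1 j.2
  have m : ∀ u, f u ∈ Jm α δ B := fun u => mem_Jm.2 ⟨u, u.2, hf u⟩
  rw [← Fintype.card_coe, ← Nat.card_eq_fintype_card, ← Nat.card_prod]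
  refine Nat.card_le_card_of_injective (fun u : B => ((⟨f u, m u⟩ : Jm α δ B),
    (⟨u * (r ⟨f u, m u⟩)⁻¹, mi (mul_mem u.2 (inv_mem (r1 _))) (h.cs_div (hf u) (r2 ⟨f u, m u⟩))⟩ :
      (B ⊓ A : Subgroup G)))) fun u w e => ?_
  obtain ⟨e1, e2⟩ := Prod.ext_iff.1 e
  have e2 := congrArg Subtype.val e2
  simp only [show (⟨f u, m u⟩ : Jm α δ B) = ⟨f w, m w⟩ from e1] at e2
  exact Subtype.ext (mul_right_cancel e2)

theorem J_comm (e : Abel B) : ∀ j ∈ Jm α δ B, ∀ k ∈ Jm α δ B, dm j k = dm k j := fun j hj k hk => by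
  obtain ⟨u, hu, p⟩ := mem_Jm.1 hj
  obtain ⟨w, hw, q⟩ := mem_Jm.1 hk
  exact h.cs_uq (h.cs_mul p q) (e.mul_comm hw hu ▸ h.cs_mul q p)

theorem J_zero (l : B ≤ S) (e : ∀ j ∈ Jm α δ B, j = 0) : B ≤ A := fun u hu =>
  let ⟨j, p⟩ := h.ex (l hu); (h.cs_mem p).2 (e j (mem_Jm.2 ⟨u, hu, p⟩))

theorem uniq (l : B ≤ S) (e : Abel B) (c : ♯B = 64) : B = A := by
  rcases fx_ab _ (h.J_comm e) with k | ⟨k, -⟩
  · exact eq_of_card_eq (h.J_zero l k) (c.trans h.card.symm)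
  have := (h.card_le_J l).trans (Nat.mul_le_mul_left _
    (card_le (le_inf inf_le_right (inf_le_left.trans e) : B ⊓ A ≤ A ⊓ 𝐂 B)))
  rw [h.card_fx l] at this
  omega

theorem norm_elem (l : E ≤ S) (e : ∀ x ∈ E, x * x = 1) (c : 32 ≤ ♯E) : A ≤ 𝐍 E := by
  have ab := (ab_mk e).abel
  have sq : ∀ j ∈ Jm α δ E, dm j j = 0 := fun j hj => by
    obtain ⟨u, hu, p⟩ := mem_Jm.1 hj
    exact (h.cs_mem (h.cs_mul p p)).1 (e u hu ▸ A.one_mem)
  rcases fx_ab _ (h.J_comm ab) with k | ⟨-, k⟩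
  · exact h.ab.abel.le_norm (h.J_zero l k)
  have m : E ⊓ A ≤ A ⊓ 𝐂 E := le_inf inf_le_right (inf_le_left.trans ab)
  have q : E ⊓ A = A ⊓ 𝐂 E := eq_of_card_le m (by
    have := (k sq).trans (c.trans (h.card_le_J l))
    rw [h.card_fx l]
    exact Nat.le_of_mul_le_mul_left this (Finset.card_pos.2 ⟨0, mem_Jm.2 ⟨1, E.one_mem, h.d0 ▸ h.cd 0⟩⟩))
  refine le_norm_iff.2 fun a ha u hu => ?_
  obtain ⟨i, rfl⟩ := (h.mem a).1 ha
  obtain ⟨j, p⟩ := h.ex (l hu)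
  have : α (cx j i) ∈ E ⊓ A := q ▸ mi (h.aA _) (mem_cent.2 fun w hw => by
    obtain ⟨k, r⟩ := h.ex (l hw)
    have hj := mem_Jm.2 ⟨u, hu, p⟩
    have hk := mem_Jm.2 ⟨w, hw, r⟩
    exact (mem_cent1.1 ((h.cs_cent r).2 (fx_q k j (sq k hk) (sq j hj) (h.J_comm ab k hk j hj) i))).symm)
  rw [← h.cs_comm p] at this
  refine mem_of_eq (mul_mem (inv_mem hu) this.1) ?_
  rw [ab_inv h.ab ha, inv_eq_of_mul_eq_one_right (e u hu), ← mul_assoc, ← mul_assoc, ← mul_assoc, e u hu, one_mul]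

variable (hS : Syl 2 S X)
include hS

theorem wc (p : P2 P) (l : P ≤ X) (a : A ≤ P) : ∃ x ∈ 𝐍 A, cj x P ≤ S := by
  obtain ⟨x, -, e⟩ := hS.syl_cj_le l p
  exact ⟨x, cj_eq_self.1 (h.uniq ((cj_mono x a).trans e) (abel_cj.2 h.ab.abel)
    ((card_cj ..).trans h.card)), e⟩

theorem uq (p : P2 P) (l : P ≤ X) (a : A ≤ P) (b : cj g A ≤ P) : cj g A = A := by
  obtain ⟨x, hx, e⟩ := h.wc hS p l a
  have := h.uniq ((cj_mono x b).trans e) (abel_cj.2 (abel_cj.2 h.ab.abel))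
    ((card_cj ..).trans ((card_cj ..).trans h.card))
  rw [cj_eq_iff.1 this, cj_of_norm (inv_mem hx)]

theorem f3 (hg : g ∈ X) (p : P2 P) (l : P ≤ X) (a : cj g A ≤ P) (m : E ≤ P) (e : ∀ x ∈ E, x * x = 1)
    (c : 32 ≤ ♯E) : cj g A ≤ 𝐍 E := by
  obtain ⟨x, hx, q⟩ := h.wc hS (p.cj g⁻¹) (cj_le_of_mem (inv_mem hg) l) (cj_le_iff.1 a)
  have := h.norm_elem ((cj_mono x (cj_mono g⁻¹ m)).trans q) (fun y hy => by
    have := e _ (mem_cj.1 (mem_cj.1 hy))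
    rw [← conj_eq_one_iff (a := g * x⁻¹), ← this]; group) (by rwa [card_cj, card_cj])
  rw [← cj_norm, ← cj_norm, le_cj_iff, cj_of_norm (inv_mem hx)] at this
  exact cj_le_iff.2 this

theorem cjA (l : N ≤ X) (a : A ≤ N) (b : cj g A ≤ N) : ∃ k ∈ N, cj k A = cj g A := by
  obtain ⟨P, p, m⟩ := exists_syl_le a h.ab.pi
  obtain ⟨k, hk, e⟩ := p.syl_cj_le b (h.ab.pi.cj g)
  rw [cj_cj] at e
  exact ⟨k⁻¹, inv_mem hk, by rw [← h.uq hS p.pi (p.le.trans l) m e, cj_cj, inv_mul_cancel_left,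
    h.uq hS p.pi (p.le.trans l) m e]⟩

theorem sc : SC A X := by
  refine sc_of_syl hS h.le h.ab fun a ha g hg tS => by_contra fun tA => ?_
  have aX := h.le.trans hS.le
  have tg : g * a * g⁻¹ ∈ cj g A := conj_mem_cj.2 ha
  generalize g * a * g⁻¹ = t at tS tA tg
  have cjs : ∀ {g x}, x ∈ cj g A → x * x = 1 := fun hx => ab_sq (h.ab.cj _) hx
  have big : ∀ {H : Subgroup G} {t}, ♯H = 16 → t ∉ H → 32 ≤ ♯(H ⊔ zpowers t : Subgroup G) := fun c n =>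
    (by rw [c] : 32 = 2 * _).trans_le (two_mul_le le_sup_left fun e => n (e (mem_sup_right (mem_zpowers _))))
  have cH := (h.card_cent tS tA).2 (cjs tg ▸ A.one_mem)
  obtain ⟨H, eH⟩ : ∃ H, H = A ⊓ 𝐂₁ t := ⟨_, rfl⟩
  rw [← eH] at cH
  have HA : H ≤ A := eH ▸ inf_le_left
  have Ht : H ≤ 𝐂₁ t := eH ▸ inf_le_right
  obtain ⟨E, eE⟩ : ∃ E, E = H ⊔ zpowers t := ⟨_, rfl⟩
  have tE : t ∈ E := eE ▸ mem_sup_right (mem_zpowers t)
  have HE : H ≤ E := eE ▸ le_sup_left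
  have ES : E ≤ S := eE ▸ sup_le (HA.trans h.le) (zpowers_le.2 tS)
  have Et : E ≤ 𝐂₁ t := eE ▸ sup_le Ht (zpowers_le.2 (self_mem_cent1 t))
  have it : Iv t := .mk' (fun e => tA (e ▸ A.one_mem)) (cjs tg)
  have c1 : 32 ≤ ♯E := eE ▸ big cH fun e => tA (HA e)
  have nz : H ≤ 𝐍 (zpowers t) := Ht.trans (cent1_le_norm_zp t)
  have c2 : ♯E ≤ 2 * ♯H := by
    rw [eE, mul_comm, ← it.card]; exact Nat.le_of_dvd (Nat.mul_pos (card_pos' _) (card_pos' _)) (card_sup_dvd (.inl nz))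
  have sE : ∀ x ∈ E, x * x = 1 := fun x hx => by
    obtain ⟨b, hb, y, hy, rfl⟩ := (mem_sup_norm nz).1 (eE ▸ hx)
    rcases it.mem_zpowers.1 hy with rfl | rfl
    · rw [mul_one, h.sq (HA hb)]
    · rw [mul_assoc, ← mul_assoc y, ← mem_cent1.1 (Ht hb), mul_assoc, it.sq, mul_one, h.sq (HA hb)]
  have aE := (ab_mk sE).abel
  have nE : A ≤ 𝐍 E := h.norm_elem ES sE c1
  obtain ⟨R, r, ER⟩ := exists_syl_le (le_inf (ES.trans hS.le) Et) (hS.pi.le ES)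
  obtain ⟨c, hc, e⟩ := r.syl_cj_le (le_inf (cj_le_of_mem hg aX)
    (le_cent1_iff.2 ((h.ab.cj g).abel tg))) (h.ab.pi.cj g)
  rw [cj_cj] at e
  have tc : t ∈ cj (c * g) A := by
    rw [← cj_cj, ← conj_eq_of_comm (mem_cent1.1 hc.2)]; exact conj_mem_cj.2 tg
  obtain ⟨k, hk, e⟩ := h.cjA hS inf_le_left (le_inf aX nE) (le_inf (cj_le_of_mem (mul_mem hc.1 hg) aX)
    (h.f3 hS (mul_mem hc.1 hg) r.pi (r.le.trans inf_le_left) e ER sE c1))
  rw [← e] at tc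
  have kE := cj_of_norm hk.2
  have a1 := h.ab.cj k
  have n1 : cj k A ≤ 𝐍 E := by rw [← kE, ← cj_norm]; exact cj_mono k nE
  have n2 : E ≤ 𝐍 (cj k A) := by rw [← kE, ← cj_norm]; exact cj_mono k (ES.trans h.norm)
  have l1 : cj k H ≤ cj k A ⊓ E := le_inf (cj_mono k HA) (cj_le_of_norm hk.2 HE)
  have i1 : (cj k A).relIndex E ≤ 2 := idx_of_card l1 (by rwa [card_cj])
  have i2 : H.relIndex E ≤ 2 := idx_of_card (le_inf le_rfl HE) c2
  obtain ⟨s, hs, ns⟩ : ∃ s ∈ H, s ∉ cj k A := SetLike.not_le_iff_exists.1 fun q => by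
    have : E ≤ cj k A := eE ▸ sup_le q (zpowers_le.2 tc)
    rw [le_cj_iff, cj_of_norm (inv_mem hk.2)] at this
    exact tA (this tE)
  have cm : ∀ b ∈ cj k A, b * s * b⁻¹ * s ∈ cj k A ⊓ E := fun b hb =>
    mi (mem_of_eq (mul_mem hb (conj_mem_of_norm (n2 (HE hs)) (inv_mem hb)))
      (by rw [ab_inv h.ab (HA hs)]; group)) (mul_mem (conj_mem_of_norm (n1 hb) (HE hs)) (HE hs))
  have cH' : ∀ b ∈ cj k A, b ∈ 𝐍 H ↔ b * s * b⁻¹ * s ∈ H := fun b hb =>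
    ⟨fun q => mul_mem (conj_mem_of_norm q hs) hs, fun q => mem_norm_of fun y hy => by
      by_cases w : y ∈ cj k A
      · rwa [conj_eq_of_comm (a1.abel.mul_comm hb w)]
      · have := conj_eq_of_comm (a1.abel.mul_comm hb (mul_of_idx i1 (HE hy) (HE hs) w ns))
        refine mem_of_eq (mul_mem (mul_mem hy hs) (inv_mem ((mul_mem_cancel_right hs).1 q))) ?_
        rw [← this]; group⟩
  have i3 : (𝐍 H).relIndex (cj k A) ≤ 2 := idx_le_two fun b hb d hd nb nd => (cH' _ (mul_mem hb hd)).2 (by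
    refine mem_of_eq (mul_of_idx i2 (cm b hb).2 (cm d hd).2 (mt (cH' b hb).2 nb) (mt (cH' d hd).2 nd)) ?_
    have e1 := conj_eq_of_comm (a1.abel.mul_comm hb (cm d hd).1)
    rw [aE.mul_comm (cm b hb).2 (cm d hd).2, ← e1, ← mul_right_inj (b * d * s * d⁻¹ * s * b⁻¹)⁻¹]
    have : s⁻¹ = s := ab_inv h.ab (HA hs)
    calc _ = b * s⁻¹ * b⁻¹ * s := by group
      _ = _ := by rw [this]; group)
  obtain ⟨f, hf, nf⟩ : ∃ f ∈ 𝐍 H ⊓ cj k A, f ∉ 𝐂₁ s := SetLike.not_le_iff_exists.1 fun q => by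
    have : 𝐍 H ⊓ cj k A ≤ cj k H := fun y hy => by
      have y1 : y ∈ 𝐂 E := mem_cent.2 fun w hw => by
        by_cases w' : w ∈ cj k A
        · exact a1.abel.mul_comm w' hy.2
        · have := a1.abel.mul_comm (mul_of_idx i1 hw (HE hs) w' ns) hy.2
          rwa [mul_assoc, ← mem_cent1.1 (q hy), ← mul_assoc, ← mul_assoc, mul_left_inj] at this
      rw [← kE, ← cj_cent] at y1
      exact mem_cj.2 (eH ▸ mi (mem_cj.1 hy.2) (cent_le_cent1 tE (mem_cj.1 y1)))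
    have := card_le_mul i3 this
    rw [card_cj, card_cj, h.card, cH] at this
    omega
  have AY : A ≤ X ⊓ 𝐍 E ⊓ 𝐍 H := le_inf (le_inf aX nE) (h.ab.abel.le_norm HA)
  obtain ⟨P, p, m⟩ := exists_syl_le (sup_le AY (le_inf (le_inf (ES.trans hS.le) (le_norm_self E))
    (aE.le_norm HE))) (hS.pi.le (sup_le h.le ES))
  obtain ⟨n, hn, q⟩ := p.syl_cj_le (zpowers_le.2 (mi (mi (cj_le_of_mem hk.1 aX hf.2) (n1 hf.2)) hf.1))
    (a1.pi.le (zpowers_le.2 hf.2))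
  rw [cj_zpowers] at q
  have fA : n * f * n⁻¹ ∈ cj (n * k) A := by rw [← cj_cj]; exact conj_mem_cj.2 hf.2
  have FA : cj (n * k) H ⊔ zpowers (n * f * n⁻¹) ≤ cj (n * k) A := sup_le (cj_mono _ HA) (zpowers_le.2 fA)
  have n3 := h.f3 hS X.one_mem p.pi (p.le.trans (inf_le_left.trans inf_le_left))
    ((cj_of_mem A.one_mem).le.trans (le_sup_left.trans m))
    (sup_le ((cj_le_of_norm (mul_mem hn.1.2 hk.2) HE).trans (le_sup_right.trans m)) q)
    (fun x hx => cjs (FA hx)) (big ((card_cj ..).trans cH) fun e => nf (by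
      rw [← cj_cj, conj_mem_cj] at e
      exact cent_le_cent1 (HE hs) (aE (l1 e).2)))
  rw [cj_of_mem A.one_mem] at n3
  obtain ⟨y, hy, e⟩ := h.cjA hS inf_le_left (le_inf aX n3)
    (le_inf (cj_le_of_mem (mul_mem hn.1.1 hk.1) aX) ((h.ab.cj _).abel.le_norm FA))
  rw [← e, le_cj_iff, cj_of_norm (inv_mem hy.2)] at FA
  have := h.ab.abel.mul_comm (FA (mem_sup_right (mem_zpowers _))) (HA (conj_mem_of_norm hn.2 hs))
  exact nf (mem_cent1.2 (by rwa [conj_mul, conj_mul, mul_left_inj, mul_right_inj] at this))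

theorem inf_ncl : S ⊓ ncl A X = A := by
  refine le_antisymm (fun u hu => ?_) (le_inf h.le (le_ncl _ _))
  obtain ⟨j, p⟩ := h.ex hu.1
  refine (h.cs_mem p).2 (by_contra fun n => ?_)
  obtain ⟨i, rfl⟩ := p
  have d : δ j ∈ ncl A X := (mul_mem_cancel_left (le_ncl _ _ (h.aA i))).1 hu.2
  have : δ 4 ∈ ncl A X := by
    rcases dm_z j n with rfl | ⟨k, e⟩
    · exact d
    · refine mem_of_eq (mul_mem d (inv_mem ((ncl_normal (h.le.trans hS.le)).conj_mem (hS.le (h.dS k)) d))) ?_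
      have := congrArg δ e
      rw [← h.dmu, ← h.dmu, ← h.dmu] at this
      rw [eq_mul_inv_iff_mul_eq, ← mul_assoc, ← mul_assoc, mul_inv_eq_iff_eq_mul, this, mul_assoc]
  exact absurd ((h.cs_mem (h.cd 4)).1 (mem_of_ncl (h.sc hS) hS h.le (h.dS 4) this
    ((h.dmu 4 4).trans h.d0))) (by decide)

omit hS in
/-- an odd section of the normalizer invariant under `S` centralizes `A` -/
theorem cent_of (a : Syl 2 A Y) (n : Y ≤ 𝐍 A) (m : S ≤ 𝐍 Y) : Y ≤ 𝐂 A := by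
  let ρ := A.normalizerMonoidHom
  have k : (Y.subgroupOf (𝐍 A)).map ρ = ⊥ := odd_triv (β := fun i => ⟨α i, h.aA i⟩)
    (τ := fun j => ρ ⟨δ j, h.norm (h.dS j)⟩)
    ⟨fun i j e => h.inj (congrArg Subtype.val e), fun a => ((h.mem a).1 a.2).imp fun _ e => Subtype.ext e⟩
    (fun i j => Subtype.ext (h.mul i j)) (fun j i => Subtype.ext (h.cs_cj (h.cd j) i))
    (GW.odd_iff_pi.2 (piGrp_of_forall_elt (by
      rintro _ ⟨y, hy, rfl⟩
      obtain ⟨b, c, hb, -, b2, c2, rfl⟩ := exists_piPart {2} y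
      have : ρ b = 1 := by
        rw [← MonoidHom.mem_ker, normalizerMonoidHom_ker]
        exact h.ab.abel (a.mem_normal n (zpowers_le.2 hy hb) (b2.map (𝐍 A).subtype))
      rw [map_mul, this, one_mul]
      exact c2.map ρ)))
    fun j => map_norm (subgroupOf_norm (𝐍 A) m) ρ (mem_map_of_mem ρ (h.dS j))
  intro y hy
  have := (Subgroup.map_eq_bot_iff _).1 k (show (⟨y, n hy⟩ : 𝐍 A) ∈ Y.subgroupOf _ from hy)
  rwa [normalizerMonoidHom_ker] at this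

/-- Schoenwaelder's theorem -/
theorem normal (h0 : 𝒪 X = ⊥) : X ≤ 𝐍 A := by
  have n := ncl_normal (h.le.trans hS.le)
  have a : Syl 2 A (ncl A X) := by simpa only [h.inf_ncl hS] using hS.inf_normal n
  have := (a.burnside (h.cent_of a.norm_self inf_le_right
    (norm_inf (hS.le.trans n.norm) (h.norm.trans (norm_le_norm_norm A))))).sdprod a
  have e := this.sup
  rw [eq_bot_mono h0 (O_le_O_of_normal n _), bot_sup_eq] at e
  exact e ▸ n.norm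

end Co

end CF.SW
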