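/-
Groups with Sylow 2-subgroups of type `L₅(2)`: the centralizer of the central involution modulo its core.
-/
import Cfsg.Agent.Loc.HL2
import Cfsg.Agent.Loc.HL3
import Cfsg.Agent.Held.IdB
set_option autoImplicit false
set_option linter.unusedSectionVars false
set_option maxRecDepth 100000
set_option synthInstance.maxSize 100000

namespace CF.HL
open Subgroup Cfsg CF.BG CF.Sig CF.GW CF.Ab2 CF.Cl2 CF.Comp CF.W2
open CF.Held (HM Sh QX L3 Fr Fs Ac)
open CF.Held.HM (In σT σ1 σ2 σE σS σU mem_T mem_W1 mem_W2 mem_U)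
open CF.Held.QX (UQ sf zq)
open CF.SW (xv dm ac)
open scoped commutatorElement

/-- elements of the extraspecial group -/
noncomputable def qa (i : Fin 64) : UT := ⟨SW.ea i, SW.ea_T i⟩
/-- elements of the dihedral complement -/
noncomputable def qd (j : Fin 8) : UT := ⟨SW.ed j, SW.ed_T j⟩

theorem q2h_ok : ∀ a : QX, Held.good (Held.q2h a.v) = true ∧ σT.has (Held.q2h a.v) = true := by decide +kernel

/-- the extraspecial group -/
noncomputable def qu : QX →* UT := MonoidHom.mk' (fun a => ⟨⟨Held.q2h a.v, (q2h_ok a).1⟩, (q2h_ok a).2⟩)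
  fun a b => UT.ext (Held.HM.ext (Held.qm_spec a.lt b.lt).2.1.symm)

theorem qu_inj : Function.Injective qu := fun a b e =>
  Held.QX.ext ((Held.qm_spec a.lt b.lt).2.2 (congrArg (·.v.v) e))

theorem range_qu : qu.range = Q := Subgroup.ext fun a =>
  ⟨fun ⟨b, e⟩ => e ▸ (by decide +kernel : ∀ b, In σQ (qu b).v) b,
    (by decide +kernel : ∀ a : UT, In σQ a.v → ∃ b, qu b = a) a⟩

theorem Q_cm : ∀ a : UT, In σQ a.v → ∀ b : UT, In σQ b.v → a * b = b * a ∨ a * b = b * a * z := by decide +kernel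

theorem qa_f : (∀ i, In σQ (qa i).v ∧ In σQ (qa i * z).v ∧ ∀ j, qa i = qa j ∨ qa i = qa j * z → i = j) ∧
    ∀ a : UT, In σQ a.v → ∃ i, a = qa i ∨ a = qa i * z := by decide +kernel

/-- an elementary abelian group of order 16 -/
def σF : Sh := ⟨nat_lit 17043521, nat_lit 540, [nat_lit 2, nat_lit 3, nat_lit 4, nat_lit 9], by decide⟩

theorem F_f : ∀ a : UT, In σF a.v → In σQ a.v ∧ a * a = 1 ∧ a * e24 = e24 * a ∧ In σF a⁻¹.v ∧
    ∀ b : UT, In σF b.v → In σF (a * b).v := by decide +kernel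

/-- an elementary abelian group of order 16 -/
def F : Subgroup UT where
  carrier := {a | In σF a.v}
  one_mem' := by show In σF (1 : UT).v; decide +kernel
  mul_mem' {a b} ha hb := (F_f a ha).2.2.2.2 b hb
  inv_mem' {a} ha := (F_f a ha).2.2.2.1

theorem card_F : ♯F = 16 := (card_of (σ := σF) (fun _ => Iff.rfl) (by decide +kernel)).trans (by decide +kernel)

theorem lift_or {a b : UT} (e : a.v = b.v ∨ a.v = b.v * Held.HM.z) : a = b ∨ a = b * z :=
  e.imp UT.ext fun e => UT.ext e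

universe u
variable {G : Type u} [Group G] [Finite G] {φ : UT →* G} {g k x y : G} {a b c d : UT} (h : SM φ)
include h

theorem ivz : Iv (φ z) := .mk' (map_ne h.inj z1) (map_sq zz)

theorem mem_z : φ a ∈ zpowers (φ z) ↔ a = 1 ∨ a = z := by
  rw [(ivz h).mem_zpowers, ← map_one φ, h.inj.eq_iff, h.inj.eq_iff]

theorem Z_range : 𝐙 φ.range = zpowers (φ z) := le_antisymm
  (fun _ ⟨⟨a, e⟩, k⟩ => e ▸ (mem_z h).2 (ctr fun b => h.inj (by
    rw [map_mul, map_mul, e]; exact (k _ ⟨b, rfl⟩).symm)))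
  (zpowers_le.2 ⟨⟨z, rfl⟩, fun _ ⟨a, e⟩ => e ▸ (Cj.of' (cz a)).comm⟩)

variable (hz : ∀ g, Cj φ g z z) (h0 : oddCore G = ⊥)
include hz h0

theorem le_z {C : Subgroup G} [n : C.Normal] (hC : ∀ x, φ x ∈ C → x = 1 ∨ x = z) : C ≤ zpowers (φ z) := by
  have hP := h.syl.inf_normal (normalIn_top.2 n)
  have l : φ.range ⊓ C ≤ zpowers (φ z) := fun _ ⟨⟨x, e⟩, k⟩ => e ▸ (mem_z h).2 (hC x (e ▸ k))
  refine ((hP.burnside (le_top.trans (cent_symm (l.trans (zpowers_le.2 fun g _ => (hz g).comm))))).sdprod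
    hP).sup.ge.trans (sup_le (((O_le_O_of_normal (normalIn_top.2 n) _).trans
      ((pPrimeCore_eq p2).symm.trans h0).le).trans bot_le) l)

theorem nQ : (Q.map φ).Normal := normalIn_top.1 ⟨le_top, SW.ex_normal (eT.symm.trans (MonoidHom.ofInjective h.inj))
  h.syl ((pPrimeCore_eq p2).symm.trans h0) (Z_range h ▸ zpowers_le.2 fun g _ => (hz g).comm) (map_le_range ..) (by
    rw [Z_range h, ← map_commutator, ← MonoidHom.map_zpowers]
    refine congrArg _ (le_antisymm (commutator_le.2 fun a ha b hb => ?_) (zpowers_le.2 ?_))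
    · rcases Q_cm a ha b hb with e | e <;> rw [commutatorElement_def, e]
      exacts [mem_of_eq (one_mem _) (by group), mem_of_eq (mem_zpowers z) (by rw [cz]; group)]
    · exact mem_of_eq (commutator_mem_commutator (g₁ := e12) (g₂ := e25) (mQ.2 (by decide +kernel))
        (mQ.2 (by decide +kernel))) (by rw [commutatorElement_def]; decide +kernel))
  ((card_map h.inj).trans card_Q)⟩

theorem cQ : 𝐂 (Q.map φ) ≤ zpowers (φ z) :=
  haveI := nQ h hz h0
  le_z h hz h0 fun x hx => by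
    have k := fun a (ha : In σQ a.v) => h.inj (by rw [map_mul, map_mul, hx _ (mem_map_of_mem φ (mQ.2 ha))] :
      φ (x * a) = φ (a * x))
    exact (by decide +kernel : ∀ x, x * e12 = e12 * x → x * e13 = e13 * x → x * e14 = e14 * x →
      x * e25 = e25 * x → x * e35 = e35 * x → x * e45 = e45 * x → x = 1 ∨ x = z) x (k _ (by decide +kernel))
      (k _ (by decide +kernel)) (k _ (by decide +kernel)) (k _ (by decide +kernel)) (k _ (by decide +kernel))
      (k _ (by decide +kernel))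

theorem exists_L3 (n : ∀ a ∈ [e14, e25], ∃ g, ¬ Cj φ g a a ∧ ¬ Cj φ g a (a * z)) :
    ∃ π : G →* L3, Function.Surjective π ∧ π.ker = Q.map φ := by
  haveI nz : (zpowers (φ z)).Normal := normalIn_top.1 ⟨le_top, norm_of_cent (cent_symm
    (zpowers_le.2 fun g _ => (hz g).comm))⟩
  haveI := nQ h hz h0
  let f := QuotientGroup.mk' (zpowers (φ z))
  haveI nA : ((Q.map φ).map f).Normal := Normal.map inferInstance f (QuotientGroup.mk'_surjective _)
  let ρ : G →* MulAut ((Q.map φ).map f) := MulAut.conjNormal.comp f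
  have k0 : ∀ {x y}, f x = f y ↔ x = y ∨ x = y * φ z := fun {x y} => by
    rw [eq_comm]
    exact QuotientGroup.eq.trans (by rw [(ivz h).mem_zpowers, inv_mul_eq_one, inv_mul_eq_iff_eq_mul, eq_comm])
  have k1 : ∀ {a b}, f (φ a) = f (φ b) ↔ a = b ∨ a = b * z := fun {a b} => by
    rw [k0, ← map_mul, h.inj.eq_iff, h.inj.eq_iff]
  let β : Fin 64 → (Q.map φ).map f := fun i =>
    ⟨f (φ (qa i)), mem_map_of_mem _ (mem_map_of_mem _ (mQ.2 (qa_f.1 i).1))⟩
  have r0 : ∀ {g}, ρ g = 1 ↔ ∀ a ∈ Q, Cj φ g a a ∨ Cj φ g a (a * z) := fun {g} => by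
    simp only [Cj, map_mul, ← k0, map_inv]
    refine ⟨fun e a ha => congrArg Subtype.val (MulEquiv.congr_fun e ⟨_, mem_map_of_mem _ (mem_map_of_mem _ ha)⟩),
      fun e => MulEquiv.ext ?_⟩
    rintro ⟨_, _, ⟨a, ha, rfl⟩, rfl⟩
    exact Subtype.ext (e a ha)
  have r1 : ∀ {a}, In σQ a.v → ρ (φ a) = 1 := fun {a} ha => r0.2 fun b hb =>
    (Q_cm a ha b hb).imp .of' fun e => .of' (by rw [e, mul_assoc, cz, mul_assoc])
  have r2 : ∀ a, ∃ j, ρ.rangeRestrict (φ (qd j)) = ρ.rangeRestrict (φ a) ∧ (j = 0 → a ∈ Q) := fun a => by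
    obtain ⟨i, j, e⟩ : ∃ i j, a = qa i * qd j ∨ a = qa i * qd j * z :=
      let ⟨i, e⟩ := SW.ea_top a.v a.ok
      ⟨i, _, lift_or e⟩
    refine ⟨j, Subtype.ext ?_, fun q => ?_⟩
    · show ρ _ = ρ _
      rcases e with rfl | rfl <;> simp only [map_mul]
      · rw [r1 (qa_f.1 i).1, one_mul]
      · rw [r1 (qa_f.1 i).1, r1 (a := z) (by decide +kernel), one_mul, mul_one]
    · rw [q, show qd 0 = 1 by decide +kernel, mul_one] at e
      rcases e with rfl | rfl
      exacts [(qa_f.1 i).1, (qa_f.1 i).2.1]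
  have m : Md β ρ.range.subtype (fun j => ρ.rangeRestrict (φ (qd j))) (φ.range.map ρ.rangeRestrict) := by
    refine ⟨⟨fun i j e => (qa_f.1 i).2.2 j (k1.1 (congrArg Subtype.val e)), ?_⟩, fun i j => Subtype.ext ?_,
      fun j i => Subtype.ext ?_, subtype_injective _, syl_map_top ρ.rangeRestrict_surjective h.syl,
      fun x => ⟨?_, fun ⟨j, e⟩ => ⟨_, ⟨_, rfl⟩, e⟩⟩⟩
    · rintro ⟨_, _, ⟨a, ha, rfl⟩, rfl⟩
      obtain ⟨i, e⟩ := qa_f.2 a ha
      exact ⟨i, Subtype.ext (k1.2 e).symm⟩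
    · exact (map_mul (f.comp φ) ..).symm.trans (k1.2 (lift_or (SW.ea_mul i j)))
    · show f (φ _) * f (φ _) * (f (φ _))⁻¹ = f (φ _)
      rw [mul_inv_eq_iff_eq_mul, ← map_mul, ← map_mul, ← map_mul, ← map_mul]
      exact k1.2 (lift_or (SW.ed_ea j i))
    · rintro ⟨_, ⟨a, rfl⟩, rfl⟩
      exact (r2 a).imp fun _ e => e.1
  obtain ⟨e⟩ := m.L3 fun c hc => by
    obtain ⟨g, g1, g2⟩ := n (qa c) ((by decide +kernel : ∀ c ∈ [4, 8], qa c ∈ [e14, e25]) c hc)
    refine ⟨ρ.rangeRestrict g, fun e => ?_⟩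
    have e : f g * f (φ (qa c)) * (f g)⁻¹ = f (φ (qa c)) := congrArg Subtype.val e
    rw [← map_inv, ← map_mul, ← map_mul, k0, ← map_mul] at e
    exact e.elim g1 g2
  refine ⟨e.toMonoidHom.comp ρ.rangeRestrict, e.surjective.comp ρ.rangeRestrict_surjective, ?_⟩
  rw [← MonoidHom.comap_ker, (MonoidHom.ker_eq_bot_iff _).2 e.injective, MonoidHom.comap_bot,
    MonoidHom.ker_rangeRestrict]
  refine le_antisymm (fun g hg => ?_) (map_le_iff_le_comap.2 fun a ha => r1 ha)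
  obtain ⟨a, rfl⟩ := h.syl.le_of_normal (normalIn_top.2 ρ.normal_ker) (piGrp_of_forall_elt fun g hg => by
    obtain ⟨a, c, -, hc, p1, p2, rfl⟩ := exists_piPart {2} g
    have : c ∈ 𝐂 (Q.map φ) := by
      rintro _ ⟨b, hb, rfl⟩
      refine (mem_cent1.1 (sq_mem_of_odd p2 (mem_cent1.2 (Cj.comm ?_)))).symm
      rcases r0.1 (zpowers_le.2 hg hc) b hb with k | k
      exacts [k.comp k, (k.comp (k.mul (hz c))).cast rfl (by rw [mul_assoc, zz, mul_one])]
    rwa [((h.e2 z).of_mem_zpowers (cQ h hz h0 this)).eq_one p2, mul_one]) hg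
  obtain ⟨j, e, k⟩ := r2 a
  exact mem_map_of_mem φ (k (m.d1.1 (e.trans (Subtype.ext hg))))

theorem exists_HM (n : ∀ a ∈ [e14, e25], ∃ g, ¬ Cj φ g a a ∧ ¬ Cj φ g a (a * z)) : Nonempty (HM ≃* G) := by
  haveI := nQ h hz h0
  obtain ⟨π, sπ, kπ⟩ := exists_L3 h hz h0 n
  have c : 𝐂₁ (φ z) = ⊤ := eq_top_iff.2 fun g _ => mem_cent1.2 (hz g).comm
  have i := h.inj.comp qu_inj
  have r : (φ.comp qu).range = Q.map φ := by rw [MonoidHom.range_comp, range_qu]
  have ex := Held.QX.ex.map (f := φ.comp qu) fun x _ => (injective_iff_map_eq_one (φ.comp qu)).1 i x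
  have mz : φ.comp qu zq = φ z := congrArg φ (by decide +kernel)
  rw [← MonoidHom.range_eq_map, mz] at ex
  obtain ⟨ψ, x, s, j, f⟩ := Fr.exists_fs (π := π.comp (𝐂₁ (φ z)).subtype) ⟨i, ⟨ex, r ▸ (cQ h hz h0).trans
    (zpowers_le.2 (r ▸ ex.mem)), r ▸ le_normalizer_of_normal⟩, mz,
    fun y => let ⟨g, e⟩ := sπ y; ⟨⟨g, c ▸ mem_top g⟩, e⟩, fun x => by rw [r, ← kπ]; rfl⟩
  replace r : ψ.range = Q.map φ := Subgroup.ext fun g => by
    rw [← kπ]; exact (f.ker ⟨g, c ▸ mem_top g⟩).symm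
  obtain ⟨n, q, -, e⟩ := f.inv (φ e24) (hz _).comm (by rw [map_sq (by decide +kernel)]; exact one_mem _)
    (by rw [r, mem_map_iff_mem h.inj, mQ]; decide +kernel)
  have ay := f.as.mul (.of q)
  have fx : ∀ {a b}, b * e24 = e24 * b → n * φ b * n⁻¹ = ψ a → sf j (q * a * q⁻¹) = a := fun {a b} p w =>
    f.inj ((ay a).symm.trans (by
      rw [← e, ← w, conj_inv, conj_mul, conj_mul, ← map_mul, ← p, map_mul, mul_inv_cancel_right]))
  obtain rfl : j = 0 := by_contra fun hj => by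
    have mU' : ∀ {u}, In σQ u.v → u * u = 1 → (𝐂₁ u).index = 2 → φ u ∈ (UQ j).map ψ := fun {u} a b d => by
      obtain ⟨w, e⟩ : φ u ∈ ψ.range := r ▸ mem_map_of_mem φ (mQ.2 a)
      refine e ▸ f.mem_U.2 (by_contra fun k => ?_)
      have o := f.orb hj ⟨f.inj (by rw [map_mul, e, map_sq b, map_one]), Bool.eq_false_iff.2 k⟩
      have o1 := index_dvd_of_le (h.cent u ▸ inf_le_right : (𝐂₁ u).map φ ≤ 𝐂₁ (φ u))
      have o2 := h.syl.not_dvd p2
      rw [c, relIndex_top_right, e] at o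
      rw [o, ← relIndex_mul_index (map_le_range φ _), MonoidHom.range_eq_map,
        relIndex_map_map_of_injective _ _ h.inj, relIndex_top_right, d, ← MonoidHom.range_eq_map] at o1
      rw [relIndex_top_right] at o2
      omega
    have m1 := mU' (u := e14) (by decide +kernel) (by decide +kernel) (by
      rw [index_eq_two_iff]; simp only [mem_cent1]; exact ⟨e45, by decide +kernel⟩)
    have m2 := mU' (u := e25) (by decide +kernel) (by decide +kernel) (by
      rw [index_eq_two_iff]; simp only [mem_cent1]; exact ⟨e12, by decide +kernel⟩)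
    have ab : ∀ {u v}, φ u ∈ (UQ j).map ψ → φ v ∈ (UQ j).map ψ → u * v = v * u := by
      rintro u v ⟨a, ha, p⟩ ⟨b, hb, q⟩
      exact h.inj (by rw [map_mul, map_mul, ← p, ← q, ← map_mul, ← map_mul,
        (by decide +kernel : ∀ j < 3, ∀ a, Held.QX.mU j a = true → ∀ b, Held.QX.mU j b = true → a * b = b * a) j f.lt a ha b hb])
    refine (by decide +kernel : ∀ j < 3, ∀ q, ¬ ∀ a, Held.QX.mU j a = true → sf j (q * a * q⁻¹) = a) j f.lt q fun a ha => ?_
    have m := conj_mem_of_norm (f.norm_U (c ▸ mem_top n⁻¹)) (f.mem_U.2 ha)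
    obtain ⟨b, hb, w⟩ : _ ∈ Q.map φ := r ▸ map_le_range _ _ m
    rw [← w] at m
    exact fx ((by decide +kernel : ∀ b : UT, In σQ b.v → b * e14 = e14 * b → b * e25 = e25 * b →
      b * e24 = e24 * b) b hb (ab m m1) (ab m m2)) (by rw [w]; group)
  have ss : s * s = 1 := f.ss.resolve_right fun ss => by
    have y2 : s * ψ q * (s * ψ q) = 1 := by rw [← e, conj_mul, map_sq (by decide +kernel)]; simp
    have := (Held.card_le_filter (A := (cj n (F.map φ)).comap ψ) ?_).trans (Held.QX.a_g1 q (f.inj (by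
      rw [f.sq_sq, ss] at y2
      rw [f.mz, eq_inv_of_mul_eq_one_right y2, (ivz h).inv_eq]))).1
    · rw [f.card_comap (r ▸ cj_le_of_norm (le_normalizer_of_normal (mem_top n))
        (map_mono fun a ha => (F_f a ha).1)), card_cj, card_map h.inj, card_F] at this
      omega
    rintro a ⟨_, ⟨b, hb, rfl⟩, w⟩
    have w : n * φ b * n⁻¹ = ψ a := w
    exact ⟨f.inj (by rw [map_mul, ← w, conj_mul, map_sq (F_f b hb).2.1]; simp), fx (F_f b hb).2.2.1 w⟩
  obtain ⟨e⟩ : Nonempty (HM ≃* 𝐂₁ (φ z)) := by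
    have c := f.as.mul f.ax
    refine (f.cent ((c.mul c).mul c) (by decide +kernel)).elim (f.equiv_of ss) fun e => ?_
    have zz := f.lq.zz
    refine Fs.equiv_of (s := s * φ z) ⟨f.toFr, f.lt, f.x7, f.xz, (hz _).comm,
      f.ax, f.as.mulz f.toFr, fun K k1 k2 k3 => f.gen K k1 k2 ((K.mul_mem_cancel_right (k1 f.lq.mem)).1 k3),
      fun y y1 y2 y3 => ?_⟩ (by rw [mul_assoc, ← mul_assoc (φ z), ← f.sz, mul_assoc, zz, mul_one, ss]) ?_
    · obtain ⟨c, q, hc, e⟩ := f.inv y y1 y2 y3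
      exact ⟨c, zq * q, hc, by rw [e, map_mul, f.mz, mul_assoc, ← mul_assoc (φ z), zz, one_mul]⟩
    · have : Commute (s * x) (φ z) := (Commute.mul_left f.sz f.xz)
      rw [mul_assoc s, ← f.xz, ← mul_assoc s, ← pow_three', this.mul_pow, pow_three', e, pow_three, zz,
        mul_one, zz]
  exact ⟨e.trans ((MulEquiv.subgroupCongr c).trans topEquiv)⟩

end CF.HL
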