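/-
Groups with Sylow 2-subgroups of type `L₅(2)`: a subgroup containing three local subgroups is the whole group.
-/
import Cfsg.Agent.Loc.HL5
set_option autoImplicit false
set_option linter.unusedSectionVars false
set_option maxRecDepth 100000
set_option synthInstance.maxSize 100000

namespace CF.HL
open Subgroup Cfsg CF.BG CF.Sig CF.GW CF.Ab2 CF.Cl2 CF.Comp CF.W2
open CF.Held (HM Sh)
open CF.Held.HM (In σT σ1 σ2 σE σS σU σP mem_T mem_W1 mem_W2 mem_U cls cls_spec dd)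
open CF.LX (Fix1)

/-- a matrix -/
def t1 : UT := ⟨Held.HM.t1, by decide +kernel⟩

/-- the Thompson subgroup -/
noncomputable def J : Subgroup UT := 𝐂₁ e14 ⊓ 𝐂₁ e25

theorem mJ {a : UT} : a ∈ J ↔ In σS a.v := by
  rw [J, mem_inf, mem_cent1, mem_cent1]
  exact (by decide +kernel : ∀ a : UT, a * e14 = e14 * a ∧ a * e25 = e25 * a ↔ In σS a.v) a

theorem fV : FP t t1 := ⟨.mk' (by decide +kernel) (by decide +kernel), .mk' (by decide +kernel) (by decide +kernel),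
  by decide +kernel, by decide +kernel⟩

theorem s_f1 : ∀ b : UT, In σE b.v → dd false false b.v = false → b ≠ 1 → ∀ c : UT, In σE c.v →
    dd false false c.v = false → c ≠ 1 → dd false false (b * c).v = false → b ≠ c →
    ∀ a, a * b = b * a → a * c = c * a → In σS a.v := by decide +kernel

theorem s_f2 : ∀ a : UT, In σS a.v → (a * t = t * a ∧ a * t1 = t1 * a) ∧ (a * a = 1 → In σ1 a.v ∨ In σ2 a.v) ∧
    ((a * a = 1 ∨ a * a = t ∨ a * a = t1 ∨ a * a = t * t1) → (a = 1 ∨ a = t ∨ a = t1 ∨ a = t * t1) ∨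
      ∃ v ∈ [1, t, t1, t * t1], a * v * (a * v) = 1 ∧ dd false false (a * v).v = true) := by decide +kernel

theorem s_f4 : ∀ b c : Bool, ∀ v : UT, In σ1 v.v → dd b c v.v = false → dd b c (v * t).v = false →
    v = 1 ∨ v = t ∨ v = t1 ∨ v = t1 * t ∨ ∀ d : UT, In σ1 d.v → dd b c d.v = true → dd b c (d * t).v = true →
      ∀ e : UT, In σ1 e.v → dd b c e.v = true → dd b c (e * t).v = true → dd b c (v * d * e).v = true →
        dd b c (v * d * e * t).v = false := by decide +kernel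

theorem s_f5 : ∀ a, a * t = t * a → a * t1 = t1 * a ∨ a * t1 = t1 * t * a := by decide +kernel

theorem W_J : ∀ a : UT, In σ1 a.v ∨ In σ2 a.v → In σS a.v := by decide +kernel

universe u
variable {G : Type u} [Group G] [Finite G] {φ : UT →* G} {j g x y : G} {a b c d : UT} {π : 𝐂₁ j →* HM}
  {K : Subgroup G}

/-- a subgroup containing three local subgroups -/
structure Big (j : G) (φ : UT →* G) (K : Subgroup G) : Prop where
  c : 𝐂₁ j ≤ K
  n1 : 𝐍 (W1.map φ) ≤ K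
  n2 : 𝐍 (W2.map φ) ≤ K

theorem Big.gam (B : Big j φ K) : Big j (φ.comp γ) K :=
  ⟨B.c, by rw [← map_map, γ_W1]; exact B.n2, by rw [← map_map, γ_W2]; exact B.n1⟩

theorem Cn.mono {L : Subgroup G} (h : Cn φ K a b) (l : K ≤ L) : Cn φ L a b := h.imp fun _ e => ⟨l e.1, e.2⟩

theorem to_K (h : SM φ) (hK : ∀ a, φ a ∈ K) (hx : x ∈ K) (xx : x * x = 1) :
    ∃ k ∈ K, ∃ a, a * a = 1 ∧ k * φ a * k⁻¹ = x := by
  obtain ⟨g, hg, l⟩ := (h.syl.of_le (fun _ ⟨a, e⟩ => e ▸ hK a) le_top).syl_cj_le (zpowers_le.2 hx)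
    (piElt_of_pow_eq_one p2 ((pow_two x).trans xx)).zpowers
  obtain ⟨a, e⟩ := l (conj_mem_cj.2 (mem_zpowers x))
  exact ⟨g⁻¹, inv_mem hg, a, h.inj (by rw [map_mul, e, conj_mul, xx, map_one]; simp), by rw [e]; group⟩

namespace Cx
variable (h : Cx j φ π)
include h

section
variable (B : Big j φ K)
include B

theorem mK (a : UT) : φ a ∈ K := B.c (h.mem a)

theorem hop (n : g ∈ K) (e : Cj φ g a b) (aa : a * a = 1) : Cn φ K (rp a) (rp b) :=
  (((h.cn_rp aa).mono B.c).trans ⟨g, n, e⟩).trans ((h.cn_rp ((h.trq e).1 aa)).mono B.c).symm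

theorem cnK (ha : In σ1 a.v ∧ In σ2 a.v) (e : Dz φ a b) : Cn φ K a b := by
  have bb := h.dz_sq e (W1_comm ha.1).1
  have d := (h.dz_rp bb).1 e
  exact ((rp_f b bb).2.1.elim (fun r => (to_W1 h.toSM ha.1 r d).mono B.n1)
    fun r => (to_W2 h.toSM ha.2 r d).mono B.n2).trans ((h.cn_rp bb).mono B.c)

theorem fix1 (ha : In σ1 a.v ∧ In σ2 a.v) (l : 𝐂₁ (φ a) ≤ K) (e : Dz φ a b) : Fix1 (φ b) K := by
  refine (h.cnK B ha e).fix (LX.fix1_of l fun g hg => ?_)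
  obtain ⟨x, hx, c, -, e⟩ := to_K h.toSM (h.mK B) hg (by rw [conj_mul, map_sq (W1_comm ha.1).1]; simp)
  obtain ⟨w, hw, q⟩ := h.cnK B ha (b := c) ⟨x⁻¹ * g, by
    rw [Cj, ← mul_left_inj x⁻¹, ← mul_right_inj x, ← mul_assoc x (φ c), e]; group⟩
  exact ⟨x * w, mul_mem hx hw, by rw [← e, ← q]; group⟩

theorem fixD (e : Dz φ z b) : Fix1 (φ b) K := h.fix1 B (by decide +kernel) (h.pz ▸ B.c) e

theorem c568 (d : Dz φ z e25) : Cn φ K e14 e24 ∧ Cn φ K t r6 ∧ (Cn φ K e24 r8 ∨ Cn φ K r6 r8) := by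
  obtain ⟨n, p, m⟩ := toZ h.toSM (d.elim fun _ e => ⟨_, e.symm⟩)
  obtain ⟨n1, n2⟩ := nW h.toSM (by decide +kernel) m
  have nK := B.n1 n1
  obtain ⟨a, ha, r1⟩ := cj1 n1 (a := e13) (by decide +kernel)
  obtain ⟨b, hb, r2⟩ := cj1 n1 (a := e23) (by decide +kernel)
  obtain ⟨v, hv, r3⟩ := cj2 n2 (a := e35) (by decide +kernel)
  obtain ⟨w, hw, r4⟩ := cj2 n2 (a := e34) (by decide +kernel)
  obtain ⟨y, hy, r5⟩ := cj2 n2 (a := e25 * e34) (by decide +kernel)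
  have q1 := (r1.cm r3).cast (show _ = z by decide +kernel) rfl
  have q2 := (r1.cm r4).cast (show _ = e14 by decide +kernel) rfl
  have k := ((col2 a ha v hv (((col b hb v hv (tr h.inj (r2.cm r3) p (by decide +kernel)) a ha).resolve_left
    fun o => z_ne h.toSM (o ▸ q1)).resolve_left fun o => absurd ((eq_iff h.inj q1 p).2 o) (by decide +kernel)) w
      hw).resolve_left fun o => absurd ((eq_iff h.inj q2 (Cj.one _)).2 o) (by decide +kernel)).resolve_left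
        fun o => absurd ((eq_iff h.inj q2 q1).2 o) (by decide +kernel)
  have o1 := h.hop B nK q2 (by decide +kernel)
  have o2 := h.hop B nK (q2.mul p) (by decide +kernel)
  have o3 := (h.hop B nK r5 (by decide +kernel)).symm
  have o4 := h.hop B nK (p.mul r5) (by decide +kernel)
  rw [k.2.1, show rp e14 = e14 by decide +kernel] at o1
  rw [k.2.2, show rp (e14 * e25) = t by decide +kernel] at o2
  rw [show rp (e25 * e34) = r8 by decide +kernel] at o3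
  rw [show rp (e25 * (e25 * e34)) = e24 by decide +kernel] at o4
  refine ⟨o1, o2, ?_⟩
  rcases pz1 y (.inr hy) with r | r | r | r | r
  exacts [absurd ((eq_iff h.inj r5 (Cj.one _)).2 r) (by decide +kernel),
    absurd ((eq_iff h.inj r5 p).2 r) (by decide +kernel), .inl (r ▸ o3), .inr (r ▸ o3), .inl (o4.trans (r.2 ▸ o3))]

theorem top_B [IsSimpleGroup G] (d : Dz φ z e25) (n2 : ¬ Dz φ z e14) : K = ⊤ := by_contra fun ne => by
  obtain ⟨c5, c6, c8⟩ := h.c568 B d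
  have n5 := c5.dz.not.1 n2
  have n6 := c6.dz.not.1 h.n4
  have n8 : ¬ Dz φ z r8 := c8.elim (·.dz.not.1 n5) (·.dz.not.1 n6)
  have n7 : ¬ Dz φ z r7 := fun e => by
    obtain ⟨g, n, e1⟩ := to_W1 h.toSM (by decide +kernel) (by decide +kernel) e
    obtain ⟨b, hb, e2⟩ := cj1 (inv_mem n) (a := r7 * e14) (by decide +kernel)
    have d := e2.dz.1 ((h.dz_rp (by decide +kernel)).2 ((show r7 = rp (r7 * e14) by decide +kernel) ▸ e))
    have d' := (h.dz_rp (h.dz_sq d zz)).1 d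
    rcases pz1 b (.inl hb) with r | r | r | r | r
    exacts [h.n1 (r ▸ d), absurd ((eq_iff h.inj e2 e1.symm).2 r) (by decide +kernel), n5 (r ▸ d'), n6 (r ▸ d'),
      n2 (((e1.symm.mul e2).cast (by decide +kernel) rfl).dz.2 ((h.dz_rp r.1).2 (r.2 ▸ d')))]
  have i := ivz h.toSM
  refine h.n4 (isConj_iff.1 (Invol.se_isConj (ZD.ZC.se_simple (z := φ z) ⟨⟨i.ne_one, i.sq⟩, h.mK B z, ne,
    ⟨_, h.syl, fun _ ⟨a, e⟩ => e ▸ (Cj.of' (cz a)).comm⟩, fun g hg => inv_mem_iff.1 (h.fixD B dz_z g⁻¹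
      (by rwa [inv_inv]))⟩ fun e he e1 e2 => ?_) i (ord2 (map_sq (by decide +kernel))
        (map_ne h.inj (by decide +kernel)))))
  obtain ⟨g, rfl⟩ := isConj_iff.1 he
  obtain ⟨c, hc, a, aa, e⟩ := to_K h.toSM (mem_cz φ) (mem_cent1.2 e2.symm) (i.conj g).sq
  have q : Dz φ z a := ⟨c⁻¹ * g, by
    rw [Cj, ← mul_left_inj c⁻¹, ← mul_right_inj c, ← mul_assoc c (φ a), e]; group⟩
  have q' := (h.dz_rp aa).1 q
  have cz := conj_eq_of_comm (mem_cent1.1 hc)
  have r : rp a = e25 := by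
    rcases (rp_f a aa).2.2 with r | r | r | r | r | r | r | r | r
    exacts [absurd (r ▸ q) h.n1, absurd (by rw [← e, r, cz]) e1, absurd (r ▸ q') n2, r, absurd (r ▸ q') h.n4,
      absurd (r ▸ q') n5, absurd (r ▸ q') n6, absurd (r ▸ q') n7, absurd (r ▸ q') n8]
  have r := (by decide +kernel : ∀ a, a * a = 1 → rp a = e25 → z * a * (z * a) = 1 ∧ rp (z * a) = e25) a aa r
  have cK : c ∈ K := B.c (h.pz ▸ hc)
  rw [← e, ← cz, conj_mul, ← map_mul]
  exact ((h.fixD B ((h.dz_rp r.1).2 (r.2 ▸ d))).conj cK).cent_le (mul_mem (mul_mem cK (h.mK B _)) (inv_mem cK))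

end

/-- fusion data in the simple cases -/
structure _root_.CF.HL.DI (φ : UT →* G) : Prop where
  d2 : Dz φ z e14
  d3 : Dz φ z e25
  d5 : Dz φ z e24
  d6 : ¬ Dz φ z r6

omit h in
theorem _root_.CF.HL.DI.gam (k : DI φ) : DI (φ.comp γ) :=
  ⟨dz_γ.2 ((show γ e14 = e25 by decide +kernel) ▸ k.d3), dz_γ.2 ((show γ e25 = e14 by decide +kernel) ▸ k.d2),
    dz_γ.2 ((show γ e24 = e24 by decide +kernel) ▸ k.d5),
    fun e => k.d6 ((show γ r6 = r6 by decide +kernel) ▸ dz_γ.1 e)⟩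

variable (k : DI φ)
include k

open _root_.Classical in
theorem dz_iff (aa : a * a = 1) : Dz φ z a ↔ dd (decide (Dz φ z r7)) (decide (Dz φ z r8)) a.v = true := by
  rw [h.dz_rp aa, dd, rp]
  have := (cls_spec a.v (congrArg UT.v aa)).2
  generalize cls a.v = i at this ⊢
  interval_cases i <;> simp [rq, h.n1, dz_z, k.d2, k.d3, k.d5, k.d6, h.n4]

theorem not_dz (e : a * a = 1 ∧ dd true true a.v = false) : ¬ Dz φ z a := by
  rw [h.dz_iff k e.1]
  have := e.2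
  rw [dd] at this ⊢
  have := (cls_spec a.v (congrArg UT.v e.1)).2
  generalize cls a.v = i at *
  interval_cases i <;> simp_all

theorem dz_of (e : a * a = 1 ∧ dd false false a.v = true) : Dz φ z a := by
  rw [h.dz_iff k e.1]
  have := e.2
  rw [dd] at this ⊢
  have := (cls_spec a.v (congrArg UT.v e.1)).2
  generalize cls a.v = i at *
  interval_cases i <;> simp_all

theorem syl_J : Syl 2 (J.map φ) (𝐂 ((V4 t t1).map φ)) := by
  have le : J.map φ ≤ 𝐂 ((V4 t t1).map φ) := by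
    rintro _ ⟨a, ha, rfl⟩ _ ⟨v, hv, rfl⟩
    obtain ⟨⟨h1, h2⟩, -⟩ := s_f2 a (mJ.1 ha)
    rw [← map_mul, ← map_mul]
    rcases fV.mem.1 hv with rfl | rfl | rfl | rfl
    exacts [by simp, by rw [h1], by rw [h2], by rw [mul_assoc, ← h2, ← mul_assoc, ← h1, mul_assoc]]
  obtain ⟨R, hR, e⟩ := exists_syl_le le (h.pi _)
  obtain ⟨g, -, hg⟩ := h.syl.syl_cj_le le_top hR.pi
  have n1 := wc1 h.toSM ((cj_mono g ((map_mono fun a ha => mJ.2 (W_J a (.inl (mW1.1 ha)))).trans e)).trans hg)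
  have n2 := wc2 h.toSM ((cj_mono g ((map_mono fun a ha => mJ.2 (W_J a (.inr (mW2.1 ha)))).trans e)).trans hg)
  have c : ∀ {v : UT}, In σ1 v.v ∧ In σ2 v.v → ∃ b : UT, In σE b.v ∧ Cj φ g v b := fun q => by
    obtain ⟨b, hb, e1⟩ := cj1 n1 q.1
    obtain ⟨c, hc, e2⟩ := cj2 n2 q.2
    exact ⟨b, mE b hb (uniq h.inj e2 e1 ▸ hc), e1⟩
  obtain ⟨b, b1, hb⟩ := c (v := t) (by decide +kernel)
  obtain ⟨c, c1, hc⟩ := c (v := t1) (by decide +kernel)
  have nd : ∀ {a b}, Cj φ g a b → a * a = 1 ∧ dd true true a.v = false → dd false false b.v = false :=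
    fun e q => Bool.eq_false_iff.2 fun r => h.not_dz k q (e.dz.2 (h.dz_of k ⟨(h.trq e).1 q.1, r⟩))
  have s := s_f1 b b1 (nd hb (by decide +kernel)) ((eq_iff h.inj hb (Cj.one g)).not.1 (by decide +kernel))
    c c1 (nd hc (by decide +kernel)) ((eq_iff h.inj hc (Cj.one g)).not.1 (by decide +kernel))
    (nd (hb.mul hc) (by decide +kernel)) ((eq_iff h.inj hb hc).not.1 (by decide +kernel))
  refine eq_of_card_le e (le_of_eq_of_le (card_cj g R).symm (card_le fun x hx => ?_)) ▸ hR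
  obtain ⟨a, rfl⟩ := hg hx
  have cm : ∀ {v b}, v ∈ V4 t t1 → Cj φ g v b → a * b = b * a := fun {v b} hv e => h.inj (by
    have := hR.le (mem_cj.1 hx) _ (mem_map_of_mem φ hv)
    rw [map_mul, map_mul, ← e]
    calc _ = g * (g⁻¹ * φ a * g * φ v) * g⁻¹ := by group
      _ = _ := by rw [← this]; group)
  exact mem_map_of_mem φ (mJ.2 (s a (cm (left_mem_V4 _ _) hb) (cm (right_mem_V4 _ _) hc)))

theorem char1 (ht : Cj φ g t t) (ha : Cj φ g t1 a) (hg : cj g (W1.map φ) ≤ 𝐂₁ j) : a = t1 ∨ a = t1 * t := by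
  obtain ⟨c, hc, e⟩ := ctl h.toSM (fun _ => wc1 h.toSM) (fun _ ⟨a, _, e⟩ => e ▸ h.mem a) hg
  obtain ⟨b, hb, q⟩ := cj1 e (a := t) (by decide +kernel)
  obtain ⟨b', hb', q'⟩ := cj1 e (a := t1) (by decide +kernel)
  have u : ∀ {a b d}, Cj φ g a b → Cj φ (c * g) a d → (π ⟨c, hc⟩)⁻¹ * d.v * (π ⟨c, hc⟩)⁻¹⁻¹ = b.v := fun p q => by
    rw [← h.cjπ ⟨c, hc⟩ (by simpa using p.symm.comp q)]; group
  have nx := inv_mem (Held.HM.P_norm (Held.HM.s_f3 (π ⟨c, hc⟩) (by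
    rw [show Held.HM.t = t.v from rfl, ← u ht q]; simpa [mul_assoc] using hb)))
  have w : ∀ a ∈ W1, In σ1 ((π ⟨c, hc⟩)⁻¹ * a.v * (π ⟨c, hc⟩)⁻¹⁻¹) := fun a ha =>
    mem_W1.1 (conj_mem_of_norm nx ha)
  obtain ⟨c', -, m⟩ := h.up (π ⟨c, hc⟩)⁻¹ (L := W1) fun a ha => (Held.HM.W1_comm _ (w a ha)).2.1
  have n : c'.1 * (c * g) ∈ 𝐍 (W1.map φ) := mul_mem (mem_norm_of (by
    rintro _ ⟨a, ha, rfl⟩
    obtain ⟨d, p, q⟩ := m a ha
    exact ⟨d, mW1.2 (q ▸ w a ha), Eq.symm p⟩)) e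
  have v : ∀ {a b d}, Cj φ g a b → Cj φ (c * g) a d → In σ1 d.v → Cj φ (c'.1 * (c * g)) a b := fun p q hd =>
    let ⟨_, r, s⟩ := m _ (mW1.2 hd)
    (q.comp r).cast rfl (UT.ext (s.trans (u p q)))
  replace ht := v ht q hb
  replace ha := v ha q' hb'
  clear v m w nx u q q' e hg
  generalize c'.1 * (c * g) = g at n ht ha
  obtain ⟨v, hv, q0⟩ := cj1 n (a := t1) (by decide +kernel)
  obtain rfl := uniq h.inj ha q0
  obtain ⟨d, hd, q1⟩ := cj1 n (a := e25) (by decide +kernel)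
  obtain ⟨d', hd', q2⟩ := cj1 n (a := e24 * e25) (by decide +kernel)
  have p := fun {a b} (e : Cj φ g a b) (q : a * a = 1 ∧ dd false false a.v = true) =>
    (h.dz_iff k ((h.trq e).1 q.1)).1 (e.dz.1 (h.dz_of k q))
  have n := fun {a b} (e : Cj φ g a b) (q : a * a = 1 ∧ dd true true a.v = false) =>
    Bool.eq_false_iff.2 ((h.dz_iff k ((h.trq e).1 q.1)).not.1 (e.dz.not.1 (h.not_dz k q)))
  rcases s_f4 _ _ a hv (n q0 (by decide +kernel)) (n (q0.mul ht) (by decide +kernel)) with r | r | r | r | r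
  · exact absurd ((eq_iff h.inj q0 (Cj.one g)).2 r) (by decide +kernel)
  · exact absurd ((eq_iff h.inj q0 ht).2 r) (by decide +kernel)
  · exact .inl r
  · exact .inr r
  exact absurd (p (((q0.mul q1).mul q2).mul ht) (by decide +kernel)) (Bool.eq_false_iff.1 (r d hd
    (p q1 (by decide +kernel)) (p (q1.mul ht) (by decide +kernel)) d' hd' (p q2 (by decide +kernel))
    (p (q2.mul ht) (by decide +kernel)) (p ((q0.mul q1).mul q2) (by decide +kernel))))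

theorem char2 (ht : Cj φ g t t) (ha : Cj φ g t1 a) (hg : cj g (W2.map φ) ≤ 𝐂₁ j) : a = t1 ∨ a = t1 * t := by
  have := h.gam.char1 k.gam (g := g) (a := γ (a * t)) (show Cj φ g (γ t) (γ t) from ht.cast (by decide +kernel)
    (by decide +kernel)) (show Cj φ g (γ t1) (γ (γ _)) from (ha.mul ht).cast (by decide +kernel) (γ_γ _).symm)
    (by rwa [← map_map, γ_W1])
  refine this.imp (fun e => ?_) fun e => ?_ <;> replace e := congrArg γ e <;> rw [γ_γ] at e <;>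
    exact (eq_mul_inv_of_mul_eq e).trans (by decide +kernel)

theorem isolated (hg : g ∈ 𝐂₁ (φ t)) {w : G} (e : w = g * φ t1 * g⁻¹)
    (hw : w * φ t1 * w⁻¹ = φ t1 ∨ w * φ t1 * w⁻¹ = φ t1 * φ t) : w = φ t1 ∨ w = φ t1 * φ t := by
  have mN : ∀ {c}, c ∈ 𝐂₁ (φ t) ⊓ 𝐍 ((V4 t t1).map φ) ↔ Cj φ c t t ∧ (Cj φ c t1 t1 ∨ Cj φ c t1 (t1 * t)) := by
    intro c
    refine ⟨fun q => ⟨.of_comm (mem_cent1.1 q.1), ?_⟩, fun q => ⟨mem_cent1.2 q.1.comm, mem_norm_of ?_⟩⟩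
    · obtain ⟨b, hb, r⟩ := cjN q.2 (right_mem_V4 _ _)
      rcases fV.mem.1 hb with rfl | rfl | rfl | rfl
      · exact absurd ((eq_iff h.inj r (Cj.one c)).2 rfl) (by decide +kernel)
      · exact absurd ((eq_iff h.inj r (.of_comm (mem_cent1.1 q.1))).2 rfl) (by decide +kernel)
      exacts [.inl r, .inr (r.cast rfl (by decide +kernel))]
    · rintro _ ⟨v, hv, rfl⟩
      obtain ⟨b, hb, r⟩ : ∃ b ∈ V4 t t1, Cj φ c t1 b := q.2.elim (⟨_, right_mem_V4 _ _, ·⟩)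
        (⟨_, mul_mem (right_mem_V4 _ _) (left_mem_V4 _ _), ·⟩)
      rcases fV.mem.1 hv with rfl | rfl | rfl | rfl
      exacts [⟨1, one_mem _, Eq.symm (Cj.one c)⟩, ⟨_, hv, Eq.symm q.1⟩, ⟨b, hb, Eq.symm r⟩,
        ⟨_, mul_mem (left_mem_V4 _ _) hb, Eq.symm (q.1.mul r)⟩]
  have gt : Cj φ g t t := .of_comm (mem_cent1.1 hg)
  have wt : Cj φ w t t := by
    have := (gt.symm.comp (.of' (show t1 * t = t * t1 by decide +kernel))).comp gt
    rwa [← mul_assoc, ← e] at this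
  obtain ⟨c, hc, q⟩ := (h.syl_t.of_le (K := 𝐂₁ (φ t) ⊓ 𝐍 ((V4 t t1).map φ)) (by
    rintro _ ⟨a, ha, rfl⟩
    have ha := mem_cent1.1 ha
    exact mN.2 ⟨.of' ha, (s_f5 a ha).imp .of' .of'⟩) inf_le_left).syl_cj_le
    (zpowers_le.2 (mN.2 ⟨wt, hw.imp id fun r => r.trans (map_mul ..).symm⟩))
    (piElt_of_pow_eq_one p2 (by rw [pow_two, e, conj_mul, map_sq fV.r.sq]; simp)).zpowers
  obtain ⟨a, -, ha⟩ := q (conj_mem_cj.2 (mem_zpowers w))
  have ha : Cj φ (c * g) t1 a := by rw [Cj, ha, e]; group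
  have ct := gt.comp (mN.1 hc).1
  have vz : ∀ v ∈ V4 t t1, ∃ b, Cj φ (c * g) v b := fun v hv => by
    rcases fV.mem.1 hv with rfl | rfl | rfl | rfl
    exacts [⟨_, .one _⟩, ⟨_, ct⟩, ⟨_, ha⟩, ⟨_, ct.mul ha⟩]
  obtain ⟨x, hx, q⟩ := ((h.syl_J k).cj (c * g)).syl_le_cj (zpowers_le.2 (by
      rw [cj_cent]
      rintro _ ⟨_, ⟨v, hv, rfl⟩, rfl⟩
      obtain ⟨b, e⟩ := vz v hv
      exact (Eq.symm e ▸ (Cj.of' (cz b)).comm : c * g * φ v * (c * g)⁻¹ * _ = _ * _))) (h.e2 z).zpowers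
  rw [cj_cj] at q
  obtain ⟨_, ⟨s, hs, rfl⟩, q⟩ := q (mem_zpowers _)
  have q : Cj φ (x * (c * g)) s z := q
  rw [cj_cent] at hx
  have xv : ∀ {v b}, v ∈ V4 t t1 → Cj φ (c * g) v b → Cj φ (x * (c * g)) v b := fun hv e =>
    e.comp (.of_comm (hx _ (e.mem hv)).symm)
  have le : ∀ {W : Subgroup UT}, (∀ b ∈ W, s * b = b * s) → cj (x * (c * g)) (W.map φ) ≤ 𝐂₁ j := fun cm => by
    rw [← h.pz, ← q.cen1]
    exact cj_mono _ fun _ ⟨b, hb, e⟩ => e ▸ mem_c (cm b hb).symm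
  have r := ((s_f2 s (mJ.1 hs)).2.1 ((h.trq q).2 zz)).elim
    (fun r => h.char1 k (xv (left_mem_V4 _ _) ct) (xv (right_mem_V4 _ _) ha)
      (le fun b hb => (W1_comm r).2 b (mW1.1 hb)))
    fun r => h.char2 k (xv (left_mem_V4 _ _) ct) (xv (right_mem_V4 _ _) ha)
      (le fun b hb => (W2_comm r).2 b (mW2.1 hb))
  have := (mN.1 ((mul_mem_cancel_left hc).1 (mN.2 ⟨ct, r.imp (ha.cast rfl) (ha.cast rfl)⟩))).2
  exact e ▸ this.imp id fun r => r.trans (map_mul ..)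

omit k in
theorem top_A (B : Big j φ K) (d2 : Dz φ z e14) (d3 : Dz φ z e25) : K = ⊤ := by
  obtain ⟨c5, c6, c8⟩ := h.c568 B d3
  have c7 := (h.gam.c568 B.gam (dz_γ.2 ((show γ e25 = e14 by decide +kernel) ▸ d2))).2.2
  have k : DI φ := ⟨d2, d3, c5.dz.1 d2, c6.dz.not.1 h.n4⟩
  have d6 : Dz φ t r6 := c6.dz.1 dz_z
  have mK := h.mK B
  have cV : 𝐂 ((V4 t t1).map φ) ≤ K := by
    have s := h.syl_J k
    refine Held.le_of_se (cent_le_norm _) (Loc.isSyl_of_not_dvd_relIndex s.pi.isPGroup s.le (s.not_dvd p2))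
      (map_mono fun a ha => mJ.2 ?_) (fun _ ⟨a, _, e⟩ => e ▸ mK a) ?_
      (mem_map_of_mem φ (mJ.2 (show In σS e13.v by decide +kernel)))
      (mem_map_of_mem φ (mJ.2 (show In σS e34.v by decide +kernel)))
      (mem_map_of_mem φ (mJ.2 (show In σS z.v by decide +kernel))) (map_sq (by decide +kernel)) (map_sq zz)
      ?_ ?_ ?_ (Cj.of' (cz _)).comm ?_
    · rcases fV.mem.1 ha with rfl | rfl | rfl | rfl <;> decide +kernel
    · rintro _ ⟨a, ha, rfl⟩ h1 h2 g hg e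
      rw [← map_mul, mem_map_iff_mem h.inj, fV.mem] at h2
      obtain r | ⟨v, hv, r⟩ := (s_f2 a (mJ.1 ha)).2.2 h2
      · exact absurd (mem_map_of_mem φ (fV.mem.2 r)) h1
      refine inv_mem_iff.1 (h.fixD B (h.dz_of k r) _ ?_)
      rw [inv_inv, map_mul, ← conj_mul, conj_eq_of_comm
        (hg _ (mem_map_of_mem φ ((fV.mem (x := v)).2 (by simpa using hv)))).symm]
      exact mul_mem e (mK v)
    all_goals simp only [← map_mul, ← map_inv, mem_map_iff_mem h.inj, fV.mem]; decide +kernel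
  have ct : 𝐂₁ (φ t) ≤ K := by
    have c' : ∀ {g}, Cj φ g t t → Cj φ g t1 t1 → g ∈ K := fun h1 h2 => cV (by
      rintro _ ⟨v, hv, rfl⟩
      rcases fV.mem.1 hv with rfl | rfl | rfl | rfl
      exacts [by simp, h1.comm.symm, h2.comm.symm, (h1.mul h2).comm.symm])
    refine Held.le_of_isolated (a := φ z) (b := φ e14) (map_sq fV.l.sq) le_rfl (mem_c rfl) (mK t)
      (mem_c (a := t1) fV.comm.symm) (map_sq fV.r.sq) (map_ne h.inj fV.r.ne_one) (h.inj.ne fV.ne.symm)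
      (fun g hg w => h.isolated k hg) (fun g hg e => ?_) (mem_c (cz _).symm) (mem_c (by decide +kernel))
      (map_sq zz) (map_sq (by decide +kernel)) (Cj.of' (cz _)).comm.symm ?_ ?_
    · have gt : Cj φ g t t := .of_comm (mem_cent1.1 hg)
      rcases e with e | e
      · exact c' gt e
      exact (mul_mem_cancel_left (mK (e12 * e45))).1 (c' (gt.comp (.of' (by decide +kernel)))
        (Cj.comp (e.trans (map_mul ..).symm) (.of' (by decide +kernel))))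
    · simp only [← map_mul, List.forall_mem_cons, ← map_one φ, h.inj.ne_iff, List.not_mem_nil,
        false_imp_iff, implies_true]
      decide +kernel
    · simp only [← map_mul, List.forall_mem_cons, List.not_mem_nil, false_imp_iff, implies_true]
      exact ⟨(h.fixD B dz_z).cent_le (mK _), (h.fixD B d2).cent_le (mK _),
        (h.fixD B (h.dz_of k (by decide +kernel))).cent_le (mK _), trivial⟩
  have ft := fun {a} => h.fix1 B (a := t) (b := a) (by decide +kernel) ct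
  have i := ivz h.toSM
  refine LX.eq_top_of_two_classes i (ord2 (map_sq fV.l.sq) (map_ne h.inj fV.l.ne_one))
    (fun e => h.n4 (isConj_iff.1 e)) (mK z) (mK t) (h.fixD B dz_z) (ft dz_z) fun y hy e1 e2 e3 => ?_
  have yy : y * y = 1 := by
    rcases e1 with e | e <;> obtain ⟨g, rfl⟩ := isConj_iff.1 e <;> rw [conj_mul, map_sq (by decide +kernel)] <;> simp
  have m := mul_mem (mK z) hy
  obtain ⟨x, hx, a, aa, e⟩ := to_K h.toSM mK m (by rw [mul_assoc, ← mul_assoc y, ← e3, mul_assoc, yy, mul_one, i.sq])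
  refine (e ▸ LX.Fix1.conj ?_ hx).cent_le m
  have p : ∀ {c r}, Dz φ c r → rp a = r → Dz φ c a := fun d r => (h.dz_rp aa).2 (r ▸ d)
  have o : ∀ {r}, Cn φ K e24 r ∨ Cn φ K r6 r → r * r = 1 → rp a = rp r → Fix1 (φ a) K := fun c rr r =>
    c.elim (fun c => h.fixD B (p ((h.dz_rp rr).1 (c.dz.1 k.d5)) r)) fun c => ft (p ((h.dz_rp rr).1 (c.dz.1 d6)) r)
  rcases (rp_f a aa).2.2 with r | r | r | r | r | r | r | r | r
  · rw [r, map_one, mul_one, mul_inv_cancel] at e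
    exact absurd ((eq_inv_of_mul_eq_one_right e.symm).trans i.inv_eq) e2
  exacts [r ▸ h.fixD B dz_z, h.fixD B (p d2 r), h.fixD B (p d3 r), ft (p dz_z r), h.fixD B (p k.d5 r), ft (p d6 r),
    o (r := γ r8) (c7.imp (fun ⟨g, m, e⟩ => ⟨g, m, Cj.cast (φ := φ) e (by decide +kernel) rfl⟩)
      fun ⟨g, m, e⟩ => ⟨g, m, Cj.cast (φ := φ) e (by decide +kernel) rfl⟩) (by decide +kernel)
      (r.trans (by decide +kernel)), o c8 (by decide +kernel) (r.trans (by decide +kernel))]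

end Cx

end CF.HL
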