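/-
Two blocks, `q > 4`: centralizers of involutions of `A ∩ B` normalize `J`, and `J` is strongly closed.
-/
import Cfsg.Agent.Loc.BK2
set_option autoImplicit false
set_option linter.unusedSectionVars false

namespace CF.Cl2
open Subgroup Cfsg CF.BG CF.Sig CF.GW CF.Ab2
open CF.PLocal (upT)
open scoped commutatorElement MatrixGroups

universe u
variable {G : Type u} [Group G] [Finite G]
variable {A B D E H J K L M N P Q R S T U V W X Y Z : Subgroup G} {a b c d e g k l n s t u v w x y z : G}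
variable {F : Type} [Field F] [Fintype F] {ρ ρ' : G → SL(2, F)} {ψ ψ' : G → Fin 2 → F}

theorem chain (c : H ⊓ 𝐂 (𝐎 {2} H) ≤ 𝐎 {2} H) (n : H ≤ 𝐍 Z) (k : P2 Z) (l : J ≤ H) (cz : J ≤ 𝐂 Z)
    (h1 : 𝐎 {2} H ⊓ 𝐂 Z ≤ J) (h2 : ⁅J, J⁆ ≤ Z) (h3 : 𝐎 {2} H ≤ 𝐍 J) : J ≤ 𝐎 {2} H := by
  set Q := 𝐎 {2} H
  have nQ : H ≤ 𝐍 Q := (O_normal _ H).norm
  have nR : H ≤ 𝐍 (Q ⊓ 𝐂 Z) := norm_inf nQ (n.trans (norm_le_norm_cent Z))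
  have kQ : P2 Q := O_pi _ H
  refine le_trans (b := H ⊓ (centMod Q (Q ⊓ 𝐂 Z) ⊓ (centMod (Q ⊓ 𝐂 Z) Z ⊓ 𝐂 Z))) (le_inf l (le_inf (le_centMod.2
    ⟨l.trans nR, le_inf (comm_le_right (l.trans nQ)) ((comm_le_left h3).trans cz)⟩) (le_inf (le_centMod.2
    ⟨l.trans n, (commutator_mono le_rfl h1).trans h2⟩) cz))) (le_O ⟨inf_le_left, norm_inf (le_norm_self H) (norm_inf
      (norm_centMod nQ nR) (norm_inf (norm_centMod nR n) (n.trans (norm_le_norm_cent Z)))) |> le_trans le_rfl⟩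
    (piGrp_of_forall_elt fun x hx => ?_))
  obtain ⟨y, z, -, hz, ey, ez, rfl⟩ := exists_piPart {2} x
  have hz := zpowers_le.2 (zpowers_le.2 hx hz)
  have c1 := cent_of_stable (K := Q ⊓ 𝐂 Z) (cop2' ez.zpowers k) (by
    rw [commutator_comm]; exact (le_centMod.1 fun _ m => (hz m).2.2.1).2) fun _ m => (hz m).2.2.2
  have c2 := cent_of_stable (K := Q) (cop2' ez.zpowers kQ.inf_left) (by
    rw [commutator_comm]; exact (le_centMod.1 fun _ m => (hz m).2.1).2) c1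
  rwa [(kQ.elt (c (mi (hz (mem_zpowers z)).1 (c2 (mem_zpowers z))))).eq_one ez, mul_one]

theorem exists_cube (q : 4 < Nat.card F) : ∃ t : F, t ≠ 0 ∧ t * t * t ≠ 1 := by
  by_contra! c
  have := FiniteField.forall_pow_eq_one_iff F 3 |>.1 fun u => Units.ext (by simpa [pow_succ] using c u u.ne_zero)
  rw [← Nat.card_eq_fintype_card] at this
  have := Nat.le_of_dvd (by norm_num) this
  omega

namespace Bk
variable (h : Bk F A B J L M ρ ψ ρ' ψ')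
include h

theorem q1 (hk : k ∈ L ⊓ 𝐍 J) : ∃ l ∈ M ⊓ 𝐍 J, ∀ z ∈ A ⊓ B, l * z * l⁻¹ = k * z * k⁻¹ := by
  obtain ⟨a, ha, ea⟩ := h.na.exA1 1
  have hb := h.na.cA (inv_mem hk.1) ha
  have d := h.na.det (h.nZ hk.2) hk.1
  have eb : ψ (k⁻¹ * a * k⁻¹⁻¹) 1 = ρ k 0 0 := by
    rw [h.na.ψ1cj (inv_mem hk.1) (inv_mem hk.2) ha, h.na.nat.ρinv hk.1, (sl_inv _).2.2.2, ea, mul_one]
  have n : ∀ a ∈ A, ψ a 1 ≠ 0 → ρ' a 0 1 ≠ 0 := fun a ha n c => n ((h.na.z_iff ha).1 ((h.nb.ρS (h.na.la ha)).1 c))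
  have a0 := n a ha (by simp [ea])
  obtain ⟨l, hl, el, -⟩ := h.nb.diag (div_ne_zero (n _ hb (eb ▸ left_ne_zero_of_mul_eq_one d)) a0)
  refine ⟨l, hl, fun z hz => ?_⟩
  obtain ⟨b, hb', rfl⟩ := h.na.surj ha (fun c => by simpa [ea] using (h.na.z_iff ha).1 c) hz
  have m := h.na.comm_mem (h.na.lb hb') hb
  rw [h.na.ext0 (conj_mem_of_norm (h.nZ hk.2) hz) m (by
    rw [h.na.ψ0cj hk.1 hz, h.na.ψc (h.na.lb hb') ha, h.na.ψc (h.na.lb hb') hb, ea, eb]; ring)]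
  refine h.nb.ext0 (conj_mem_of_norm (h.symm.nZ hl.2) (mi hz.2 hz.1)) (mi m.2 m.1) ?_
  rw [h.nb.ψ0cj hl.1 (mi hz.2 hz.1), ← h.na.cmz ha hb', ← h.na.cmz hb hb', h.nb.ψc (h.na.la ha) hb',
    h.nb.ψc (h.na.la hb) hb', el]; field_simp

theorem q2 (hk : k ∈ L ⊓ 𝐍 J) (hl : l ∈ M ⊓ 𝐍 J) (e : ∀ z ∈ A ⊓ B, l * z * l⁻¹ = k * z * k⁻¹) (ha : a ∈ A) :
    ψ (l * a * l⁻¹) 1 = ρ k 0 0 * ρ k 0 0 * ψ a 1 := by
  obtain ⟨b, hb, eb⟩ := h.na.exS0 1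
  have m := conj_mem_of_norm (h.nb.symm.normS hl.1 hl.2) ha
  have z := h.nb.comm_mem (h.na.la ha) hb
  have zl := conj_mem_of_norm (h.symm.nZ hl.2) z
  have := h.nb.ext0 (h.nb.comm_mem (h.na.la m) hb) (conj_mem_of_norm (h.symm.nZ hl.2) zl) (by
    rw [h.nb.ψc (h.na.la m) hb, h.nb.ψ0cj hl.1 zl, h.nb.ψ0cj hl.1 z, h.nb.ψc (h.na.la ha) hb,
      h.nb.ρtor (h.symm.nZ hl.2) hl.1 (h.na.la ha)]; ring)
  have z' := mi z.2 z.1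
  rw [e _ (mi zl.2 zl.1), e _ z', h.na.cmz m hb] at this
  have := congrArg (ψ · 0) this
  simp only [h.na.ψ0cj hk.1 (conj_mem_of_norm (h.nZ hk.2) z'), h.na.ψ0cj hk.1 z'] at this
  rw [h.na.cmz ha hb, h.na.ψc (h.na.lb hb) m, h.na.ψc (h.na.lb hb) ha, eb] at this
  linear_combination this

theorem LB (hk : k ∈ L ⊓ 𝐍 J) : k ∈ 𝐍 A ⊓ 𝐍 B := mi (h.na.lN hk.1) (h.na.symm.normS hk.1 hk.2)
theorem MB (hk : k ∈ M ⊓ 𝐍 J) : k ∈ 𝐍 A ⊓ 𝐍 B := mi (h.symm.LB hk).2 (h.symm.LB hk).1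

theorem q3 (hk : k ∈ L ⊓ 𝐍 J) (hl : l ∈ M ⊓ 𝐍 J) (e : ∀ z ∈ A ⊓ B, l * z * l⁻¹ = k * z * k⁻¹) :
    k⁻¹ * l ∈ 𝐍 A ⊓ 𝐍 B ⊓ 𝐂 (A ⊓ B) ∧
      ∀ a ∈ A, ψ (k⁻¹ * l * a * (k⁻¹ * l)⁻¹) 1 = ρ k 0 0 * ρ k 0 0 * ρ k 0 0 * ψ a 1 :=
  ⟨mi (mul_mem (inv_mem (h.LB hk)) (h.MB hl)) (mem_cent.2 fun z hz => by
    rw [eq_comm, ← mul_inv_eq_iff_eq_mul, cjm, e z hz]; group), fun a ha => by
    rw [cjm, h.na.ψ1cj (inv_mem hk.1) (inv_mem hk.2) (conj_mem_of_norm (h.MB hl).1 ha), h.q2 hk hl e ha,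
      h.na.nat.ρinv hk.1, (sl_inv _).2.2.2]; ring⟩

theorem cjJ (ha : a ∈ A) (hd : d ∈ 𝐍 A) (m : y * d * y⁻¹ * d⁻¹ ∈ J) :
    ψ (y * d * y⁻¹ * a * (y * d * y⁻¹)⁻¹) 1 = ψ (d * a * d⁻¹) 1 := by
  rw [← inv_mul_cancel_right (y * d * y⁻¹) d, cjm, h.na.J1 m (conj_mem_of_norm hd ha)]

theorem swL (s : Sw A B y) (n : y ∈ 𝐍 J) (hl : l ∈ M ⊓ 𝐍 J) : y * l * y⁻¹ ∈ L ⊓ 𝐍 J := by
  obtain ⟨w, hw, e⟩ := h.nb.gen
  refine mi ((cj_mono y e).trans ?_ (conj_mem_cj.2 hl.1)) (cmem n hl.2)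
  rw [cj_sup, cj_cj, ← inv_mul_cancel_right (y * w) y, ← cj_cj, cj_of_norm n]
  exact sup_le h.na.sL (cj_le_of_norm (h.na.nA (s.symm.norm (h.nb.lN hw))) h.na.sL)

theorem der : ⁅J, J⁆ ≤ A ⊓ B := commutator_le.2 fun s hs t ht => by
  obtain ⟨a, ha, b, hb, rfl⟩ := h.na.mul t ht
  have m := h.nb.comm_mem hs hb
  rw [cm_r (h.na.cma ha m.2)]; exact mul_mem (h.na.comm_mem hs ha) (mi m.2 m.1)

theorem sqJ (hx : x ∈ J) : x * x ∈ A ⊓ B := by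
  obtain ⟨a, ha, b, hb, rfl⟩ := h.na.mul x hx
  have := h.nb.comm_mem (h.na.la ha) hb
  rw [commutatorElement_def, ab_inv h.na.ea ha, ab_inv h.na.eb hb] at this
  rw [← mul_assoc]; exact mi this.2 this.1

theorem nJA (hz : z ∈ A ⊓ B) (z1 : z ≠ 1) (n : 𝐂₁ z ≤ 𝐍 A) : 𝐂₁ z ≤ 𝐍 J := fun _ hg => mem_norm_of fun _ hs =>
  h.na.memC hz z1 (conj_mem_of_norm (h.na.nA (n hg)) (h.na.sL hs))
    (mem_cent1.1 (cmem hg (mem_cent1.2 (h.na.cz hs hz).symm)))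

variable (q : 4 < Nat.card F) (hc : ∀ d ∈ 𝐍 A ⊓ 𝐍 B ⊓ 𝐂 (A ⊓ B), y * d * y⁻¹ * d⁻¹ ∈ J)
include q hc

theorem f2 (hy : y ∈ 𝐍 A ⊓ 𝐍 B) (e : E2 y) : y ∈ J := by
  obtain ⟨σ, s⟩ := h.na.sl hy
  obtain rfl : σ = 1 := RingEquiv.ext (cube_span q h.na.two (RingHom.eqLocus (σ : F →+* F) (RingHom.id F)) fun t => by
    by_cases t0 : t = 0
    · simp [t0]
    obtain ⟨k, hk, rfl, -⟩ := h.na.diag t0
    obtain ⟨l, hl, e⟩ := h.q1 hk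
    obtain ⟨m, e⟩ := h.q3 hk hl e
    obtain ⟨-, -, c', -, c0, -, s⟩ := s
    obtain ⟨a, ha, ea⟩ := h.na.exA1 1
    have := h.cjJ (conj_mem_of_norm hy.1 ha) m.1.1 (hc _ m)
    rw [← cjc, s _ (conj_mem_of_norm m.1.1 ha), e a ha, e _ (conj_mem_of_norm hy.1 ha), s a ha, ea, map_one, mul_one,
      mul_one, mul_comm] at this
    exact mul_right_cancel₀ c0 this)
  exact h.lin s e

theorem f3 (s : Sw A B y) (n : y ∈ 𝐍 J) (i : (𝐂₁ y).relIndex (A ⊓ B) ≤ 2) : False := by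
  obtain ⟨t, t0, t1⟩ := exists_cube q
  obtain ⟨k, hk, rfl, -⟩ := h.na.diag t0
  obtain ⟨l, hl, e⟩ := h.q1 hk
  obtain ⟨m, f⟩ := h.q3 hk hl e
  have hk' := h.swL s n hl
  have hl' := h.symm.swL s.symm n hk
  have e' : ∀ z ∈ A ⊓ B, y * k * y⁻¹ * z * (y * k * y⁻¹)⁻¹ = y * l * y⁻¹ * z * (y * l * y⁻¹)⁻¹ := fun z hz => by
    rw [cjm, cjm, cjm, cjm, e _ (conj_mem_of_norm (h.nZ (inv_mem n)) hz)]
  obtain ⟨u, hu, u1⟩ : ∃ u ∈ (𝐂₁ y ⊓ cj k⁻¹ (𝐂₁ y)) ⊓ (A ⊓ B), u ≠ 1 := exists_mem_ne_one fun b => by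
    have := relIndex_inf_le (H := 𝐂₁ y) (K := cj k⁻¹ (𝐂₁ y)) (L := A ⊓ B)
    rw [relIndex_of_inf_bot b, h.na.cZ0] at this
    conv at this => rhs; rhs; rw [← cj_of_norm (h.nZ (inv_mem hk.2)), relIndex_cj]
    nlinarith
  have et : ρ (y * l * y⁻¹) 0 0 = ρ k 0 0 := mul_right_cancel₀ (h.na.ne0 hu.2 u1) (by
    rw [← h.na.ψ0cj hk'.1 hu.2, ← h.na.ψ0cj hk.1 hu.2, ← e' u hu.2, cjm, cjm, inv_inv, mul_assoc y⁻¹,
      mem_cent1.1 hu.1.1, inv_mul_cancel_left, ← mem_cent1.1 (mem_cj_inv.1 hu.1.2), mul_inv_cancel_right])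
  obtain ⟨a, ha, ea⟩ := h.na.exA1 1
  have e1 := h.cjJ ha m.1.1 (hc _ m)
  have e2 := h.q2 hk' hl' e' (conj_mem_of_norm (conj_mem_of_norm (h.nB n) m.1).1 ha)
  have d := h.na.det (h.nZ hk'.2) hk'.1
  rw [e1, f a ha, ← cjm, show y * k * y⁻¹ * (y * (k⁻¹ * l) * y⁻¹) = y * l * y⁻¹ by group, h.na.ψ1cj hk'.1 hk'.2 ha,
    ea] at e2
  rw [et] at e2 d
  exact t1 (h.na.sq_one (by linear_combination d - ρ k 0 0 * e2))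

omit hc

theorem cent0 (hS : Syl 2 S (𝐍 J)) (hz : z ∈ A ⊓ B) (z1 : z ≠ 1) (c : S ≤ 𝐂₁ z) : 𝐂₁ z ≤ 𝐍 J := by
  have c2 := h.c2 z (ab_iv h.na.ea hz.1 z1)
  have QS := ((h.syl hS).of_le c le_top).O_le
  have nQ := (O_normal {2} (𝐂₁ z)).norm
  have kQ := O_pi {2} (𝐂₁ z)
  have JH := (h.JS hS).trans c
  set Q := 𝐎 {2} (𝐂₁ z)
  have QN := QS.trans hS.le
  have cd : ∀ y ∈ Q, ∀ d ∈ 𝐍 A ⊓ 𝐍 B ⊓ 𝐂 (A ⊓ B), y * d * y⁻¹ * d⁻¹ ∈ J := fun y hy d hd => h.b2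
    (mul_mem (conj_mem_of_norm (h.nB (QN hy)) hd.1) (inv_mem hd.1)) (kQ.elt (mem_of_eq (mul_mem hy
      (conj_mem_of_norm (nQ (cent_le_cent1 hz hd.2)) (inv_mem hy))) (by group)))
    (mul_mem (conj_mem_of_norm (norm_le_norm_cent _ (h.nZ (QN hy))) hd.2) (inv_mem hd.2))
  have g2 : ∀ y ∈ Q, y ∈ 𝐍 A ⊓ 𝐍 B → y ∈ J := fun y hy n => h.f2 q (cd y hy) n (kQ.elt hy)
  have g3 : ∀ y ∈ Q, (𝐂₁ y).relIndex (A ⊓ B) ≤ 2 → y ∈ J := fun y hy i => g2 y hy (by_contra fun n =>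
    h.f3 q (cd y hy) (h.sw (QN hy) n) (QN hy) i)
  have fin : 𝐂₁ z ≤ 𝐍 (A ⊓ B) → 𝐂₁ z ≤ 𝐍 J := fun n g hg => h.nJ_of ((cj_le_of_norm (nQ hg) (chain c2 n
    h.na.ea.pi.inf_left JH h.na.cZ (fun y hy => g3 y hy.1 (by
      rw [relIndex_eq_one.2 (le_cent1_iff.2 hy.2)]; norm_num)) h.der QN)).trans QN)
  by_cases l : Q ≤ J
  · by_cases a : Q ≤ A
    · exact h.nJA hz z1 (nQ.trans (le_of_eq (congrArg (fun X => 𝐍 X) (le_antisymm a fun x hx =>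
        c2 (mi (JH (h.na.la hx)) (cent_anti a (h.na.ea.abel hx)))))))
    by_cases b : Q ≤ B
    · exact h.symm.nJA (mi hz.2 hz.1) z1 (nQ.trans (le_of_eq (congrArg (fun X => 𝐍 X) (le_antisymm b fun x hx =>
        c2 (mi (JH (h.na.lb hx)) (cent_anti b (h.na.eb.abel hx)))))))
    obtain ⟨u, hu, nu⟩ := SetLike.not_le_iff_exists.1 a
    obtain ⟨v, hv, nv⟩ := SetLike.not_le_iff_exists.1 b
    refine fin fun g hg => mem_norm_of fun x hx => ?_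
    have m := cent_anti l (cent_symm h.na.cZ hx)
    have m' := conj_mem_of_norm (nQ hg) (c2 (mi (JH (h.na.la hx.1)) m))
    have m := mem_cent.1 (conj_mem_of_norm (norm_le_norm_cent Q (nQ hg)) m)
    exact (h.na.inv _ (l m') (sq_conj (h.na.sqa hx.1) g)).elim (fun k => mi k (h.na.memB (l hu) nu k (m u hu).symm))
      fun k => mi (h.nb.memB (l hv) nv k (m v hv).symm) k
  obtain ⟨y, hy, ny⟩ := SetLike.not_le_iff_exists.1 l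
  have s := h.sw (QN hy) (mt (g2 y hy) ny)
  have ZQ : A ⊓ B ≤ Q := fun x hx => by
    obtain ⟨a, ha, na⟩ := h.na.exA
    obtain ⟨b, hb, rfl⟩ := h.na.surj ha na hx
    have m : y * a * y⁻¹ * a ∈ Q := mem_of_eq (mul_mem hy (conj_mem_of_norm (nQ (JH (h.na.la ha))) (inv_mem hy)))
      (by rw [ab_inv h.na.ea ha]; group)
    have : ⁅b, _⁆ ∈ Q := mul_mem (conj_mem_of_norm (nQ (JH (h.na.lb hb))) m) (inv_mem m)
    rwa [cm_r (h.nb.cma (s.mem ha) hx.2), cm1 (h.nb.cma hb (s.mem ha)), one_mul] at this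
  refine fin fun g hg => mem_norm_of_cj_le ?_
  have lE := cj_le_of_norm (nQ hg) ZQ
  have eE := (h.na.ea.le (inf_le_left : A ⊓ B ≤ A)).cj g
  have nE : Q ≤ 𝐍 (cj g (A ⊓ B)) := by rw [← cj_norm, ← cj_of_norm (nQ hg)]; exact cj_mono g (QN.trans h.nZ)
  have o := s.le (norm_inf nE (QN.trans h.nB) hy) (h.na.le_or' (fun x hx => g2 x (lE hx.1) hx.2) (eE.le inf_le_left))
  refine fun x hx => o (mi hx (h.JB (g3 x (lE hx) (idx_of_card (le_inf (inf_le_left.trans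
    (eE.abel.trans (cent_le_cent1 hx))) o) ?_))))
  simpa using card_le_mul (h.idxB (lE.trans QN)) (inf_comm _ _).le

theorem cent (hz : z ∈ A ⊓ B) (z1 : z ≠ 1) : 𝐂₁ z ≤ 𝐍 J := by
  obtain ⟨S, hS⟩ := BG.exists_syl 2 (𝐍 J)
  obtain ⟨u, hu, u1⟩ := exists_mem_ne_one (hS.pi.inf_cent_ne_bot h.na.ea.pi.inf_left (hS.le.trans h.nZ)
    h.na.Z_ne)
  obtain ⟨k, hk, e, -⟩ := h.na.diag (div_ne_zero (h.na.ne0 hz z1) (h.na.ne0 hu.1 u1))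
  rw [← h.na.ext0 (conj_mem_of_norm (h.nZ hk.2) hu.1) hz (by
    rw [h.na.ψ0cj hk.1 hu.1, e, div_mul_cancel₀ _ (h.na.ne0 hu.1 u1)]), ← cj_cent1]
  exact cj_le_of_mem hk.2 (h.cent0 q hS hu.1 u1 (le_cent1_iff.2 hu.2))

theorem k1 (hu : u ∈ A) (u1 : u ≠ 1) (l : E ≤ 𝐂₁ u) (e : Abelem 2 E) (c : ♯A ≤ ♯E) : E ≤ L := by
  obtain ⟨g, hg, m⟩ := h.na.conjZ hu
  refine (cj_le_iff.1 (h.big ((cj_mono g l).trans ?_) (fun _ => ab_sq (e.cj g)) (by simpa using c))).trans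
    (cj_le_of_mem (inv_mem hg) h.na.sL)
  rw [cj_cent1]; exact h.cent q m (by simpa using u1)

theorem k3 (hz : z ∈ A ⊓ B) (n : g * z * g⁻¹ ∈ 𝐍 J) (hu : u ∈ A) (u1 : u ≠ 1) (m : u ∈ cj g J) : g * z * g⁻¹ ∈ J := by
  refine h.na.mem2 ?_ n ((e2_of_sq (h.na.sqa hz.1)).conj g)
  rcases h.na.inv _ (mem_cj.1 m) (by simpa using sq_conj (h.na.sqa hu) g⁻¹) with k | k
  · exact h.k1 q hu u1 ((h.na.ea.cj g).abel.trans (cent_le_cent1 (mem_cj.2 k))) (h.na.ea.cj g) (by simp)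
      (conj_mem_cj.2 hz.1)
  · exact h.k1 q hu u1 ((h.na.eb.cj g).abel.trans (cent_le_cent1 (mem_cj.2 k))) (h.na.eb.cj g) (by simp [h.cAB])
      (conj_mem_cj.2 hz.2)

theorem k4 (hz : z ∈ A ⊓ B) (z1 : z ≠ 1) (n : g * z * g⁻¹ ∈ 𝐍 J) (m : g * z * g⁻¹ ∉ J) (l : U ≤ A) :
    cj g⁻¹ (U ⊓ 𝐂₁ (g * z * g⁻¹)) ≤ 𝐍 J ∧ cj g⁻¹ (U ⊓ 𝐂₁ (g * z * g⁻¹)) ⊓ J = ⊥ :=
  ⟨(cj_mono _ inf_le_right).trans (by rw [cj_cent1]; simpa [mul_assoc] using h.cent q hz z1),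
    eq_bot_of_forall fun x hx => by_contra fun x1 =>
      m (h.k3 q hz n (l (mem_cj_inv.1 hx.1).1) (by simpa using x1) (conj_mem_cj.2 hx.2))⟩

theorem sc0 (hz : z ∈ A ⊓ B) (n : g * z * g⁻¹ ∈ 𝐍 A ⊓ 𝐍 B) : g * z * g⁻¹ ∈ J := by
  by_contra m
  have z1 : z ≠ 1 := fun e => m (by simp [e])
  obtain ⟨a, b⟩ := h.k4 q hz z1 (h.na.nJ' n) m le_rfl
  have c := h.small a (fun _ => ab_sq ((h.na.ea.le inf_le_left).cj _)) b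
  have := SR.card_le_sq h.na.ea n.1 (by rw [sq_conj (h.na.sqa hz.1)]; exact one_mem _)
  rw [h.na.cA0] at this; rw [card_cj] at c
  nlinarith

theorem sc1 (hz : z ∈ A ⊓ B) (n : g * z * g⁻¹ ∈ 𝐍 J) : g * z * g⁻¹ ∈ J := by
  by_contra m
  have z1 : z ≠ 1 := fun e => m (by simp [e])
  obtain ⟨a, b⟩ := h.k4 q hz z1 n m (inf_le_left : A ⊓ B ≤ A)
  have := SR.card_le_sq (h.na.ea.le inf_le_left) (h.nZ n) (by rw [sq_conj (h.na.sqa hz.1)]; exact one_mem _)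
  have c := card_le_mul (U := ⊥) (h.idxB a) fun x hx => b.le (mi hx.2 (by
    simpa [mul_assoc] using h.sc0 q (g := g⁻¹) (mem_cj_inv.1 hx.2).1 (by simpa [mul_assoc] using hx.1)))
  rw [h.na.cZ0] at this; rw [card_cj, card_bot] at c
  nlinarith

theorem sc2 (hx : x ∈ A) (n : g * x * g⁻¹ ∈ 𝐍 J) : g * x * g⁻¹ ∈ J := by
  obtain ⟨l, -, m⟩ := h.na.conjZ hx
  simpa [mul_assoc] using h.sc1 q (g := g * l⁻¹) m (by simpa [mul_assoc] using n)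

theorem sc3 (hx : x ∈ J) (n : g * x * g⁻¹ ∈ 𝐍 J) (hu : g * (x * x) * g⁻¹ ∈ A) (u1 : x * x ≠ 1) : g * x * g⁻¹ ∈ J := by
  have c : cj g J ≤ 𝐂₁ (g * (x * x) * g⁻¹) := by
    rw [← cj_cent1]; exact cj_mono g (h.na.cZ.trans (cent_le_cent1 (h.sqJ hx)))
  have u1 : g * (x * x) * g⁻¹ ≠ 1 := by simpa using u1
  refine h.na.mem2 ((?_ : cj g J ≤ L) (conj_mem_cj.2 hx)) n ((h.na.syl.pi.elt hx).conj g)
  rw [← h.na.sup_eq, cj_sup]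
  exact sup_le (h.k1 q hu u1 ((cj_mono g h.na.la).trans c) (h.na.ea.cj g) (by simp))
    (h.k1 q hu u1 ((cj_mono g h.na.lb).trans c) (h.na.eb.cj g) (by simp [h.cAB]))

theorem sc (hx : x ∈ J) (n : g * x * g⁻¹ ∈ 𝐍 J) : g * x * g⁻¹ ∈ J := by
  by_cases e : x * x = 1
  · exact (h.na.inv x hx e).elim (h.sc2 q · n) (h.symm.sc2 q · n)
  have m := h.sqJ hx
  exact (h.na.inv _ (h.sc1 q m (by rw [← conj_mul]; exact mul_mem n n)) (sq_conj (h.na.sqa m.1) g)).elim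
    (h.sc3 q hx n · e) (h.symm.sc3 q hx n · e)

end Bk

end CF.Cl2
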