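/-
Blocks `L = A.SL₂(q)` with `A / C_A(L)` the natural module.
-/
import Cfsg.Agent.Loc.BK4
import Cfsg.Agent.PLocal.MnI
set_option autoImplicit false
set_option linter.unusedSectionVars false

namespace CF.Cl2
open Subgroup Cfsg CF.BG CF.Sig CF.GW CF.Ab2
open CF.PLocal (upT)
open CF.FF (NatOn LD LS act rho slA)
open scoped commutatorElement MatrixGroups

universe u
variable {G : Type u} [Group G] [Finite G]
variable {A B D E H J K L M N P Q R S T U V W X Y Z : Subgroup G} {a b c d e g k l n s t u v w x y z : G}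
variable {F : Type} [Field F] [Fintype F] {ρ : G → SL(2, F)} {ψ : G → Fin 2 → F}

theorem core_eq (H : Subgroup G) : pCoreOf 2 H = 𝐎 {2} H := map_pCore Ab2.p2 H

theorem e2_of_pow {m : ℕ} (h : E2 (g ^ 2 ^ m)) : E2 g := by
  obtain ⟨n, e⟩ := e2_pow h
  exact ((piNat_self Ab2.p2).pow (m + n)).dvd (orderOf_dvd_of_pow_eq_one (by rw [pow_add, pow_mul, ← e, pow_orderOf_eq_one]))

theorem e2_mul (k : P2 J) (hg : g ∈ 𝐍 J) (e : E2 g) (hs : s ∈ J) : E2 (s * g) :=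
  (k.sup e.zpowers (.inr (zpowers_le.2 hg))).elt (mul_mem_sup hs (mem_zpowers g))

theorem _root_.CF.FF.NatOn.cjg (h : NatOn F V L A ρ ψ) (g : G) :
    NatOn F (cj g V) (cj g L) (cj g A) (fun x => ρ (g⁻¹ * x * g)) fun x => ψ (g⁻¹ * x * g) := by
  refine ⟨cj_norm g V ▸ cj_mono g h.norm, cj_mono g h.le, fun x hx y hy => ?_, fun x hx y hy => ?_, fun m => ?_, fun z => ?_,
    fun v hv => ?_, fun x hx v hv => ?_, fun a ha => h.up _ (mem_cj.1 ha), fun t => ?_, fun v hv => ?_, fun a ha e => ?_⟩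
  · rw [← h.ρmul _ (mem_cj.1 hx) _ (mem_cj.1 hy)]; congr 1; group
  · rw [← h.ψmul _ (mem_cj.1 hx) _ (mem_cj.1 hy)]; congr 1; group
  · obtain ⟨x, hx, e⟩ := h.ρsurj m
    exact ⟨_, conj_mem_cj.2 hx, by rw [← e]; congr 1; group⟩
  · obtain ⟨x, hx, e⟩ := h.ψsurj z
    exact ⟨_, conj_mem_cj.2 hx, by rw [← e]; congr 1; group⟩
  · rw [h.ker _ (mem_cj.1 hv), ← cj_cent, mem_cj]
  · rw [← h.equiv _ (mem_cj.1 hx) _ (mem_cj.1 hv)]; congr 1; group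
  · obtain ⟨x, hx, e⟩ := h.up' t
    exact ⟨_, conj_mem_cj.2 hx, by rw [← e]; congr 1; group⟩
  · rw [← h.fix _ (mem_cj.1 hv), ← cj_cent, mem_cj]
  · rw [← cj_cent, mem_cj]
    exact h.infker _ (mem_cj.1 ha) e

theorem nat_four_le (h : NatOn F V L A ρ ψ) (k : P2 A) (q : 2 < Nat.card F) : 4 ≤ Nat.card F := by
  have := k.card_eq
  rw [h.card_A] at this
  obtain ⟨n, -, e⟩ := (Nat.dvd_prime_pow Ab2.p2).1 (Dvd.intro _ this)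
  rw [e] at q ⊢
  exact Nat.pow_le_pow_right two_pos (show 2 ≤ n from (Nat.pow_lt_pow_iff_right one_lt_two).1 (by simpa using q))

/-- `L = A.SL₂(F)` with Sylow 2-subgroup `J = AB` -/
structure Nd (F : Type) [Field F] (A B J L : Subgroup G) (ρ : G → SL(2, F)) (ψ : G → Fin 2 → F) : Prop
    extends Nt F L A B J L ρ ψ where
  cA' : 𝐂 A ≤ A
  nA : 𝐍 A ≤ 𝐍 L
  fa : ∀ g ∈ 𝐍 A, E2 g → (∀ l ∈ L, ⁅g, l⁆ ∈ A) → g ∈ A
  q : 2 < Nat.card F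

namespace Nd
variable (h : Nd F A B J L ρ ψ)
include h

protected theorem cj (g : G) :
    Nd F (cj g A) (cj g B) (cj g J) (cj g L) (fun x => ρ (g⁻¹ * x * g)) fun x => ψ (g⁻¹ * x * g) :=
  ⟨⟨h.toAB.map_inj (conj_inj g), le_rfl, inf_le_left.trans (le_norm_self _), h.nat.cjg g, fun x hx e => by
    rw [← cj_cent, mem_cj]; exact h.ker _ (mem_cj.1 hx) e⟩, cj_cent g A ▸ cj_mono g h.cA',
    by rw [← cj_norm, ← cj_norm]; exact cj_mono g h.nA, fun x hx e c => mem_cj.2 (h.fa _ (mem_cj.1 (cj_norm g A ▸ hx))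
      (by simpa using e.conj g⁻¹) fun l hl => mem_of_eq (mem_cj.1 (c _ (conj_mem_cj.2 hl))) (by
        simp only [commutatorElement_def]; group)), h.q⟩

theorem q4 : 4 ≤ Nat.card F := nat_four_le h.nat h.syl.pi h.q
theorem ka (hl : l ∈ L) (e : ρ l = 1) : l ∈ A := h.cA' (h.ker l hl e)
theorem nA' : J ≤ 𝐍 A := h.toNt.toAB.nA
theorem nD : 𝐍 A ≤ 𝐍 (A ⊓ 𝐂 L) := norm_inf_cent le_rfl h.nA
theorem z1 (hz : z ∈ A ⊓ B) : ψ z 1 = 0 := (h.z_iff hz.1).1 hz.2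
theorem exZ0 (t : F) : ∃ z ∈ A ⊓ B, ψ z 0 = t := let ⟨z, hz, e⟩ := h.exZ t; ⟨z, hz, by simp [e]⟩
theorem exA1 (t : F) : ∃ a ∈ A, ψ a 1 = t := let ⟨a, ha, e⟩ := h.nat.ψsurj ![0, t]; ⟨a, ha, by simp [e]⟩
theorem exS0 (t : F) : ∃ b ∈ B, ρ b 0 1 = t := let ⟨b, hb, e⟩ := h.exS t; ⟨b, hb, by rw [e]; rfl⟩
theorem ext0 (ha : a ∈ A ⊓ B) (hb : b ∈ A ⊓ B) (e : ψ a 0 = ψ b 0) : a * b ∈ A ⊓ 𝐂 L :=
  h.ψ_eq ha.1 hb.1 (by rw [h.ψZ ha, h.ψZ hb, e])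
theorem cAB : ♯A = ♯B := by rw [h.card_A, h.card_B, ← h.cardA, ← h.cardB]
theorem cA0 : ♯A = Nat.card F * ♯(A ⊓ B) := by rw [h.card_A, h.cardB]
theorem mem2 (hl : l ∈ L) (n : l ∈ 𝐍 J) (e : E2 l) : l ∈ J := h.syl.mem_of_norm hl n e
theorem nJ' (hg : g ∈ 𝐍 A ⊓ 𝐍 B) : g ∈ 𝐍 J := h.norm_AB hg.1 hg.2

theorem memJ (hl : l ∈ L) (e : ρ l 1 0 = 0) (e' : ρ l 0 0 = 1) : l ∈ J := by
  obtain ⟨s, hs, f⟩ := h.nat.up' (ρ l 0 1)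
  have d := sl_det (ρ l)
  refine (mul_mem_cancel_left (inv_mem hs)).1 (h.la (h.ka (mul_mem (inv_mem (h.sL hs)) hl) ?_))
  rw [h.ρmul (inv_mem (h.sL hs)) hl, h.nat.ρinv (h.sL hs), f, inv_mul_eq_one]
  ext i j; fin_cases i <;> fin_cases j <;> simp_all [PLocal.upT_val]

theorem nJ (hl : l ∈ L) : l ∈ 𝐍 J ↔ ρ l 1 0 = 0 := by
  refine ⟨fun n => (h.norm_iff hl).1 (h.normZ hl n), fun e => mem_norm_of fun s hs => ?_⟩
  have := h.ρcj hl (h.sL hs)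
  rw [h.up hs, PLocal.conj_upT_of_eq_zero e] at this
  exact h.memJ (cmem hl (h.sL hs)) (by rw [this]; rfl) (by rw [this]; rfl)

theorem ψ0cj (hl : l ∈ L) (hz : z ∈ A ⊓ B) : ψ (l * z * l⁻¹) 0 = ρ l 0 0 * ψ z 0 := by
  rw [h.ψcj hl hz.1, h.z1 hz, mul_zero, add_zero]

theorem ψ1cj (hl : l ∈ L) (n : l ∈ 𝐍 J) (ha : a ∈ A) : ψ (l * a * l⁻¹) 1 = ρ l 1 1 * ψ a 1 := by
  rw [h.ψcj hl ha, (h.nJ hl).1 n, zero_mul, zero_add]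

theorem exW : ∃ w ∈ L, w ∉ 𝐍 J := let ⟨w, hw, e⟩ := h.nat.exists_w; ⟨w, hw, mt (h.nJ hw).1 e⟩

theorem ti (hl : l ∈ L) (n : l ∉ 𝐍 J) (hs : s ∈ J) (e : l * s * l⁻¹ ∈ J) : s ∈ A := by_contra fun c =>
  h.nat.ρ_conj_ne hs (fun k => c (h.cA' k)) hl (mt (h.nJ hl).2 n) (by rw [h.up e]; rfl)

theorem core : 𝐎 {2} L = A := le_antisymm (fun _ hs => let ⟨_, hw, n⟩ := h.exW
  h.ti hw n (h.syl.O_le hs) (h.syl.O_le (conj_mem_of_norm ((O_normal _ _).norm hw) hs))) (le_O ⟨h.aL, h.lN⟩ h.ea.pi)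

theorem ls : LS F A (A ⊓ 𝐂 L) ψ :=
  ⟨⟨inf_le_left, h.nat.ψmul, fun _ hv => (h.ψ0 hv).trans ⟨mi hv, mi2⟩⟩, h.nat.ψsurj⟩

theorem rho_eq (hl : l ∈ L) : rho A ψ l = ρ l := h.ls.rho_eq (h.lN hl) (h.nat.equiv l hl)

theorem ld : LD 2 F A (A ⊓ 𝐂 L) L ψ :=
  { h.ls with
    fin := inferInstance
    three := h.q
    char := by simpa [one_add_one_eq_two] using h.two 1
    le := fun l hl => ⟨h.lN hl, _, h.nat.equiv l hl⟩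
    rng := fun m => ⟨fun _ => let ⟨g, hg, e⟩ := h.nat.ρsurj m; ⟨g, hg, (h.rho_eq hg).trans e⟩,
      fun _ => (Classical.commutator_SL2_eq_top h.q4).ge trivial⟩
    kr := fun g hg => by
      rw [h.rho_eq hg, core_eq, h.core]
      exact ⟨h.ka hg, fun c => h.nat.ρ_eq_one_of_cent hg (h.ea.abel c)⟩ }

theorem of_gl (hg : g ∈ h.ls.glA) (e : E2 g) (n : g ∈ 𝐍 J) : g ∈ J := by
  haveI := Fact.mk Ab2.p2
  have hs := h.ls.le_slA h.ld.char e.zpowers.isPGroup (zpowers_le.2 hg) (mem_zpowers g)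
  obtain ⟨k, hk, f⟩ := h.nat.ρsurj (rho A ψ g)
  have ks := h.ld.le hk
  have m := mul_mem (inv_mem ks) hs
  have c : ∀ l ∈ L, ⁅k⁻¹ * g, l⁆ ∈ A := fun l hl => h.core ▸ core_eq L ▸ h.ld.comm_mem_core ⟨m.1, h.nA m.1⟩
    ((h.ls.rho_eq_one m).1 (by rw [h.ls.rho_mul (inv_mem ks) hs, h.ls.rho_inv ks, h.rho_eq hk, f, inv_mul_cancel])) hl
  have yn : k⁻¹ * g ∈ 𝐍 J := mem_norm_of fun s hs => mem_of_eq (mul_mem (h.la (c s (h.sL hs))) hs) (by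
    rw [commutatorElement_def]; group)
  obtain ⟨j, hj⟩ := e2_pow e
  have kJ := h.mem2 hk (by simpa using mul_mem n (inv_mem yn)) (e2_of_pow (m := j) (h.ea.pi.elt (h.ka (pow_mem hk _) (by
    rw [← h.rho_eq (pow_mem hk _), h.ls.rho_pow ks, h.rho_eq hk, f, ← h.ls.rho_pow hs, ← hj, pow_orderOf_eq_one,
      h.ls.rho_one]))))
  exact (mul_mem_cancel_left (inv_mem kJ)).1 (h.la (h.fa _ m.1 (e2_mul h.syl.pi n e (inv_mem kJ)) c))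

theorem sl (hg : g ∈ 𝐍 A ⊓ 𝐍 B) : ∃ σ, Sl A B ψ g σ ∧ (σ = 1 → g ∈ h.ls.glA) := by
  have n : g ∈ 𝐍 A ⊓ 𝐍 (A ⊓ 𝐂 L) := mi hg.1 (h.nD hg.1)
  obtain ⟨θ, e⟩ := h.ld.semi n (h.nA hg.1)
  obtain ⟨z, hz, ez⟩ := h.exZ 1
  obtain ⟨u, hu, eu⟩ := h.nat.ψsurj ![0, 1]
  have key : ∀ a ∈ A, ψ (g * a * g⁻¹) = θ (ψ a 0) • ψ (g * z * g⁻¹) + θ (ψ a 1) • ψ (g * u * g⁻¹) := fun a ha => by
    rw [← h.ls.act_eq n ha, ← h.ls.act_eq n hz.1, ← h.ls.act_eq n hu, ← e, ← e, ← h.ls.act_add n, ez, eu]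
    congr 1; ext i; fin_cases i <;> simp
  refine ⟨.ofBijective θ (Finite.injective_iff_bijective.1 θ.injective), ⟨hg, ψ (g * z * g⁻¹) 0, ψ (g * u * g⁻¹) 1,
    h.ψne (cZ_mem hg hz) fun c => ?_, fun c => ?_, fun a ha => ?_, fun a ha => ?_⟩, fun c => ⟨n, fun a y => ?_⟩⟩
  · have := (h.ψ0 hz.1).2 (mem_of_eq (conj_mem_of_norm' (norm_le_norm_cent L (h.nA hg.1)) c) (by group))
    simpa [ez] using congrFun this 0
  · have := (h.z_iff hu).1 (mem_of_eq (conj_mem_of_norm' hg.2 ((h.z_iff (conj_mem_of_norm hg.1 hu)).2 c)) (by group))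
    simp [eu] at this
  · rw [key a ha.1, h.z1 ha]; simp [mul_comm]
  · rw [key a ha]; simp [h.z1 (cZ_mem hg hz), mul_comm]
  · rw [e, show θ a = a from congrArg (fun s : RingAut F => s a) c]

theorem lin0 {σ : RingAut F} {c : F} (s : Sl A B ψ g σ) (k : ∀ z ∈ A ⊓ B, ψ (g * z * g⁻¹) 0 = c * ψ z 0) : σ = 1 := by
  obtain ⟨-, d, -, d0, -, e, -⟩ := s
  obtain ⟨z, hz, ez⟩ := h.exZ0 1
  have := e z hz; rw [k z hz, ez, map_one, mul_left_inj' one_ne_zero] at this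
  ext t; obtain ⟨z, hz, rfl⟩ := h.exZ0 t
  exact mul_left_cancel₀ d0 (by rw [← e z hz, k z hz, this]; rfl)

theorem lin1 {σ : RingAut F} {c : F} (s : Sl A B ψ g σ) (k : ∀ a ∈ A, ψ (g * a * g⁻¹) 1 = c * ψ a 1) : σ = 1 := by
  obtain ⟨-, -, d, -, d0, -, e⟩ := s
  obtain ⟨z, hz, ez⟩ := h.exA1 1
  have := e z hz; rw [k z hz, ez, map_one, mul_left_inj' one_ne_zero] at this
  ext t; obtain ⟨z, hz, rfl⟩ := h.exA1 t
  exact mul_left_cancel₀ d0 (by rw [← e z hz, k z hz, this]; rfl)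

theorem uniq {σ : RingAut F} (s : Sl A B ψ g σ) (l : g ∈ Lin A B ψ) : σ = 1 := by
  have := s.mul (inv_mem l : Sl A B ψ g⁻¹ 1)
  rw [mul_one] at this
  exact h.lin0 (c := 1) this (by simp)

theorem lin (hg : g ∈ Lin A B ψ) (e : E2 g) : g ∈ J :=
  let ⟨_, s, k⟩ := h.sl hg.1; h.of_gl (k (h.uniq s hg)) e (h.nJ' hg.1)

theorem J_lin : J ≤ Lin A B ψ := fun l hl =>
  have n := le_norm_self J hl
  have d := h.det (h.normZ (h.sL hl) n) (h.sL hl)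
  ⟨mi (h.nA' hl) (h.toAB.nB hl), _, _, left_ne_zero_of_mul_eq_one d, right_ne_zero_of_mul_eq_one d,
    fun _ hz => h.ψ0cj (h.sL hl) hz, fun _ ha => h.ψ1cj (h.sL hl) n ha⟩

theorem b2 (hg : g ∈ 𝐍 A ⊓ 𝐍 B) (e : E2 g) (c : ∀ z ∈ A ⊓ B, g * z * g⁻¹ * z⁻¹ ∈ 𝐂 L) : g ∈ J := by
  obtain ⟨σ, s, -⟩ := h.sl hg
  obtain rfl := h.lin0 (c := 1) s fun z hz => by
    have k := mul_mem (cZ_mem hg hz) (inv_mem hz)
    rw [← inv_mul_cancel_right (g * z * g⁻¹) z, h.ψmul k.1 hz.1, (h.ψ0 k.1).2 (c z hz)]; simp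
  exact h.lin s e

theorem b2' (hg : g ∈ 𝐍 A ⊓ 𝐍 B) (e : E2 g) (c : g ∈ 𝐂 (A ⊓ B)) : g ∈ J :=
  h.b2 hg e fun z hz => by rw [← mem_cent.1 c z hz]; simp [one_mem]

theorem b3 (hg : g ∈ 𝐍 A ⊓ 𝐍 B) (e : E2 g) (c : ∀ a ∈ A, g * a * g⁻¹ * a⁻¹ ∈ B) : g ∈ J := by
  obtain ⟨σ, s, -⟩ := h.sl hg
  obtain rfl := h.lin1 (c := 1) s fun a ha => by
    have k := mul_mem (conj_mem_of_norm hg.1 ha) (inv_mem ha)
    rw [← inv_mul_cancel_right (g * a * g⁻¹) a, h.ψmul k ha, Pi.add_apply, h.z1 (mi k (c a ha))]; simp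
  exact h.lin s e

theorem tv (hg : g ∈ 𝐍 A ⊓ 𝐍 B) (e : E2 g) (i : (𝐂₁ g).relIndex A ≤ 2) : g ∈ J := by
  by_cases c : A ⊓ B ≤ 𝐂₁ g
  · exact h.b2' hg e (le_cent1_iff.1 c)
  obtain ⟨z, hz, nz⟩ := SetLike.not_le_iff_exists.1 c
  refine h.b3 hg e fun a ha => ?_
  by_cases c : a ∈ 𝐂₁ g
  · rw [← mem_cent1.1 c]; simp
  have := mem_cent1.1 (mul_of_idx i hz.1 ha nz c)
  rw [show g * a * g⁻¹ * a⁻¹ = (g * z * g⁻¹)⁻¹ * (g * (z * a) * g⁻¹ * a⁻¹) by group, ← this]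
  exact mul_mem (inv_mem (cZ_mem hg hz).2) (by simpa using hz.2)

theorem r1 (ha : a ∈ 𝐍 A ⊓ 𝐍 B) (hb : b ∈ 𝐍 A ⊓ 𝐍 B) (a2 : a * a ∈ J) (b2 : b * b ∈ J) (ea : E2 a) (eb : E2 b)
    (e : E2 (a * b)) (na : a ∉ J) (nb : b ∉ J) : a * b ∈ J := by
  obtain ⟨σ, s, -⟩ := h.sl ha
  obtain ⟨τ, t, -⟩ := h.sl hb
  have := CF.Chev.isCyclic_ringAut (F := F)
  have := isCyclic_iff_exists_zpowers_eq_top.1 this
  have i : ∀ {a σ}, Sl A B ψ a σ → a * a ∈ J → E2 a → a ∉ J → Iv σ := fun s a2 ea na =>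
    .mk' (fun c => na (h.lin (by rwa [c] at s) ea)) (h.uniq (s.mul s) (h.J_lin a2))
  obtain rfl := eq_of_cyc (K := ⊤) inferInstance trivial trivial (i s a2 ea na) (i t b2 eb nb)
  exact h.lin (show Sl A B ψ _ 1 from (i s a2 ea na).sq ▸ s.mul t) e

theorem idx0 (e : ∀ x ∈ E, x * x = 1) : J.relIndex (E ⊓ (𝐍 A ⊓ 𝐍 B)) ≤ 2 := idx_le_two fun _ ha _ hb =>
  h.r1 ha.2 hb.2 (e _ ha.1 ▸ one_mem _) (e _ hb.1 ▸ one_mem _) (e2_of_sq (e _ ha.1)) (e2_of_sq (e _ hb.1))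
    (e2_of_sq (e _ (mul_mem ha.1 hb.1)))

theorem dc (hw : w ∈ L) (nw : w ∉ 𝐍 J) (hl : l ∈ L) (n : l ∉ 𝐍 J) : ∃ b ∈ B, w * b * l ∈ 𝐍 J := by
  have l0 := mt (h.nJ hl).2 n
  have w0 := mt (h.nJ hw).2 nw
  obtain ⟨s, hs, e⟩ := h.exS (-(ρ w 1 1 / ρ w 1 0) - ρ l 0 0 / ρ l 1 0)
  have sL := h.sL (h.lb hs)
  have m := mul_mem hw sL
  refine ⟨s, hs, (h.nJ (mul_mem m hl)).2 ?_⟩
  rw [h.ρmul m hl, h.ρmul hw sL, e]
  simp only [sl_mul, sl_up]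
  field_simp
  ring

/-- Hilbert 90 on `A / (A ∩ B)` -/
theorem h90 (ht : t ∈ 𝐍 A ⊓ 𝐍 B) (e : t * t = 1) (n : t ∉ J) (ha : a ∈ A) (c : t * a * t⁻¹ * a ∈ B) :
    ∃ u ∈ A, t * u * t⁻¹ * u * a ∈ B := by
  obtain ⟨σ, s, -⟩ := h.sl ht
  have σ2 := h.uniq (s.mul s) (e ▸ one_mem _)
  obtain ⟨v, hv⟩ : ∃ v, σ v ≠ v := by_contra fun k => n (h.lin (by
    rwa [show σ = 1 from RingEquiv.ext (by simpa using k)] at s) (e2_of_sq e))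
  have v0 : v + σ v ≠ 0 := fun k => hv (by rw [← h.neg (σ v), eq_comm, ← add_eq_zero_iff_eq_neg, k])
  obtain ⟨-, -, c', -, -, -, s⟩ := s
  obtain ⟨u, hu, eu⟩ := h.exA1 (ψ a 1 * (v / (v + σ v)))
  have m := fun {a} (ha : a ∈ A) => conj_mem_of_norm ht.1 ha
  have e1 := (h.z_iff (mul_mem (m ha) ha)).1 c
  refine ⟨u, hu, (h.z_iff (mul_mem (mul_mem (m hu) hu) ha)).2 ?_⟩
  rw [h.ψmul (m ha) ha, Pi.add_apply, s a ha] at e1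
  rw [h.ψmul (mul_mem (m hu) hu) ha, h.ψmul (m hu) hu, Pi.add_apply, Pi.add_apply, s u hu, eu, map_mul, map_div₀, map_add,
    show σ (σ v) = v from congrArg (fun s : RingAut F => s v) σ2, add_comm (σ v)]
  field_simp
  linear_combination σ v * e1 + h.two (ψ a 1 * v)

end Nd

end CF.Cl2
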