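/-
Groups all of whose proper subgroups have abelian centralizers of noncentral elements: basics.
-/
import Cfsg.Agent.Ab2.App2
import Cfsg.Agent.KG.Res
import Cfsg.Agent.Transfer.Frat
set_option autoImplicit false
set_option linter.unusedSectionVars false

namespace CF.CAx
open Subgroup Cfsg CF.BG CF.Sig CF.KG CF.Ab2
open scoped commutatorElement

/-- the center -/
scoped notation "𝒵" => Subgroup.centralizer (SetLike.coe (⊤ : Subgroup _))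

variable {G X : Type*} [Group G] [Finite G] [Group X] [Finite X]
variable {A D H K L M N P Q R S T W : Subgroup G} {a b c g t u v w x y z : G} {m n p q r : ℕ}
variable {f : G →* X}

/-- centralizers of noncentral elements are abelian -/
def CA (H : Subgroup G) : Prop := ∀ x ∈ H, x ∉ 𝐂 H → Abel (H ⊓ 𝐂₁ x)

theorem CA.le (h : CA H) (hx : x ∈ H) (n : ¬ Abel (H ⊓ 𝐂₁ x)) : H ≤ 𝐂₁ x :=
  le_cent1_iff.2 (by_contra fun k => n (h x hx k))

theorem CA.comm (h : CA H) (hx : x ∈ H) (n : x ∉ 𝐂 H) (ha : a ∈ H) (hb : b ∈ H)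
    (ea : a * x = x * a) (eb : b * x = x * b) : a * b = b * a :=
  (h x hx n).mul_comm ⟨ha, mem_cent1.2 ea⟩ ⟨hb, mem_cent1.2 eb⟩

theorem cpl (h : a * ⁅a, b⁆ = ⁅a, b⁆ * a) : ⁅a, b⁆ ^ n = 1 ↔ a ^ n * b = b * a ^ n := by
  rw [← Transfer.commutatorElement_pow_left' h, commutatorElement_eq_one_iff_mul_comm]

theorem cpr (h : b * ⁅a, b⁆ = ⁅a, b⁆ * b) : ⁅a, b⁆ ^ n = 1 ↔ a * b ^ n = b ^ n * a := by
  rw [← Transfer.commutatorElement_pow_right' h, commutatorElement_eq_one_iff_mul_comm]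

theorem ct (h : z ∈ 𝒵) (g : G) : g * z = z * g := mem_cent.1 h g trivial

theorem cop (c : m.Coprime n) (h : ⁅a, b⁆ ^ m = 1) (k : ⁅a, b⁆ ^ n = 1) : a * b = b * a :=
  commutatorElement_eq_one_iff_mul_comm.1 ((pow_eq_one_iff_of_coprime c).1 ⟨h, k⟩)

theorem rc (h : ⁅a, b⁆ ∈ 𝒵) (c : (orderOf a).Coprime (orderOf b)) : a * b = b * a :=
  cop c ((cpl (ct h a)).2 (by simp)) ((cpr (ct h b)).2 (by simp))

theorem fc (k : f.ker = 𝒵) : f a * f b = f b * f a ↔ ⁅a, b⁆ ∈ 𝒵 := by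
  rw [← k, MonoidHom.mem_ker, map_commutatorElement, commutatorElement_eq_one_iff_mul_comm]

theorem zn : 𝒵 ⊴ (⊤ : Subgroup G) := ⟨le_top, norm_cent (le_norm_self _)⟩

theorem zle (H : Subgroup G) : 𝒵 ≤ 𝐂 H := cent_anti le_top

theorem exists_quot (h : N ⊴ ⊤) : ∃ f : G →* Quo N, Function.Surjective f ∧ f.ker = N :=
  haveI := normalIn_top.1 h
  ⟨(qmk N).comp ((MonoidHom.id G).codRestrict _ fun x => h.norm (mem_top x)),
    fun z => let ⟨x, e⟩ := qmk_surj N z; ⟨x, e⟩, by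
      ext x
      exact show _ ∈ (qmk N).ker ↔ _ by rw [qmk_ker]; rfl⟩

theorem bot_of_npc (hD : ⁅D, D⁆ = D) (s : Syl p S D) (h : NPC p D) : S = ⊥ :=
  s.pi.eq_bot ((O_pi _ _).le (s.le.trans (le_of_le_sup_sol hD (h.sdprod s).norm s.pi.sol
    (h.sdprod s).sup.ge)))

theorem CA.two (h : CA H) (l : T ≤ H) (k : P2 T) (ha : a ∈ T) (hb : b ∈ T) (na : a * a ∉ 𝐂 H)
    (nb : b * b ∉ 𝐂 H) : a * b = b * a := by
  have n : T ≤ 𝐍 (T ⊓ 𝐂 H) := (normalIn_inf_cent (norm_of_le l)).norm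
  obtain ⟨E, e⟩ := (k.qt (T ⊓ 𝐂 H)).exists_elem_center (.refl _) fun e =>
    na ((qt_eq_bot n).1 e (mul_mem ha ha)).2
  obtain ⟨_, c1, hc, -⟩ := e.exists_gen
  obtain ⟨c, ct, cn, rfl⟩ := mem_qt.1 (e.le hc).1
  have nc : c ∉ 𝐂 H := fun m => c1 (qe_of_mem ⟨ct, m⟩)
  have c2 : c ^ 2 ∈ 𝐂 H := ((qe_eq_one (pow_mem cn 2)).1 (qe_pow cn 2 ▸ e.ab.pow _ hc)).2
  have key : ∀ u ∈ T, u * u ∉ 𝐂 H → u * c = c * u := fun u hu nu => by
    have m : ⁅c, u⁆ ∈ 𝐂 H := ((qe_eq_one (n (der_le T (commutator_mem_commutator ct hu)))).1 (by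
      rw [qe_comm cn (n hu), commutatorElement_eq_one_iff_mul_comm]
      exact (mem_cent.1 (e.le hc).2.2 _ (qe_mem_qt hu (n hu))).symm)).2
    refine h.comm (l (mul_mem hu hu)) nu (l hu) (l ct) (mul_assoc _ _ _).symm ?_
    rw [← sq]
    exact (cpr (mem_cent.1 m _ (l hu))).1 ((cpl (mem_cent.1 m _ (l ct))).2
      (mem_cent.1 c2 _ (l hu)).symm)
  exact h.comm (l ct) nc (l ha) (l hb) (key a ha na) (key b hb nb)

/-- the hypothesis -/
structure SC (G : Type*) [Group G] : Prop where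
  ca : ∀ H : Subgroup G, H ≠ ⊤ → CA H
  ns : ¬ Sol (⊤ : Subgroup G)

namespace SC
variable (h : SC G)
include h

theorem cs (s : Sol H) : CA H := h.ca H fun e => h.ns (e ▸ s)

theorem exists_syl (hD : ⁅D, D⁆ = D) (d1 : D ≠ ⊥) (hy : y ∈ 𝐂 D) :
    ∃ p S, Syl p S D ∧ 𝐍 S ≤ 𝐂₁ y := by
  by_contra! k
  refine d1 (eq_bot_of_sol hD (nil_of_forall_syl fun p hp d => ?_).sol)
  obtain ⟨S, s⟩ := BG.exists_syl p D
  refine ⟨S, s, by_contra fun n => s.syl_ne_bot hp d (bot_of_npc hD s (s.burnside ?_))⟩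
  have := h.ca (𝐍 S) (fun e => n (e ▸ le_top)) y (cent_le_norm _ (cent_anti s.le hy))
    (mt le_cent1_iff.2 (k p S s))
  have l := le_cent1_iff.2 hy
  exact this.cent (le_inf inf_le_right (inf_le_left.trans l)) (le_inf (le_norm_self S) (s.le.trans l))

theorem cent_le (n : D ⊴ ⊤) (hD : ⁅D, D⁆ = D) (d1 : D ≠ ⊥) : 𝐂 D ≤ 𝒵 := fun y hy => by
  obtain ⟨p, S, s, l⟩ := h.exists_syl hD d1 hy
  rw [← le_cent1_iff, ← s.syl_frattini_sup n]
  exact sup_le (le_cent1_iff.2 hy) (inf_le_right.trans l)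

theorem abel_cent (hD : ⁅D, D⁆ = D) (d1 : D ≠ ⊥) : Abel (𝐂 D) := abel_of_forall fun x hx y hy => by
  obtain ⟨p, S, s, l⟩ := h.exists_syl hD d1 hy
  exact mem_cent1.1 (l (cent_le_norm _ (cent_anti s.le hx)))

end SC

end CF.CAx
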