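/-
Normal `p`-subgroups are central.
-/
import Cfsg.Agent.Loc.CA1
import Cfsg.Agent.Invol.BaerSuzuki
import Cfsg.Agent.Invol.Dihedral
import Cfsg.Agent.Classical.SL25
set_option autoImplicit false
set_option linter.unusedSectionVars false

namespace CF.CAx
open Subgroup Cfsg CF.BG CF.Sig CF.KG CF.Ab2
open scoped commutatorElement

variable {G X : Type*} [Group G] [Finite G] [Group X] [Finite X]
variable {A D H K L M N P Q R S T W : Subgroup G} {a b c g i t u v w x y z : G} {m n p q r : ℕ}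
variable {f : G →* X}

/-- a minimal noncentral normal `p`-subgroup -/
structure Mc (p : ℕ) (Q : Subgroup G) : Prop extends SC G where
  pi : PiGrp {p} Q
  nrm : Q ⊴ ⊤
  nc : ¬ Q ≤ 𝒵
  min : ∀ R, R ⊴ ⊤ → R < Q → R ≤ 𝒵

theorem comm_mem (h : b ∈ 𝐍 H) (ha : a ∈ H) : ⁅a, b⁆ ∈ H :=
  comm_le_left (zpowers_le.2 h) (commutator_mem_commutator ha (mem_zpowers b))

theorem cent_cm : 𝐂 Q ≤ centMod Q 𝒵 :=
  le_centMod.2 ⟨le_top.trans zn.norm, (comm_eq_bot.2 le_rfl).le.trans bot_le⟩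

theorem exists_inverted (ht : t * t = 1) (h : ¬ IsPGroup 2 (normalClosure ({t} : Set G))) :
    ∃ y : G, y ≠ 1 ∧ Eo y ∧ t * y * t⁻¹ = y⁻¹ := by
  haveI : Fact (Nat.Prime 2) := ⟨p2⟩
  by_contra n
  refine h (Invol.baer_suzuki_elem fun g => ?_)
  have hs : g * t * g⁻¹ * (g * t * g⁻¹) = 1 := by rw [← pow_two, conj_pow, pow_two, ht]; group
  generalize g * t * g⁻¹ = s at hs
  obtain ⟨a, b, ha, hb, pa, pb, e⟩ := exists_piPart {2} (t * s)
  have i := Invol.left_inverts_mul ht hs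
  obtain rfl : b = 1 := by_contra fun k => n ⟨b, k, pb, Invol.inverts_of_mem_zpowers i hb⟩
  rw [mul_one] at e
  refine ((((e ▸ pa : E2 (t * s)).zpowers.sup (piElt_of_pow_eq_one (x := t) p2 (by rwa [sq])).zpowers (.inr
    (zpowers_le.2 (mem_norm_of_cj_le (by
      rw [cj_zpowers, i]; exact zpowers_le.2 (inv_mem (mem_zpowers _))))))).le ?_).isPGroup)
  have m : t ∈ zpowers (t * s) ⊔ zpowers t := mem_sup_right (mem_zpowers t)
  rw [closure_le]
  rintro _ (rfl | rfl)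
  · exact m
  · exact (mul_mem_cancel_left m).1 (mem_sup_left (mem_zpowers _))

theorem card_le_four (φ : G → Prop × Prop) (h : ∀ u ∈ Q, ∀ v ∈ Q, φ u = φ v → f u = f v) :
    ♯(Q.map f) ≤ 4 := by
  classical
  choose s hs e using fun v : Q.map f => v.2
  have := Nat.card_le_card_of_injective (fun u => φ (s u)) fun u v k =>
    Subtype.ext (e u ▸ e v ▸ h _ (hs u) _ (hs v) k)
  simpa using this

theorem of_sq (o : Eo w) (h : w * w ∈ K) : w ∈ K :=
  zpowers_le.2 (sq w ▸ h) (mem_zpowers_pow_iff.2 (Nat.coprime_two_left.2 (eo_iff.2 o)))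

namespace Mc
variable (h : Mc p Q)
include h

theorem ne : Q ≠ ⊥ := fun e => h.nc (e ▸ bot_le)

theorem nn (H : Subgroup G) : H ≤ 𝐍 Q := le_top.trans h.nrm.norm

theorem der : ⁅Q, Q⁆ ≤ 𝒵 := h.min _ h.nrm.der (h.pi.sol.der_lt h.ne)

theorem pw (hx : x ∈ Q) : x ^ p ∈ 𝒵 := h.min _ h.nrm.Phi (Phi_lt h.ne) (h.pi.pow_mem_Phi hx)

theorem nC : centMod Q 𝒵 ⊴ ⊤ := ⟨le_top, norm_centMod h.nrm.norm zn.norm⟩

theorem leC : Q ≤ centMod Q 𝒵 := le_centMod.2 ⟨le_top.trans zn.norm, h.der⟩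

theorem solC : Sol (centMod Q 𝒵) := Res_eq_bot.1 (by_contra fun e => h.nc
  ((cent_of_perfect (Res_perfect _) ((commutator_comm_le _ _).trans (((commutator_mono (Res_le _)
    le_rfl).trans (comm_centMod_le _ _)).trans (zle _)))).trans (h.cent_le (Res_normal' h.nC) (Res_perfect _) e)))

theorem star (hH : CA H) (l : Q ≤ H) (hw : w ∈ H) (o : PiElt {p}ᶜ w) (n : w ∉ 𝐂 Q) (hy : y ∈ Q)
    (e : w * y = y * w) : H ≤ 𝐂₁ y := hH.le (l hy) fun a => n (zpowers_le.1 (by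
  have c : zpowers w ≤ 𝐂 (zpowers y) := cent_zpowers y ▸ zpowers_le.2 (mem_cent1.2 e)
  refine cent_of_comm_le_cent (h.nn _) (o.zpowers.coprime' h.pi) (a.cent (le_inf
    ((comm_le_left (h.nn _)).trans l) ?_) (le_inf (zpowers_le.2 hw) (cent_zpowers y ▸ c)))
  rw [← cent_zpowers, ← comm_eq_bot]
  exact commutator_commutator_eq_bot_of_rotate (by rw [comm_eq_bot.2 c, commutator_bot_left])
    (comm_eq_bot.2 ((commutator_mono (zpowers_le.2 hy) le_rfl).trans (h.der.trans (zle _))))))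

theorem two : p = 2 := by_contra fun p2 => by
  obtain ⟨T, s⟩ := BG.exists_syl 2 (⊤ : Subgroup G)
  have hH := h.cs (h.pi.sol.sup' s.pi.sol (h.nn T))
  have q' : Od Q := h.pi.of_single_ne p2
  have nT : T ≤ 𝐍 (T ⊓ 𝐂 Q) := (normalIn_inf_cent (h.nn T)).norm
  have nQ : Q ≤ 𝐍 (T ⊓ 𝐂 Q) := norm_of_le_center inf_le_right
  have i0 : T ⊓ 𝐂 Q ⊓ Q = ⊥ := s.pi.inf_left.inf_eq_bot q'
  set U := T ⊓ 𝐂 Q
  have pT := s.pi.qt U
  have key : ∀ A ≤ qt U T, Abel A → Cyc A := fun A l a => by_contra fun nc => by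
    have := a.le_of_cent1 (L := 𝐂 (qt U T)) nc (l.trans (qt_norm U (h.nn T)))
      (cop2 (pT.le l) (q'.qt U)) fun x hx x1 y ⟨hy', e⟩ => by
        obtain ⟨t, ht, nt, rfl⟩ := mem_qt.1 (l hx)
        obtain ⟨y, hy, ny, rfl⟩ := mem_qt.1 hy'
        have m : ⁅y, t⁆ = 1 := eq_one_of_mem_bot i0 ⟨(qe_eq_one (comm_mem (le_norm_self _ nt) ny)).1
          (by rw [qe_comm ny nt]; exact commutatorElement_eq_one_iff_mul_comm.2 (mem_cent1.1 e)),
          comm_mem (h.nn _ (mem_zpowers t)) hy⟩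
        have := h.star hH le_sup_left (mem_sup_right ht) ((s.pi.elt ht).to_compl_single p2)
          (fun k => x1 (qe_of_mem ⟨ht, k⟩)) hy (commutatorElement_eq_one_iff_mul_comm.1 m).symm
        exact qt_cent U (zpowers_le.2 (le_cent1_iff.1 (le_sup_right.trans this)))
          (qe_mem_qt (mem_zpowers y) ny)
    have e : T ≤ 𝐂 Q := comm_eq_bot'.1 (eq_bot_mono i0 (le_inf ((qt_cent_iff nQ nT).1 this)
      (comm_le_left (h.nn T))))
    exact nc (eq_bot_mono (qt_of_le (le_inf le_rfl e)) l ▸ cyc_bot)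
  have aux : ∀ a ∈ qt U T, a * a = 1 → a ∈ 𝐂 (qt U T) := fun a ha e => by
    by_cases a1 : a = 1
    · exact a1 ▸ one_mem _
    have l : zpowers a ⊔ 𝐙 (qt U T) ≤ qt U T := sup_le (zpowers_le.2 ha) inf_le_left
    exact (le_of_prime_of_inf_ne_bot (by
      rw [Nat.card_zpowers, orderOf_eq_prime (by rwa [sq]) a1]; exact Nat.prime_two) ((key _ l ((abel_zpowers a).sup
        (center_abel _) (cent_symm (inf_le_right.trans (cent_anti (zpowers_le.2 ha)))))).inf_ne_bot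
        (pT.le l) le_sup_left le_sup_right (ne_bot_of_mem (mem_zpowers a) a1)
        (pT.center_ne_bot (ne_bot_of_mem ha a1))) (mem_zpowers a)).2
  obtain ⟨x, hx, l⟩ := (cyc_qt_iff nT).1 (key _ le_rfl (abel_of_forall fun a ha' b hb' => by
    by_cases ea : a * a = 1
    · exact (mem_cent.1 (aux a ha' ea) b hb').symm
    by_cases eb : b * b = 1
    · exact mem_cent.1 (aux b hb' eb) a ha'
    obtain ⟨a, ha, na, rfl⟩ := mem_qt.1 ha'
    obtain ⟨b, hb, nb, rfl⟩ := mem_qt.1 hb'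
    have k : ∀ {a}, a ∈ T → qe U a * qe U a ≠ 1 → a * a ∉ 𝐂 (Q ⊔ T) := fun ha e m => e (by
      rw [← qe_mul (nT ha) (nT ha)]; exact qe_of_mem ⟨mul_mem ha ha, cent_anti le_sup_left m⟩)
    rw [← qe_mul na nb, ← qe_mul nb na, hH.two le_sup_right s.pi ha hb (k ha ea) (k hb eb)]))
  exact h.ns (h.solC.of_qt h.nC.norm (GW.sol_of_npc (GW.npc_of_cyc (s.qt h.nC.norm)
    ((cyc_qt_iff (le_top.trans h.nC.norm)).2 ⟨x, hx, l.trans (sup_le_sup_right
      (inf_le_right.trans cent_cm) _)⟩))))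

theorem O_bot (k : f.ker = centMod Q 𝒵) {N : Subgroup X} (n : N ⊴ ⊤) (hf : Function.Surjective f)
    (o : PiGrp {p} N) : N = ⊥ := by
  obtain ⟨S, s⟩ := BG.exists_syl p (N.comap f)
  have eN := map_comap_eq_self_of_surjective hf N
  have e : S ⊔ centMod Q 𝒵 = N.comap f := by
    rw [← k, ← comap_map_eq, (eN ▸ s.map f :).eq_of_pi o]
  have nN : N.comap f ⊴ ⊤ := normalIn_top.2 ((normalIn_top.1 n).comap f)
  have nz : ∀ H : Subgroup G, H ≤ 𝐍 𝒵 := fun H => le_top.trans zn.norm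
  obtain ⟨_, ⟨hy', c⟩, y1⟩ := exists_mem_ne_one ((s.pi.qt 𝒵).inf_cent_ne_bot (h.pi.qt 𝒵)
    (qt_norm _ (h.nn S)) (mt (qt_eq_bot (nz Q)).1 h.nc))
  obtain ⟨y, hy, ny, rfl⟩ := mem_qt.1 hy'
  have m : zpowers y ≤ centMod (N.comap f) 𝒵 := le_centMod.2 ⟨nz _, e ▸ comm_sup_le'
    ((qt_cent_iff (nz _) (nz _)).1 (qt_zpowers ny ▸ zpowers_le.2 c)) ((commutator_comm_le _ _).trans
      ((commutator_mono le_rfl (zpowers_le.2 hy)).trans (comm_centMod_le _ _))) (nz _) (nz _)⟩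
  have := (inf_le_left : Q ⊓ centMod (N.comap f) 𝒵 ≤ Q).eq_or_lt.resolve_right fun l => y1 (qe_of_mem
    (h.min _ (h.nrm.inf ⟨le_top, norm_centMod nN.norm zn.norm⟩) l ⟨hy, m (mem_zpowers y)⟩))
  rw [← eN, Subgroup.map_eq_bot_iff, k]
  exact le_centMod.2 ⟨nz _, (commutator_comm_le _ _).trans (le_centMod.1 (inf_eq_left.1 this)).2⟩

theorem dih : ∃ H W i w, Sol H ∧ Q ≤ H ∧ W ≤ H ∧ Od W ∧ i ∈ H ∧ E2 i ∧ i ∈ 𝐍 W ∧ w ∈ W ∧
    w ∉ centMod Q 𝒵 ∧ i⁻¹ * w * i * w ∈ centMod Q 𝒵 := by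
  obtain rfl := h.two
  obtain ⟨f, hf, k⟩ := exists_quot h.nC
  have ns : ¬ Sol ((⊤ : Subgroup G).map f) := mt (sol_of_map (k.symm ▸ h.solC)) h.ns
  obtain ⟨t, -, o⟩ := exists_mem_orderOf_eq p2 (by_contra fun d => ns (od_sol ((piNat_compl_single p2).2 d)))
  have t2 : t * t = 1 := by rw [← sq, ← o, pow_orderOf_eq_one]
  obtain ⟨y, y1, oy, e⟩ := exists_inverted t2 fun k' => by
    have := eq_one_of_mem_bot (h.O_bot k (normalIn_top.2 inferInstance) hf (piGrp_of_isPGroup p2 k'))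
      (subset_normalClosure rfl)
    simp [this] at o
  have n : zpowers t ≤ 𝐍 (zpowers y) := zpowers_le.2 (mem_norm_of_cj_le (by
    rw [cj_zpowers, e]; exact zpowers_le.2 (inv_mem (mem_zpowers _))))
  have s : ∀ {D}, Sol D → Sol (D.comap f) := fun s => sol_of_map (k.symm ▸ h.solC) (s.mono (map_comap_le _ _))
  have l : ∀ D, centMod Q 𝒵 ≤ comap f D := fun D => k.ge.trans (ker_le_comap f D)
  obtain ⟨W, hW⟩ := (s (cyc_zpowers y).sol).exists_hall {2}ᶜ
  have eW := (map_comap_eq_self_of_surjective hf (zpowers y) ▸ hW.map f).eq_of_pi oy.zpowers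
  have nK : (zpowers y).comap f ⊴ (zpowers y ⊔ zpowers t).comap f :=
    ⟨comap_mono le_sup_left, (comap_mono (normalIn_sup_left n).norm).trans (le_normalizer_comap f)⟩
  obtain ⟨j, rfl⟩ := hf t
  obtain ⟨a, ha, b, hb, rfl⟩ := hW.frattini (s (cyc_zpowers y).sol) nK
    (x := j) (mem_sup_right (mem_zpowers _))
  obtain ⟨w, hw, rfl⟩ := eW.ge (mem_zpowers y)
  obtain ⟨i, j, hi, hj, pi, pj, rfl⟩ := exists_piPart {2} b
  have ia := Invol.inverts_of_mem_zpowers e (inv_mem ha : (f a)⁻¹ ∈ _)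
  have e2 : f (i * j) * f (i * j) = 1 := by
    have := Invol.mul_mul_self_of_inverts t2 ia
    rw [← conj_eq_one_iff (a := f a), ← this, map_mul f a]
    group
  have j1 : f j = 1 := ((piElt_of_pow_eq_one p2 (by rwa [sq])).of_mem_zpowers
    (f.map_zpowers _ ▸ mem_map_of_mem f hj)).eq_one (pj.map f)
  refine ⟨_, W, i, w, s ((cyc_zpowers _).sol.sup' (cyc_zpowers _).sol n), h.leC.trans (l _),
    hW.le.trans nK.le, hW.pi, zpowers_le.2 hb.1 hi, pi, zpowers_le.2 hb.2 hi, hw, k ▸ y1, ?_⟩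
  have c := (abel_zpowers (f w)).mul_comm ha (mem_zpowers _)
  rw [map_mul, map_mul, j1, mul_one] at e
  rw [← k, MonoidHom.mem_ker, map_mul, map_mul, map_mul, map_inv, ← conj_eq_one_iff (a := f a * f i),
    show f a * f i * ((f i)⁻¹ * f w * f i * f w) * (f a * f i)⁻¹ =
      f a * f w * (f a)⁻¹ * (f a * f i * f w * (f a * f i)⁻¹) by group, e, c]
  group

theorem not_abel : ¬ Abel Q := fun ab => by
  obtain ⟨H, W, i, w, s, l, lW, o, hi, pi, n, hw, nw, e⟩ := h.dih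
  obtain rfl := h.two
  have d := ab.comm_inf_cent (h.nn W) (cop2' o h.pi)
  have lU := comm_le_left (h.nn W)
  obtain ⟨y, ⟨hy, c⟩, y1⟩ := exists_mem_ne_one (pi.zpowers.inf_cent_ne_bot (h.pi.le lU)
    (norm_commutator (h.nn _) (zpowers_le.2 n)) fun k => nw (cent_cm (comm_eq_bot'.1 k hw)))
  have := h.cs s y (l (lU hy)) fun k => y1 (eq_one_of_mem_bot d ⟨hy, cent_anti lW k⟩)
  have m : i ∈ centMod Q 𝒵 := cent_cm (this.cent (le_inf (zpowers_le.2 hi) (le_cent1_iff.2 c))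
    (le_inf l (le_cent1_iff.2 (ab (lU hy)))) (mem_zpowers i))
  have := mul_mem (inv_mem (mul_mem (inv_mem m) (h.nC.conj_mem (g := w) trivial m))) e
  exact nw (of_sq (o.elt hw) (by convert this using 1; group))

theorem false : False := by
  obtain ⟨H, W, i, w, s, l, lW, o, hi, pi, n, hw, nw, e⟩ := h.dih
  obtain rfl := h.two
  obtain ⟨f, hf, k⟩ := exists_quot (zn (G := G))
  have zq : ∀ y ∈ Q, y ∈ 𝐂 Q → y ∈ 𝒵 := fun y a b =>
    h.min _ (h.nrm.char inf_le_left (norm_center Q)) (lt_of_le_of_ne inf_le_left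
      fun e => h.not_abel (e ▸ center_abel Q)) ⟨a, b⟩
  have cm : ∀ {a u}, a ∈ centMod Q 𝒵 → u ∈ Q → f a * f u = f u * f a := fun a u =>
    (fc k).2 ((mem_centMod.1 a).2 _ u)
  have sq : ∀ {u}, u ∈ Q → f u * f u = 1 := fun u => by rw [← map_mul, ← pow_two]; exact k.ge (h.pw u)
  have key : ∀ i ∈ H, E2 i → ∀ u ∈ Q, ∀ v ∈ Q, (i * u * (i * u) ∈ 𝐂 H ↔ i * v * (i * v) ∈ 𝐂 H) →
      f i * f (u * v) = f (u * v) * f i := fun i hi pi u hu v hv e => by
    have cu := h.nrm.conj_mem' (g := i) trivial hu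
    have cv := h.nrm.conj_mem' (g := i) trivial hv
    suffices f (i⁻¹ * u * i) * f v = f (i⁻¹ * v * i) * f u ∨
        f (i⁻¹ * u * i) * f u = f (i⁻¹ * v * i) * f v by
      have e1 := sq cu
      have e2 := sq cv
      have e3 := sq hu
      have e4 := sq hv
      have c1 := cm (h.leC hu) hv
      have c2 := cm (h.leC cv) hu
      have c3 := cm (h.leC cv) hv
      have : f (i⁻¹ * u * i) * f (i⁻¹ * v * i) = f u * f v := by
        generalize f (i⁻¹ * u * i) = a at *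
        generalize f (i⁻¹ * v * i) = b at *
        rcases this with k | k
        · rw [eq_mul_inv_of_mul_eq k, inv_eq_of_mul_eq_one_right e4, c2, mul_assoc, mul_assoc, ← c3,
            ← mul_assoc b, e2, one_mul]
        · rw [eq_mul_inv_of_mul_eq k, inv_eq_of_mul_eq_one_right e3, mul_assoc b, mul_assoc b, mul_assoc,
            ← c2, ← mul_assoc (f v), ← c3, ← mul_assoc, ← mul_assoc, e2, one_mul, c1]
      rw [← map_mul, ← map_mul, show i⁻¹ * u * i * (i⁻¹ * v * i) = i⁻¹ * (u * v) * i by group, map_mul,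
        map_mul, map_inv, mul_assoc, inv_mul_eq_iff_eq_mul] at this
      exact this.symm
    by_cases k' : i * u * (i * u) ∈ 𝐂 H
    · right
      have m := mul_mem (inv_mem k') (e.1 k')
      rw [show (i * u * (i * u))⁻¹ * (i * v * (i * v)) = (i⁻¹ * u * i * u)⁻¹ * (i⁻¹ * v * i * v) by group] at m
      have : f _ = 1 := k.ge (zq _ (mul_mem (inv_mem (mul_mem cu hu)) (mul_mem cv hv)) (cent_anti l m))
      rwa [map_mul, map_inv, inv_mul_eq_one, map_mul, map_mul f _ v] at this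
    · left
      have m : ∀ {u}, u ∈ Q → i * u ∈ zpowers i ⊔ Q := fun u =>
        mul_mem (mem_sup_left (mem_zpowers i)) (mem_sup_right u)
      have := (h.cs s).two (sup_le (zpowers_le.2 hi) l) (pi.zpowers.sup h.pi (.inl (h.nn _))) (m hu) (m hv) k'
        (mt e.2 k')
      rw [← map_mul, ← map_mul, show i⁻¹ * u * i * v = i⁻¹ * i⁻¹ * (i * u * (i * v)) by group, this]
      group
  have hw' := lW hw
  have c4 := card_le_four (f := f) (Q := Q) (fun u => (i * u * (i * u) ∈ 𝐂 H,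
      w * i * w⁻¹ * u * (w * i * w⁻¹ * u) ∈ 𝐂 H)) fun u hu v hv k' => by
    have m := mul_mem hu hv
    have e1 := mem_cent1.2 (key i hi pi u hu v hv (congrArg Prod.fst k').to_iff)
    have e2 := mem_cent1.2 (key _ (mul_mem (mul_mem hw' hi) (inv_mem hw')) (pi.conj w) u hu v hv
      (congrArg Prod.snd k').to_iff)
    have e3 := mul_mem (inv_mem (mul_mem (inv_mem e1) e2)) (mem_cent1.2 (cm e m))
    rw [← map_inv, ← map_mul, ← map_inv, ← map_mul, show (i⁻¹ * (w * i * w⁻¹))⁻¹ * (i⁻¹ * w * i * w) =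
      w * w by group] at e3
    have o' := o.elt hw
    have : f _ = 1 := k.ge (zq _ m (le_cent1_iff.1 (l.trans (h.star (h.cs s) l hw' o' (fun k => nw (cent_cm k)) m
      (mem_cent1.1 (of_sq o' (mem_cent1.2 (rc ((fc k).1 (mem_cent1.1 e3))
        ((o'.mul o' rfl).coprime' (h.pi.elt m))))))))))
    rw [map_mul] at this
    exact mul_right_cancel (this.trans (sq hv).symm)
  have nV : (⊤ : Subgroup G).map f ≤ 𝐍 (Q.map f) := map_norm h.nrm.norm f
  refine h.ns (sol_of_map (k.symm ▸ (center_abel ⊤).sol.mono (le_inf le_top le_rfl))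
    (Sol.of_qt (K := 𝐂 (Q.map f)) ?_ (norm_cent nV) (Classical.isSolvable_of_card_lt_sixty _ ?_ _ rfl)))
  · refine (h.solC.map f).mono fun x hx => ?_
    obtain ⟨x, rfl⟩ := hf x
    exact mem_map_of_mem f (mem_centMod.2 ⟨zn.norm trivial, fun u hu =>
      (fc k).1 (mem_cent.1 hx _ (mem_map_of_mem f hu)).symm⟩)
  · classical
    letI := Fintype.ofFinite (Q.map f)
    have := (Nat.le_of_dvd Nat.card_pos (relIndex_cent_dvd_card_aut nV)).trans
      (Nat.card_le_card_of_injective _ (MulEquiv.toEquiv_injective (α := Q.map f) (β := Q.map f)))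
    rw [Nat.card_eq_fintype_card (α := _ ≃ _), Fintype.card_perm, ← Nat.card_eq_fintype_card] at this
    rw [card_qt (norm_cent nV)]
    exact (this.trans (Nat.factorial_le c4)).trans_lt (by decide)

end Mc

namespace SC
variable (h : SC G)
include h

theorem pi_le (n : N ⊴ ⊤) (k : PiGrp {p} N) : N ≤ 𝒵 := by_contra fun c => by
  obtain ⟨Q, l, ⟨a, b, d⟩, m⟩ := exists_minimal (P := fun Q => Q ⊴ ⊤ ∧ PiGrp {p} Q ∧ ¬ Q ≤ 𝒵) ⟨n, k, c⟩
  exact Mc.false ⟨h, b, a, d, fun R r l => by_contra fun e => l.ne (m R ⟨r, b.le l.le, e⟩ l.le)⟩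

theorem F_bot (hf : Function.Surjective f) (k : f.ker = 𝒵) : 𝐅 (⊤ : Subgroup X) = ⊥ := by
  refine le_bot_iff.1 (F_le_of_forall fun p _ _ => ?_)
  obtain ⟨S, s⟩ := BG.exists_syl p ((𝐎 {p} (⊤ : Subgroup X)).comap f)
  have e := (map_comap_eq_self_of_surjective hf _ ▸ s.map f :).eq_of_pi (O_pi _ _)
  have n : (𝐎 {p} (⊤ : Subgroup X)).comap f ⊴ ⊤ := normalIn_top.2 ((normalIn_top.1 (O_normal _ _)).comap f)
  rw [← e, le_bot_iff, Subgroup.map_eq_bot_iff, k]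
  refine h.pi_le (n.char s.le (s.norm_le_norm ?_)) s.pi
  rw [← e, comap_map_eq, k]
  exact sup_le (le_norm_self S) (norm_of_cent (zle S))

theorem sol_bot (hf : Function.Surjective f) (k : f.ker = 𝒵) {N : Subgroup X} (n : N ⊴ ⊤) (s : Sol N) :
    N = ⊥ := by_contra fun e => s.inf_F_ne_bot n e (by rw [h.F_bot hf k, inf_bot_eq])

theorem sol_le (n : N ⊴ ⊤) (s : Sol N) : N ≤ 𝒵 := by
  obtain ⟨f, hf, k⟩ := exists_quot (zn (G := G))
  exact k ▸ (Subgroup.map_eq_bot_iff _).1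
    (h.sol_bot hf k (map_top_of_surjective f hf ▸ n.map f) (s.map f))

theorem can (s : Sol P) (hx : x ∈ P) (n : x ∉ 𝒵) : CA (𝐍 P) :=
  h.ca _ fun e => n (h.sol_le ⟨le_top, e.ge⟩ s hx)

end SC

end CF.CAx
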