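import Cfsg.Agent.Loc.GC9
import Cfsg.Agent.Transfer.Residual

/-! Global `C*(G,T)`: the Sylow subgroup in the presence of two rank one groups over `J = AB`. -/

set_option autoImplicit false
set_option linter.unusedSectionVars false

namespace CF.Cl2
open Subgroup Cfsg CF.BG CF.Sig CF.GW CF.Ab2
open CF.FF (NatOn IsB)
open CF.Loc (IsSyl IsCharP)
open CF.GC (LC Hn)
open scoped commutatorElement MatrixGroups

universe u
variable {G : Type u} [Group G] [Finite G]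
variable {A B D E H J K L M N P Q R S T U V W X Y Z : Subgroup G} {a b d e f g k l n s t u v w x y z : G}
variable {F : Type} [Field F] [Fintype F] {ρ ρ' : G → SL(2, F)} {ψ ψ' : G → Fin 2 → F}

theorem le_der_of_res (r : pResidual 2 G = ⊤) (k : P2 S) : S ≤ ⁅(⊤ : Subgroup G), ⊤⁆ := fun s hs => by
  let K : Subgroup G := ⟨⟨⟨{g | PiElt {2}ᶜ (Abelianization.of g)}, fun a b => by
    simpa using PiElt.mul a b (mul_comm _ _)⟩, by simpa using piElt_one _⟩, fun a => by simpa using PiElt.inv a⟩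
  have : s ∈ K := r.ge.trans (Transfer.pResidual_le_iff'.2 fun x hx =>
    PiElt.map ((piNat_compl_single_iff_coprime Ab2.p2).2 hx) _) trivial
  exact (QuotientGroup.eq_one_iff s).1 (((k.elt hs).map Abelianization.of).eq_one this)

theorem Nd.der_lin (h : Nd F A B J L ρ ψ) : ⁅𝐍 A ⊓ 𝐍 B, 𝐍 A ⊓ 𝐍 B⁆ ≤ Lin A B ψ := commutator_le.2 fun a ha b hb => by
  obtain ⟨σ, s, -⟩ := h.sl ha
  obtain ⟨τ, t, -⟩ := h.sl hb
  have := CF.Chev.isCyclic_ringAut (F := F)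
  have := ((s.mul t).mul s.inv).mul t.inv
  rwa [mul_comm' σ, mul_inv_cancel_right, mul_inv_cancel] at this

theorem Nd.idx4 (h : Nd F A B J L ρ ψ) (q : Nat.card F = 4) (k : P2 S) (l : S ≤ 𝐍 A ⊓ 𝐍 B) : J.relIndex S ≤ 2 := by
  have : ∀ a ∈ S, a * a ∈ J := fun a ha => by
    obtain ⟨σ, s, -⟩ := h.sl (l ha)
    have : σ * σ = 1 := RingEquiv.ext (sq4 (by simpa using q) (map_add σ) (by simp) one_ne_zero (map_one σ))
    exact h.lin (show Sl A B ψ _ 1 from this ▸ s.mul s) (k.elt (mul_mem ha ha))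
  exact idx_le_two fun a ha b hb => h.r1 (l ha) (l hb) (this a ha) (this b hb) (k.elt ha) (k.elt hb)
    (k.elt (mul_mem ha hb))

namespace Bd
variable (h : Bd F A B J L M ρ ψ ρ' ψ')
include h

theorem bk (n1 : A ⊓ 𝐂 L = ⊥) : Bk F A B J L M ρ ψ ρ' ψ' :=
  have n2 : B ⊓ 𝐂 M = ⊥ := by_contra fun c => h.symm.n2 c n1
  ⟨⟨h.na.toNt, fun _ => h.na.ka, fun a ha c => eq_one_of_mem_bot n1 (mi ha c), h.na.q,
    h.na.nA⟩, ⟨h.nb.toNt, fun _ => h.nb.ka, fun a ha c => eq_one_of_mem_bot n2 (mi ha c), h.na.q, h.nb.nA⟩,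
    fun x a _ => eq_one_of_mem_bot n1 (mi (h.na.cA' (cent_anti h.na.aL a)) a), h.c2⟩

theorem z4 (q : 4 < Nat.card F) : 4 < ♯(A ⊓ B) := by nlinarith [h.na.cC, card_pos' (A ⊓ 𝐂 L)]

theorem ns (q : 4 < Nat.card F) : 𝐍 J ≤ 𝐍 A ⊓ 𝐍 B := fun x nx => (h.perm nx).resolve_right fun s => by
  refine h.false (fun z hz a b => ?_) (h.z4 q) s nx
  by_cases n1 : A ⊓ 𝐂 L = ⊥
  · exact (h.bk n1).cent q hz fun e => a (e ▸ one_mem _)
  · exact h.cent n1 s nx hz a b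

theorem nJA (hz : z ∈ A ⊓ B) (zL : z ∉ 𝐂 L) (c : g ∈ 𝐂₁ z) (n : g ∈ 𝐍 A) : g ∈ 𝐍 J := h.nJ_of fun l hl => by
  have m := cj_le_of_norm (h.na.nA n) h.na.sL hl
  have c' : l ∈ 𝐂₁ z := cj_le_of_mem c (h.na.cZ.trans (cent_le_cent1 hz)) hl
  exact (h.na.nJ m).2 ((h.na.norm_iff m).1 (by_contra fun k => zL (h.na.opp m (h.na.lN m) k hz (by
    rw [mem_cent1.1 c', mul_inv_cancel_right]; exact hz.2))))

variable (ns : 𝐍 J ≤ 𝐍 A ⊓ 𝐍 B)
include ns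

theorem wc (l : cj g A ≤ 𝐍 J) : g ∈ 𝐍 A :=
  (h.na.le_or' (h.big l (fun _ => ab_sq (h.na.ea.cj g)) (by simp)) (h.na.ea.cj g)).elim mem_norm_of_cj_le fun k => by
    have e := eq_of_le_of_card_ge k (by simp [h.na.cAB])
    obtain ⟨m, hm, o⟩ := h.nb.exN (h.na.syl.pi.cj g) (by rw [← e, ← cj_norm]; exact cj_mono g h.na.nA')
    rw [cj_cj] at o
    have := cj_of_norm (ns (h.nJ_of o)).1
    rw [← cj_cj, e, cj_of_norm (h.nb.lN hm)] at this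
    exact (h.na.nab this.ge).elim

theorem hc0 (n1 : A ⊓ 𝐂 L ≠ ⊥) : ∃ a ∈ A ⊓ 𝐂 L, ∃ b ∈ B ⊓ 𝐂 M, a ≠ 1 ∧ b ≠ 1 ∧ 𝐂₁ (a * b) ≤ 𝐍 J := by
  obtain ⟨S, hS⟩ := BG.exists_syl 2 (𝐍 J)
  have l := hS.le.trans ns
  obtain ⟨a, ha, a1⟩ := exists_mem_ne_one (hS.pi.inf_cent_ne_bot h.na.ea.pi.inf_left ((l.trans inf_le_left).trans h.na.nD) n1)
  obtain ⟨b, hb, b1⟩ := exists_mem_ne_one (hS.pi.inf_cent_ne_bot h.nb.ea.pi.inf_left ((l.trans inf_le_right).trans h.nb.nD) (h.n2 n1))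
  refine ⟨a, ha.1, b, hb.1, a1, b1, ?_⟩
  have aZ := h.na.ZA_le ha.1
  have bZ := h.D2 hb.1
  have hz := mul_mem aZ bZ
  have zL : a * b ∉ 𝐂 L := fun c => b1 (h.dd b bZ ((mul_mem_cancel_left (mi2 ha.1)).1 c) hb.1.2)
  have zM : a * b ∉ 𝐂 M := fun c => a1 (h.dd a aZ ha.1.2 ((mul_mem_cancel_right (mi2 hb.1)).1 c))
  have c : S ≤ 𝐂₁ (a * b) := le_cent1_iff.2 (mul_mem ha.2 hb.2)
  have c2 := h.c2 _ (ab_iv h.na.ea hz.1 fun e => zL (e ▸ one_mem _))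
  have QS := ((h.syl hS).of_le c le_top).O_le
  have nQ := (O_normal {2} (𝐂₁ (a * b))).norm
  have kQ := O_pi {2} (𝐂₁ (a * b))
  have JH := (h.JS hS).trans c
  generalize a * b = z at *
  set Q := 𝐎 {2} (𝐂₁ z)
  have e := kQ.abelem_Om_center
  have n := nQ.trans ((norm_center Q).trans (norm_Om 2 _))
  have m : ∀ d ∈ A ⊓ B, d ∈ 𝐂 S → d ∈ 𝛀 2 (𝐙 Q) := fun d hd k =>
    mem_Om (mi (c2 (mi (JH (h.na.la hd.1)) (cent_anti QS k))) (cent_anti QS k)) (by rw [sq, h.na.sqa hd.1])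
  have lV := ((Om_le 2 (𝐙 Q)).trans (inf_le_left.trans QS)).trans l
  have ma := m a aZ ha.2
  have mb := m b bZ hb.2
  generalize 𝛀 2 (𝐙 Q) = V at *
  have cm : ∀ t ∈ V, ∀ s ∈ J, t * s * t⁻¹ * s⁻¹ ∈ V ⊓ J := fun t ht s hs => mi (mem_of_eq (mul_mem ht
    (conj_mem_of_norm (n (JH hs)) (inv_mem ht))) (by group)) (mul_mem (conj_mem_of_norm (h.na.nJ' (lV ht)) hs) (inv_mem hs))
  have VJ : V ≤ J := fun t ht => (h.na.le_or' inf_le_right (e.le (inf_le_left : V ⊓ J ≤ V))).elim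
    (fun k => h.nb.b3 (mi (lV ht).2 (lV ht).1) (e.pi.elt ht) fun s hs => k (cm t ht s (h.na.lb hs)))
    fun k => h.na.b3 (lV ht) (e.pi.elt ht) fun s hs => k (cm t ht s (h.na.la hs))
  have cV : 𝐂 V ≤ 𝐍 J := fun x hx => h.na.nJ' (mi (h.c1 ha.1 a1 (cent_le_cent1 ma hx)) (h.symm.c1 hb.1 b1 (cent_le_cent1 mb hx)))
  intro g hg
  have nC := norm_le_norm_cent V (n hg)
  rcases h.na.le_or' VJ e with k | k
  · exact h.nJA hz zL hg (h.wc ns ((cj_le_of_norm nC (h.na.ea.abel.trans (cent_anti k))).trans cV))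
  · exact h.symm.nJA (mi hz.2 hz.1) zM hg (h.symm.wc (inf_comm (𝐍 A) _ ▸ ns)
      ((cj_le_of_norm nC (h.nb.ea.abel.trans (cent_anti k))).trans cV))

theorem hc (q : 4 < Nat.card F) (z : G) (hz : z ∈ A ⊓ B) (zL : z ∉ 𝐂 L) (zM : z ∉ 𝐂 M) : 𝐂₁ z ≤ 𝐍 J := by
  by_cases n1 : A ⊓ 𝐂 L = ⊥
  · exact (h.bk n1).cent q hz fun e => zL (e ▸ one_mem _)
  obtain ⟨a', ha', b', hb', a1, b1, c⟩ := h.hc0 ns n1
  obtain ⟨a, ha, b, hb, rfl⟩ := h.spl n1 hz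
  obtain ⟨k, hk, rfl⟩ := h.trD ha' a1 ha fun e => zM (by simpa [e] using hb.2)
  obtain ⟨l, hl, rfl⟩ := h.symm.trD hb' b1 hb fun e => zL (by simpa [e] using ha.2)
  rw [show k * a' * k⁻¹ * (l * b' * l⁻¹) = l * k * (a' * b') * (l * k)⁻¹ by
    rw [cjm, ← conj_mul (b := k), mem_cent.1 hb'.2 k hk.1, mul_inv_cancel_right, ← conj_mul (b := l), mem_cent.1 ha.2 l hl.1,
      mul_inv_cancel_right], ← cj_cent1]
  exact cj_le_of_mem (mul_mem hl.2 hk.2) c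

theorem sc (q : 4 < Nat.card F) (hx : x ∈ J) (n : g * x * g⁻¹ ∈ 𝐍 J) : g * x * g⁻¹ ∈ J := by
  have hc := h.hc ns q
  by_cases e : x * x = 1
  · exact h.sc2 hc (h.z4 q) hx e n
  have e2 := (h.na.syl.pi.elt hx).conj g
  obtain ⟨a, ha, b, hb, rfl⟩ := h.na.mul x hx
  have na : a ∉ B := fun c => e (h.na.sqb (mul_mem c hb))
  have nb : b ∉ A := fun c => e (h.na.sqa (mul_mem ha c))
  have f : a * b * (a * b) = ⁅a, b⁆ := by rw [commutatorElement_def, ab_inv h.na.ea ha, ab_inv h.na.eb hb]; group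
  have m := h.na.comm_le (commutator_mem_commutator ha hb)
  have c := hc _ m (fun c => h.na.comm_not (h.na.lb hb) nb ha na (commutatorElement_inv a b ▸ inv_mem c))
    (h.nb.comm_not (h.na.la ha) na hb nb)
  have o : ∀ U, Abel U → g * ⁅a, b⁆ * g⁻¹ ∈ U → cj g⁻¹ U ≤ 𝐍 J := fun U k i =>
    le_trans (cj_le_iff.2 (by rw [inv_inv, cj_cent1]; exact k.trans (cent_le_cent1 i))) c
  rcases h.na.inv _ (h.sc1 hc (h.z4 q) m (by rw [← f, ← conj_mul]; exact mul_mem n n)) (sq_conj (h.na.sqa m.1) g) with k | k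
  · exact h.na.mem2 (conj_mem_of_norm (h.na.nA (inv_mem_iff.1 (h.wc ns (o A h.na.ea.abel k)))) (h.na.sL hx)) n e2
  · exact h.nb.mem2 (conj_mem_of_norm (h.nb.nA (inv_mem_iff.1 (h.symm.wc (inf_comm (𝐍 A) _ ▸ ns) (o B h.nb.ea.abel k))))
      (h.nb.sL hx)) n e2

omit ns in
theorem sylJ (r : pResidual 2 G = ⊤) (q : 4 < Nat.card F) : Syl 2 J ⊤ := by
  obtain ⟨S, hS⟩ := BG.exists_syl 2 (𝐍 J)
  have l : ⊤ ⊓ 𝐍 J ≤ 𝐍 A ⊓ 𝐍 B := inf_le_right.trans (h.ns q)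
  have f := (le_inf le_rfl (le_der_of_res r hS.pi)).trans ((SC2.foc (h.syl hS) (h.JS hS) fun x hx g _ m =>
    h.sc (h.ns q) q hx (hS.le m)).trans (sup_le h.na.J_lin ((commutator_mono l l).trans h.na.der_lin)))
  exact le_antisymm (fun x hx => h.na.lin (f hx) (hS.pi.elt hx)) (h.JS hS) ▸ h.syl hS

end Bd

namespace Dv
variable (h : Dv F T A B J L M ρ ψ ρ' ψ')
include h

theorem four (q : Nat.card F = 4) : ♯T ≤ 2 ^ 10 := by
  have b := h.bd (by omega)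
  obtain ⟨S, hS⟩ := BG.exists_syl 2 (𝐍 J)
  have c1 := card_le_mul (b.idxB hS.le) (inf_comm _ S).le
  have c2 := card_le_mul (b.na.idx4 q (hS.pi.inf_left (K := 𝐍 A ⊓ 𝐍 B)) inf_le_right) inf_le_left
  have c3 := h.na.cJ
  have c4 := h.na.cZ0
  have c5 := h.cD
  rw [h.syl.card_eq (b.syl hS)]
  rw [q] at c3 c4 c5
  omega

theorem two0 (q : Nat.card F = 2) (d : A ⊓ 𝐂 L = ⊥) :
    ((∃ m : ℕ, Nonempty (T ≃* DihedralGroup m)) ∨ IsQuasiDihedral T) ∨ ♯T ≤ 2 ^ 10 := by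
  have c1 := h.na.cZ0
  have c2 := h.na.card_A
  rw [← h.na.cardB] at c2
  rw [d, card_bot, q] at c1
  rw [q, c1] at c2
  obtain ⟨z, hz, z1⟩ := exists_mem_ne_one (h.syl.pi.inf_cent_ne_bot h.syl.pi (le_norm_self T) (ne_bot_mono h.na.ne (h.na.la.trans h.JT)))
  have zZ : z ∈ A ⊓ B := mi (h.na.cA' (cent_anti (h.na.la.trans h.JT) hz.2)) (h.nb.cA' (cent_anti (h.na.lb.trans h.JT) hz.2))
  have eZ : zpowers z = A ⊓ B := eq_of_le_of_card_ge (zpowers_le.2 zZ) (by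
    rw [c1, Nat.card_zpowers, show orderOf z = 2 from ab_iv h.na.ea zZ.1 z1])
  obtain ⟨x, hx, nx⟩ := h.na.exA
  have xT := h.JT (h.na.la hx)
  have i := ab_iv h.na.ea hx fun e => nx (e ▸ one_mem _)
  have hC : T ⊓ 𝐂₁ x = A := le_antisymm (fun t ht => h.na.cA' (le_cent1_iff.1 (inf_eq_left.1 (eq_of_le_of_card_ge inf_le_left
    (c2.le.trans (c1 ▸ two_mul_le (H := A ⊓ B) (le_inf inf_le_left (eZ ▸ zpowers_le.2 (cent_le_cent1 ht.1 hz.2))) fun k =>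
      nx (k (mi hx (mem_cent1.2 (mem_cent1.1 ht.2).symm))).2))))))
    (le_inf (h.na.la.trans h.JT) (h.na.ea.abel.trans (cent_le_cent1 hx)))
  have h1 : Nat.card (centralizer ({(⟨x, xT⟩ : T)} : Set T)) = 4 := by
    rw [← show 2 * (2 * 1) = 4 from rfl, ← c2, ← hC, ← CF.Solv.card_subgroupOf_of_le (H := T ⊓ 𝐂₁ x) (K := T) inf_le_left]
    congr 2
    ext g
    simp only [mem_centralizer_singleton_iff, mem_subgroupOf, mem_inf, SetLike.coe_mem, true_and]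
    exact ⟨fun h => congrArg Subtype.val h, fun h => Subtype.ext h⟩
  rcases two_group_cases_of_card_centralizer h.syl.pi.isPGroup ((orderOf_mk _ _).trans i) h1 with
    ⟨n, -, e⟩ | e | e
  · exact .inl (.inl ⟨_, e⟩)
  · exact .inl (.inr e)
  · exact .inr (by omega)

theorem two1 (q : Nat.card F = 2) (n1 : A ⊓ 𝐂 L ≠ ⊥) : ♯T ≤ 2 ^ 10 := by
  obtain ⟨d, hd, d1⟩ := exists_mem_ne_one n1
  have ca : T ⊓ 𝐂 (A ⊓ B) ≤ J := fun t ht => GC.isB_cent (h.na.ia _ (lc_c1 h.na.lc (ab_iv h.na.ea hd.1 d1)) (le_cent1_iff.2 hd.2))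
    (h.syl.pi.inf_left (K := 𝐂₁ d)).isPGroup (le_inf h.JT (h.na.cZ.trans (cent_le_cent1 (h.na.ZA_le hd)))) inf_le_right h.na.om
    (mi (mi ht.1 (cent_le_cent1 (h.na.ZA_le hd) ht.2)) ht.2)
  have c3 := h.na.cJ
  have c4 := h.na.cZ0
  have c5 := h.cD
  rw [q] at c3 c4 c5
  have k := h.syl.pi.inf_left (K := 𝐍 J)
  have pm : ∀ g ∈ 𝐍 J, g ∈ 𝐍 A ⊓ 𝐍 B ∨ Sw A B g := fun g hg => or_iff_not_imp_right.2 fun n =>
    have := by_contra fun c => n (h.na.sw hg c); mi this (h.na.nB' hg this)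
  have nZ : 𝐍 J ≤ 𝐍 (A ⊓ B) := fun g hg => mem_norm_of fun _ hz =>
    (pm g hg).elim (fun n => cZ_mem n hz) fun s => mi (s.symm.mem hz.2) (s.mem hz.1)
  have eZ := h.na.ea.le (inf_le_left : A ⊓ B ≤ A)
  obtain ⟨z, hz, z1⟩ := exists_mem_ne_one (k.inf_cent_ne_bot eZ.pi (inf_le_right.trans nZ) h.na.Z_ne)
  have cz : ♯(zpowers z) = 2 := (Nat.card_zpowers z).trans (ab_iv eZ hz.1 z1)
  have iz : (zpowers z).relIndex (A ⊓ B) ≤ 2 := idx_of_card (le_inf le_rfl (zpowers_le.2 hz.1)) (by omega)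
  have i : J.relIndex (T ⊓ 𝐍 J) ≤ 2 := by
    by_cases c : A ⊓ B ≤ zpowers z
    · exact (relIndex_eq_one.2 ((le_inf inf_le_left (cent_symm (c.trans (zpowers_le.2 hz.2)))).trans ca)).le.trans one_le_two
    obtain ⟨w, hw, nw⟩ := SetLike.not_le_iff_exists.1 c
    refine (SR.rel_l (K := 𝐂₁ w) (T ⊓ 𝐍 J) fun t ht => ca (mi ht.1.1 (le_cent1_iff.1 (inf_eq_left.1 (eq_of_le_of_card_ge inf_le_left ?_))))).trans
      ((SR.rel_cent (H := T ⊓ 𝐍 J) (X := zpowers z) fun s hs => mul_of_idx iz (conj_mem_of_norm (nZ hs.2) hw) (inv_mem hw)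
        (fun m => nw ?_) (mt inv_mem_iff.1 nw)).trans cz.le)
    · have := two_mul_le (H := zpowers z) (K := A ⊓ B ⊓ 𝐂₁ t) (zpowers_le.2 (mi hz.1 (cent_le_cent1 ht.1 hz.2))) fun k =>
        nw (k (mi hw (mem_cent1.2 (mem_cent1.1 ht.2).symm)))
      omega
    · exact mem_of_eq (conj_mem_of_norm' (cent1_le_norm_zp z (le_cent1_iff.2 hz.2 hs)) m) (by group)
  have e : T ⊓ 𝐍 J = T := h.syl.pi.nil.eq_of_inf_norm_le inf_le_left fun x hx => mi hx.1 (by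
    by_cases c : T ⊓ 𝐍 J ≤ 𝐍 A
    · exact h.na.isA.norm_le k.isPGroup (le_inf h.JT (le_norm_self J)) c hx.2
    obtain ⟨y, hy, ny⟩ := SetLike.not_le_iff_exists.1 c
    have lE := cj_le_of_norm hx.2 ((inf_le_left.trans h.na.la).trans (le_inf h.JT (le_norm_self J)) : A ⊓ B ≤ _)
    have nE : T ⊓ 𝐍 J ≤ 𝐍 (cj x (A ⊓ B)) := by
      rw [← cj_norm, ← cj_of_norm hx.2]; exact cj_mono x (inf_le_right.trans nZ)
    have eE := eZ.cj x
    have cE := card_cj x (A ⊓ B)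
    have fE : cj x (A ⊓ B) ≤ A ⊓ B → x ∈ 𝐍 J := fun o => by
      rw [← le_antisymm ca (le_inf h.JT h.na.cZ)]
      exact norm_inf_cent (zpowers_le.2 (le_norm_self T hx.1)) (zpowers_le.2 (mem_norm_of_cj_le o)) (mem_zpowers x)
    generalize cj x (A ⊓ B) = E at *
    refine fE ((h.na.sw hy.2 ny).le (nE hy) (h.na.le_or' (fun s hs => by_contra fun ns => ?_) eE))
    have sw := h.na.sw (lE hs).2 fun c => ny ((mul_mem_cancel_left c).1 (h.na.nA' (mul_of_idx i (lE hs) hy ns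
      fun c => ny (h.na.nA' c))))
    obtain ⟨a, ha, na⟩ := h.na.exA
    have m := sw.mem ha
    rcases h.na.inv _ (mul_mem (h.na.lb m) (inv_mem (h.na.la ha))) (ab_sq eE (mem_of_eq (mul_mem hs (conj_mem_of_norm
      (nE (mi (h.JT (h.na.la ha)) (le_norm_self J (h.na.la ha)))) (inv_mem hs))) (by group))) with o | o
    · exact na (mem_of_eq (sw.inv.mem ((mul_mem_cancel_right (inv_mem ha)).1 o)) (by group))
    · exact na (inv_mem_iff.1 ((mul_mem_cancel_left m).1 o)))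
  have := card_le_mul i inf_le_left
  rw [e] at this
  omega

theorem fin (r : pResidual 2 G = ⊤) : ((∃ m : ℕ, Nonempty (T ≃* DihedralGroup m)) ∨ IsQuasiDihedral T) ∨ ♯T ≤ 2 ^ 10 ∨
    (J = T ∧ 4 < Nat.card F) := by
  by_cases q : 2 < Nat.card F
  · rcases (h.nd q).q4.eq_or_lt with e | e
    · exact .inr (.inl (h.four e.symm))
    · exact .inr (.inr ⟨eq_of_le_of_card_ge h.JT (h.syl.card_eq ((h.bd q).sylJ r e)).le, e⟩)
  have q : Nat.card F = 2 := le_antisymm (by omega) Finite.one_lt_card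
  by_cases d : A ⊓ 𝐂 L = ⊥
  · exact (h.two0 q d).imp_right .inl
  · exact .inr (.inl (h.two1 q d))

end Dv

end CF.Cl2
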