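/-
Two blocks `L = A.SL₂(q)`, `M = B.SL₂(q)` with common Sylow 2-subgroup `J = AB` and possibly nontrivial centres.
-/
import Cfsg.Agent.Loc.PU1
set_option autoImplicit false
set_option linter.unusedSectionVars false

namespace CF.Cl2
open Subgroup Cfsg CF.BG CF.Sig CF.GW CF.Ab2
open CF.PLocal (upT)
open scoped commutatorElement MatrixGroups

universe u
variable {G : Type u} [Group G] [Finite G]
variable {A B D E H J K L M N P Q R S T U V W X Y Z : Subgroup G} {a b c d e g k l n s t u v w x y z : G}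
variable {F : Type} [Field F] [Fintype F] {ρ ρ' : G → SL(2, F)} {ψ ψ' : G → Fin 2 → F}

theorem dih_cent (a2 : a * a = 1) (b2 : b * b = 1) (h : ∀ g, g * a * g⁻¹ ≠ b) :
    ∃ w, w ≠ 1 ∧ w * w = 1 ∧ a * w = w * a ∧ b * w = w * b := by
  have ia := inv_eq_of_mul_eq_one_right a2
  have ib := inv_eq_of_mul_eq_one_right b2
  have j1 : ∀ k : ℕ, a * (b * a) ^ k * a⁻¹ = ((b * a) ^ k)⁻¹ := fun k => by
    rw [← conj_pow, ← inv_pow, mul_inv_rev, ia, ib, mul_assoc, mul_assoc, a2, mul_one]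
  have j2 : ∀ k : ℕ, b * (b * a) ^ k * b⁻¹ = ((b * a) ^ k)⁻¹ := fun k => by
    rw [← conj_pow, ← inv_pow, mul_inv_rev, ia, ib, ← mul_assoc, b2, one_mul]
  obtain ⟨k, e | e⟩ := Nat.even_or_odd' (orderOf (b * a))
  · have q : (b * a) ^ k * (b * a) ^ k = 1 := by rw [← pow_add, ← two_mul, ← e, pow_orderOf_eq_one]
    have := orderOf_pos (b * a)
    exact ⟨_, pow_ne_one_of_lt_orderOf (by omega) (by omega), q,
      mul_inv_eq_iff_eq_mul.1 ((j1 k).trans (inv_eq_of_mul_eq_one_right q)),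
      mul_inv_eq_iff_eq_mul.1 ((j2 k).trans (inv_eq_of_mul_eq_one_right q))⟩
  · refine (h ((b * a) ^ (k + 1)) ?_).elim
    rw [← j1, ← mul_assoc, ← mul_assoc, mul_assoc _ a a, a2, mul_one, ← pow_add,
      show k + 1 + (k + 1) = orderOf (b * a) + 1 by omega, pow_succ, pow_orderOf_eq_one, one_mul,
      mul_inv_cancel_right]

theorem Sw.two (s : Sw A B x) : ∃ y ∈ zpowers x, E2 y ∧ Sw A B y := by
  obtain ⟨u, v, hu, hv, pu, pv, e⟩ := exists_piPart {2} x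
  have n : v⁻¹ ∈ 𝐍 A ⊓ 𝐍 B := inv_mem (sq_mem_of_odd pv (by
    obtain ⟨k, rfl⟩ := hv
    exact mem_of_eq (zpow_mem (s.mul s) k) (by simp [(Commute.refl x).mul_zpow])))
  refine ⟨u, hu, pu, ?_⟩
  rw [eq_mul_inv_of_mul_eq e]
  exact ⟨by rw [← cj_cj, cj_of_norm n.1, s.1], by rw [← cj_cj, cj_of_norm n.2, s.2]⟩

/-- normal elementary abelian subgroups of an overgroup -/
theorem ne_le (k : P2 S) (l : T ≤ S) (la : A ⊓ B ≤ T) (o : ∀ E, E ⊴ T → (∀ x ∈ E, x * x = 1) → E ≤ A ∨ E ≤ B) (hy : y ∈ S)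
    (ny : y ∈ 𝐍 T) (s : Sw A B y) (f : ∀ g ∈ 𝐍 T, E2 g → (∀ t ∈ T, g * t * g⁻¹ * t⁻¹ ∈ A ⊓ B) → g ∈ T)
    (n : E ⊴ S) (e : ∀ x ∈ E, x * x = 1) : E ≤ A ⊓ B := by
  have c : E ⊓ T ≤ A ⊓ B := s.le (norm_inf (zpowers_le.2 (n.norm hy)) (zpowers_le.2 ny) (mem_zpowers y))
    (o _ ⟨inf_le_right, norm_inf (l.trans n.norm) (le_norm_self T)⟩ fun x hx => e x hx.1)
  refine (le_inf le_rfl (by_contra fun m => ?_)).trans c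
  obtain ⟨g, ⟨hg, ng⟩, m⟩ := SetLike.exists_of_lt (Nil.lt_inf_norm (k.le (sup_le l n.le : T ⊔ E ≤ S)).nil
    (lt_of_le_not_ge le_sup_left fun c => m (le_sup_right.trans c)))
  obtain ⟨a, ha, b, hb, rfl⟩ := (mem_sup_norm (l.trans n.norm)).1 hg
  have nb := (mul_mem_cancel_left (le_norm_self T ha)).1 ng
  exact m (mul_mem ha (f b nb (e2_of_sq (e b hb)) fun t ht => c (mi (mem_of_eq (mul_mem hb (conj_mem_of_norm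
    (n.norm (l ht)) (inv_mem hb))) (by group)) (mul_mem (conj_mem_of_norm nb ht) (inv_mem ht)))))

theorem sec_of_sw (k : P2 T) (la : A ⊓ B ≤ T) (o : ∀ E, E ⊴ T → (∀ x ∈ E, x * x = 1) → E ≤ A ∨ E ≤ B) (nx : x ∈ 𝐍 T)
    (s : Sw A B x) (f : ∀ g ∈ 𝐍 T, E2 g → (∀ t ∈ T, g * t * g⁻¹ * t⁻¹ ∈ A ⊓ B) → g ∈ T) (c : ♯(A ⊓ B) ≤ 4) :
    SectionalPRankLE 2 4 G := by
  obtain ⟨y, hy, ey, s⟩ := s.two
  have ny := zpowers_le.2 nx hy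
  obtain ⟨S, hS, l⟩ := exists_syl_le le_top (k.sup ey.zpowers (.inr (zpowers_le.2 ny)))
  exact SR.sec_of hS (SR.four_gen_thm hS.pi fun E n e => (card_le (ne_le hS.pi (le_sup_left.trans l) la o
    (l (mem_sup_right (mem_zpowers y))) ny s f n e)).trans c)

theorem Nd.gen (h : Nd F A B J L ρ ψ) (hw : w ∈ L) (n : w ∉ 𝐍 J) : L ≤ J ⊔ cj w J := fun x hx => by
  obtain ⟨b, hb, nb⟩ := h.exB
  have l : J ⊔ cj w J ≤ L := sup_le h.sL (cj_le_of_mem hw h.sL)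
  obtain ⟨k, hk, f⟩ := h.nat.surj_of_le l le_sup_left (mem_sup_right (conj_mem_cj.2 (h.lb hb)))
    (h.nat.ρ_conj_ne (h.lb hb) (fun c => nb (h.mem_of_cent (h.lb hb) c)) hw (mt (h.nJ hw).2 n)) (ρ x)
  refine (mul_mem_cancel_left (inv_mem hk)).1 (mem_sup_left (h.la (h.ka (mul_mem (inv_mem (l hk)) hx) ?_)))
  rw [h.ρmul (inv_mem (l hk)) hx, h.nat.ρinv (l hk), f, inv_mul_cancel]

theorem Nd.f4 (h : Nd F A B J L ρ ψ) (hg : g ∈ 𝐍 J) (e : E2 g) (c : ∀ t ∈ J, g * t * g⁻¹ * t⁻¹ ∈ A ⊓ B) : g ∈ J :=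
  h.b3 (mi (mem_norm_of fun a ha => mem_of_eq (mul_mem (c a (h.la ha)).1 ha) (by group))
    (mem_norm_of fun a ha => mem_of_eq (mul_mem (c a (h.lb ha)).2 ha) (by group))) e fun a ha => (c a (h.la ha)).2

theorem Nd.exN (h : Nd F A B J L ρ ψ) (k : P2 E) (l : E ≤ 𝐍 A) : ∃ g ∈ L, cj g E ≤ 𝐍 J := by
  obtain ⟨P, hP, m⟩ := exists_syl_le l k
  obtain ⟨g, hg, e⟩ := (hP.inf_normal ⟨h.lN, h.nA⟩).syl_conj h.syl
  exact ⟨g, hg, by rw [e, ← cj_norm]; exact cj_mono g (m.trans (norm_inf (le_norm_self P) (hP.le.trans h.nA)))⟩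

theorem Nd.cC (h : Nd F A B J L ρ ψ) : ♯(A ⊓ B) = Nat.card F * ♯(A ⊓ 𝐂 L) := by
  have := h.nat.card_V'
  rw [h.cA0, sq, mul_assoc] at this
  exact Nat.eq_of_mul_eq_mul_left Nat.card_pos this

theorem Nd.exC (h : Nd F A B J L ρ ψ) (ht : t ∈ 𝐍 A ⊓ 𝐍 B) (e : t * t = 1) (n : t ∉ J) : ∃ a ∈ A, a ∉ B ∧ a ∈ 𝐂₁ t := by
  obtain ⟨a, ha, m⟩ : ∃ a ∈ A, t * a * t⁻¹ * a⁻¹ ∉ B := by simpa using mt (h.b3 ht (e2_of_sq e)) n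
  have k := conj_mem_of_norm ht.1 ha
  refine ⟨_, mul_mem k (inv_mem ha), m, mem_cent1.2 ?_⟩
  rw [eq_comm, ← mul_inv_eq_iff_eq_mul, ← conj_mul, ← cjm, e, ← h.cma (inv_mem ha) k, ab_inv h.ea ha]; simp

structure Bd (F : Type) [Field F] (A B J L M : Subgroup G) (ρ : G → SL(2, F)) (ψ : G → Fin 2 → F)
    (ρ' : G → SL(2, F)) (ψ' : G → Fin 2 → F) : Prop where
  na : Nd F A B J L ρ ψ
  nb : Nd F B A J M ρ' ψ'
  dd : ∀ z ∈ A ⊓ B, z ∈ 𝐂 L → z ∈ 𝐂 M → z = 1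
  c2 : ∀ z : G, Iv z → 𝐂₁ z ⊓ 𝐂 (𝐎 {2} (𝐂₁ z)) ≤ 𝐎 {2} (𝐂₁ z)
  ca : A ⊓ 𝐂 L = ⊥ ∨ ∃ d ∈ A ⊓ 𝐂 L, d ≠ 1 ∧ 𝐂₁ d ≤ 𝐍 A
  cb : B ⊓ 𝐂 M = ⊥ ∨ ∃ d ∈ B ⊓ 𝐂 M, d ≠ 1 ∧ 𝐂₁ d ≤ 𝐍 B

namespace Bd
variable (h : Bd F A B J L M ρ ψ ρ' ψ')
include h

theorem symm : Bd F B A J M L ρ' ψ' ρ ψ := ⟨h.nb, h.na, fun x a b c => h.dd x (mi a.2 a.1) c b, h.c2, h.cb, h.ca⟩

theorem cjA (hg : g ∈ 𝐍 J) : cj g A = A ∨ cj g A = B :=
  (h.na.le_or' (cj_le_of_norm hg h.na.la) (h.na.ea.cj g)).imp (fun l => eq_of_le_of_card_ge l (by simp))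
    fun l => eq_of_le_of_card_ge l (by simp [h.na.cAB])

theorem perm (hg : g ∈ 𝐍 J) : g ∈ 𝐍 A ⊓ 𝐍 B ∨ Sw A B g := by
  have n : cj g A ≠ cj g B := fun e => h.na.nab (by simpa [cj_cj] using (congrArg (cj g⁻¹) e).le)
  rcases h.cjA hg with a | a <;> rcases h.symm.cjA hg with b | b
  · exact .inl (mi (cj_eq_self.1 a) (cj_eq_self.1 b))
  · exact (n (a.trans b.symm)).elim
  · exact (n (a.trans b.symm)).elim
  · exact .inr ⟨a, b⟩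

theorem sw (hg : g ∈ 𝐍 J) (n : g ∉ 𝐍 A ⊓ 𝐍 B) : Sw A B g := (h.perm hg).resolve_left n
theorem nsw (s : Sw A B g) : g ∉ 𝐍 A := fun n => h.na.nab ((cj_of_norm n).symm.trans s.1).le
theorem nAB (hg : g ∈ 𝐍 J) (n : g ∈ 𝐍 A) : g ∈ 𝐍 A ⊓ 𝐍 B := (h.perm hg).resolve_right (h.nsw · n)
theorem JB : J ≤ 𝐍 A ⊓ 𝐍 B := le_inf h.na.nA' h.nb.nA'
theorem idxB (l : E ≤ 𝐍 J) : (𝐍 A ⊓ 𝐍 B).relIndex E ≤ 2 :=
  idx_le_two fun _ ha _ hb na nb => (h.sw (l ha) na).mul (h.sw (l hb) nb)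
theorem nB : 𝐍 J ≤ 𝐍 (𝐍 A ⊓ 𝐍 B) := fun _ hg => mem_norm_of fun _ hd =>
  (h.perm hg).elim (fun n => cmem n hd) fun s => mi (s.symm.norm hd.2) (s.norm hd.1)
theorem nZ : 𝐍 J ≤ 𝐍 (A ⊓ B) := fun _ hg => mem_norm_of fun _ hz =>
  (h.perm hg).elim (fun n => cZ_mem n hz) fun s => mi (s.symm.mem hz.2) (s.mem hz.1)
theorem D2 : B ⊓ 𝐂 M ≤ A ⊓ B := inf_comm A B ▸ h.nb.ZA_le
theorem LB (hk : k ∈ L ⊓ 𝐍 J) : k ∈ 𝐍 A ⊓ 𝐍 B := h.nAB hk.2 (h.na.lN hk.1)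
theorem MB (hk : k ∈ M ⊓ 𝐍 J) : k ∈ 𝐍 A ⊓ 𝐍 B := mi (h.symm.LB hk).2 (h.symm.LB hk).1

theorem small (l : E ≤ 𝐍 J) (e : ∀ x ∈ E, x * x = 1) (i : E ⊓ J = ⊥) : ♯E ≤ 4 := by
  have := (SR.split J E _).trans (Nat.mul_le_mul (h.na.idx0 e) (h.idxB l))
  rwa [relIndex_of_inf_bot (by rwa [inf_comm])] at this

theorem big (l : E ≤ 𝐍 J) (e : ∀ x ∈ E, x * x = 1) (c : ♯A ≤ ♯E) : E ≤ J := by
  by_contra n
  have o := h.na.le_or (inf_le_right : E ⊓ J ≤ J) fun x hx => e x hx.1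
  have ab := (ab_mk e).abel
  have i := h.na.idx0 e
  by_cases k : E ≤ 𝐍 A ⊓ 𝐍 B
  · obtain ⟨t, ht, nt⟩ := SetLike.not_le_iff_exists.1 n
    rw [inf_of_le_left k] at i
    have c' := c.trans (card_le_mul i (inf_comm J E).le)
    have ct : E ⊓ J ≤ 𝐂₁ t := inf_le_left.trans (ab.trans (cent_le_cent1 ht))
    rcases o with o | o
    · exact nt (h.na.tv (k ht) (e2_of_sq (e t ht)) (idx_of_card (le_inf ct o) c'))
    · exact nt (h.nb.tv (mi (k ht).2 (k ht).1) (e2_of_sq (e t ht)) (idx_of_card (le_inf ct o) (h.na.cAB ▸ c')))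
  obtain ⟨y, hy, ny⟩ := SetLike.not_le_iff_exists.1 k
  have o := (h.sw (l hy) ny).le (ab.le_norm inf_le_left hy) o
  have : ♯(E ⊓ (𝐍 A ⊓ 𝐍 B) : Subgroup G) ≤ ♯(A ⊓ B : Subgroup G) := by
    by_cases k : E ⊓ (𝐍 A ⊓ 𝐍 B) ≤ J
    · exact card_le ((le_inf inf_le_left k).trans o)
    obtain ⟨t, ht, nt⟩ := SetLike.not_le_iff_exists.1 k
    exact (card_le_mul i (le_inf (inf_le_right.trans inf_le_left) inf_le_left)).trans (two_mul_le o fun m =>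
      nt (h.na.b2' ht.2 (e2_of_sq (e t ht.1)) (cent_anti (m.trans inf_le_left) (ab ht.1))))
  have := c.trans ((card_le_mul (h.idxB l) (inf_comm _ E).le).trans (Nat.mul_le_mul_left 2 this))
  rw [h.na.cA0] at this
  nlinarith [h.na.q, card_pos' (A ⊓ B)]

theorem nJ_of (n : cj g J ≤ 𝐍 J) : g ∈ 𝐍 J := mem_norm_of_cj_le (by
  conv_lhs => rw [← h.na.sup_eq, cj_sup]
  exact sup_le (h.big ((cj_mono g h.na.la).trans n) (fun _ => ab_sq (h.na.ea.cj g)) (by simp))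
    (h.big ((cj_mono g h.na.lb).trans n) (fun _ => ab_sq (h.na.eb.cj g)) (by simp [h.na.cAB])))

theorem JS (hS : Syl 2 S (𝐍 J)) : J ≤ S := hS.le_of_normal ⟨le_norm_self J, le_rfl⟩ h.na.syl.pi
theorem syl (hS : Syl 2 S (𝐍 J)) : Syl 2 S ⊤ :=
  hS.syl_of_norm_le (fun _ hg => h.nJ_of ((cj_le_of_norm hg (h.JS hS)).trans hS.le)) le_top

theorem exJ (k : P2 E) : ∃ g, cj g E ≤ 𝐍 J := by
  obtain ⟨S, hS⟩ := BG.exists_syl 2 (𝐍 J)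
  obtain ⟨g, -, l⟩ := (h.syl hS).syl_cj_le le_top k
  exact ⟨g, l.trans hS.le⟩

theorem bigA (l : E ≤ 𝐍 A) (e : Abelem 2 E) (c : ♯A ≤ ♯E) : E ≤ L := by
  obtain ⟨g, hg, m⟩ := h.na.exN e.pi l
  exact (cj_le_iff.1 (h.big m (fun _ => ab_sq (e.cj g)) (by simpa using c))).trans (cj_le_of_mem (inv_mem hg) h.na.sL)

theorem swL (s : Sw A B y) (n : y ∈ 𝐍 J) (hl : l ∈ M) : y * l * y⁻¹ ∈ L := by
  obtain ⟨w, hw, nw⟩ := h.nb.exW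
  refine (cj_mono y (h.nb.gen hw nw)).trans ?_ (conj_mem_cj.2 hl)
  rw [cj_sup, cj_cj, ← inv_mul_cancel_right (y * w) y, ← cj_cj, cj_of_norm n]
  exact sup_le h.na.sL (cj_le_of_norm (h.na.nA (s.symm.norm (h.nb.lN hw))) h.na.sL)

theorem swD (s : Sw A B y) (n : y ∈ 𝐍 J) (hd : d ∈ 𝐂 L) : y * d * y⁻¹ ∈ 𝐂 M := mem_cent.2 fun m hm => by
  have := mem_cent.1 hd _ (h.swL s.inv (inv_mem n) hm)
  calc _ = y * (y⁻¹ * m * y⁻¹⁻¹ * d) * y⁻¹ := by group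
    _ = _ := by rw [this]; group

theorem der : ⁅J, J⁆ ≤ A ⊓ B := commutator_le.2 fun s hs t ht => by
  obtain ⟨a, ha, b, hb, rfl⟩ := h.na.mul t ht
  have m := h.nb.comm_mem hs hb
  rw [cm_r (h.na.cma ha m.2)]; exact mul_mem (h.na.comm_mem hs ha) (mi m.2 m.1)

/-- an involution of `J` centralised by a swapping element -/
theorem swC (s : Sw A B y) (n : y ∈ 𝐍 J) (hu : u ∈ J) (e : u * u = 1) (u1 : u ≠ 1) (c : y * u = u * y) :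
    u ∈ A ⊓ B ∧ u ∉ 𝐂 L ∧ u ∉ 𝐂 M := by
  have f : y * u * y⁻¹ = u := by rw [c, mul_inv_cancel_right]
  have m : u ∈ A ⊓ B := (h.na.inv u hu e).elim (fun k => mi k (f ▸ s.mem k)) fun k => mi (f ▸ s.symm.mem k) k
  exact ⟨m, fun k => u1 (h.dd u m k (f ▸ h.swD s n k)), fun k => u1 (h.dd u m (f ▸ h.symm.swD s.symm n k) k)⟩

theorem trD (hd : d ∈ A ⊓ 𝐂 L) (d1 : d ≠ 1) (he : e ∈ A ⊓ 𝐂 L) (e1 : e ≠ 1) : ∃ k ∈ M ⊓ 𝐍 J, k * d * k⁻¹ = e := by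
  have m := fun {d} (hd : d ∈ A ⊓ 𝐂 L) => mi (h.na.ZA_le hd).2 hd.1
  have n := fun {d} (hd : d ∈ A ⊓ 𝐂 L) (d1 : d ≠ 1) => h.nb.ψne (m hd) fun c => d1 (h.dd d (h.na.ZA_le hd) hd.2 c)
  obtain ⟨k, hk, f⟩ := h.nb.tor (div_ne_zero (n he e1) (n hd d1))
  have r := conj_mem_of_norm (h.na.nD (h.MB hk).1) hd
  have := h.nb.ext0 (m r) (m he) (by rw [f d (m hd), div_mul_cancel₀ _ (n hd d1)])
  exact ⟨k, hk, by rw [eq_inv_of_mul_eq_one_left (h.dd _ (h.D2 this) (mul_mem r.2 he.2) this.2), ab_inv h.na.ea he.1]⟩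

theorem c1 (hd : d ∈ A ⊓ 𝐂 L) (d1 : d ≠ 1) : 𝐂₁ d ≤ 𝐍 A := by
  obtain ⟨e, he, e1, c⟩ := h.ca.resolve_left fun c => d1 (eq_one_of_mem_bot c hd)
  obtain ⟨k, hk, rfl⟩ := h.trD he e1 hd d1
  rw [← cj_cent1]; exact cj_le_of_mem (h.MB hk).1 c

end Bd

end CF.Cl2
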