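/-
Two blocks interchanged by an element of `N(J)` in a group of characteristic 2 type.
-/
import Cfsg.Agent.Loc.PU3
set_option autoImplicit false
set_option linter.unusedSectionVars false

namespace CF.Cl2
open Subgroup Cfsg CF.BG CF.Sig CF.GW CF.Ab2
open CF.PLocal (upT)
open scoped commutatorElement MatrixGroups

universe u
variable {G : Type u} [Group G] [Finite G]
variable {A B D E H J K L M N P Q R S T U V W X Y Z : Subgroup G} {a b c d e f g k l n s t u v w x y z : G}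
variable {F : Type} [Field F] [Fintype F] {ρ ρ' : G → SL(2, F)} {ψ ψ' : G → Fin 2 → F}

namespace Bd
variable (h : Bd F A B J L M ρ ψ ρ' ψ')
include h

theorem exL (ht : t ∈ 𝐍 A ⊓ 𝐍 B) (e : t * t = 1) (n : t ∉ J) : ∃ l ∈ L, l ∉ 𝐍 J ∧ l ∈ 𝐂₁ t := by
  have tJ := h.na.nJ' ht
  have ti := inv_eq_of_mul_eq_one_right e
  obtain ⟨w, hw, nw⟩ := h.na.exW
  have nw' := mt inv_mem_iff.1 nw
  have BL := h.na.lb.trans h.na.sL
  obtain ⟨b, hb, m⟩ := h.na.dc (inv_mem hw) nw' (conj_mem_of_norm (h.na.nA ht.1) hw) fun c =>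
    nw (mem_of_eq (cmem' tJ c) (by group))
  replace m : w⁻¹ * (b * t) * w ∈ 𝐍 J := mem_of_eq (mul_mem m tJ) (by group)
  have b2 := mul_mem hb (conj_mem_of_norm ht.2 hb)
  have bA := h.na.ti (inv_mem hw) nw' (h.na.lb b2) (h.na.mem2 (cmem (inv_mem hw) (BL b2))
    (mem_of_eq (mul_mem m m) (by rw [ti]; group)) ((h.na.eb.pi.elt b2).conj _))
  obtain ⟨u, hu, k⟩ := h.nb.h90 (mi ht.2 ht.1) e n hb (h.nb.cma hb (conj_mem_of_norm ht.2 hb) ▸ bA)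
  have uw := mul_mem (BL hu) hw
  have t1 : (u * w)⁻¹ * t * (u * w) ∈ 𝐍 J := mem_of_eq (mul_mem (le_norm_self J (h.na.la
    (conj_mem_of_norm' (h.na.lN hw) k))) m) (by
      rw [h.nb.cma (conj_mem_of_norm ht.2 hu) hu, mul_inv_rev, ab_inv h.na.eb hu]
      calc _ = w⁻¹ * (u * t * u * t⁻¹ * (b * b) * t) * w := by rw [h.na.sqb hb]; group
        _ = _ := by group)
  have t2 := h.nAB t1 (cmem' (h.na.lN uw) ht.1)
  obtain ⟨r, hr, nr, c⟩ := h.nb.exC (mi t2.2 t2.1) (by simpa using sq_conj e (u * w)⁻¹) fun c =>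
    n (h.na.mem2 (mem_of_eq (cmem uw (h.na.sL c)) (by group)) tJ (e2_of_sq e))
  refine ⟨_, cmem uw (BL hr), fun m => nr (h.na.ti uw (fun c => nw ((mul_mem_cancel_left (le_norm_self J (h.na.lb hu))).1 c))
    (h.na.lb hr) (h.na.mem2 (cmem uw (BL hr)) m ((h.na.eb.pi.elt hr).conj _))), mem_cent1.2 ?_⟩
  calc _ = u * w * (r * ((u * w)⁻¹ * t * (u * w))) * (u * w)⁻¹ := by group
    _ = _ := by rw [mem_cent1.1 c]; group

theorem exT (s : Sw A B x) (nx : x ∈ 𝐍 J) : ∃ t ∈ 𝐍 J, t ∉ J ∧ t * t = 1 := by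
  obtain ⟨τ, t0, t1⟩ := exists_ne01 h.na.q
  obtain ⟨k, hk, f⟩ := h.na.tor t0
  obtain ⟨u, v, hu, hv, eu, ev, e⟩ := exists_piPart {2} k
  have v1 : v ≠ 1 := fun c => by
    obtain ⟨z, hz, ez⟩ := h.na.exZ0 1
    have := f z hz
    rw [← h.na.cz (h.na.mem2 hk.1 hk.2 (by rwa [← e, c, mul_one])) hz, mul_inv_cancel_right, ez, mul_one] at this
    exact t1 this.symm
  obtain ⟨p, pp, dp⟩ := Nat.exists_prime_and_dvd (mt orderOf_eq_one_iff.1 v1)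
  obtain ⟨r, hr, er⟩ := BG.exists_mem_orderOf_eq (H := zpowers v) pp (by rwa [Nat.card_zpowers])
  have rL := zpowers_le.2 (zpowers_le.2 hk hv) hr
  have pr : PiElt {p} r := piElt_of_pow_eq_one pp (er ▸ pow_orderOf_eq_one r)
  obtain ⟨P, hP, l⟩ := exists_syl_le (zpowers_le.2 (h.LB rL)) pr.zpowers
  have o : Od P := hP.pi.of_single' (ev p pp dp)
  obtain ⟨a, ha, b, hb, rfl⟩ := hP.syl_frattini ⟨fun _ => h.na.nJ', h.nB⟩ nx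
  have sb := h.sw hb.1 fun c => h.nsw s (mul_mem ha.1 c.1)
  obtain ⟨y, hy, ey, sy⟩ := sb.two
  obtain ⟨t, ht, i⟩ := exists_iv_of_two ey.zpowers fun c => h.nsw sy (zpowers_eq_bot.1 c ▸ one_mem _)
  have tn := zpowers_le.2 (zpowers_le.2 hb hy) ht
  refine ⟨t, tn.1, fun c => i.ne_one ?_, i.sq⟩
  have key : ∀ {A B L : Subgroup G} {ρ : G → SL(2, F)} {ψ : G → Fin 2 → F}, Nd F A B J L ρ ψ → ∀ r ∈ L ⊓ 𝐍 J, r ∈ P →
      r ≠ 1 → t ∈ A ⊓ 𝐂 L := fun h r hr m r1 => h.cen_tor (h.normZ hr.1 hr.2) hr.1 (fun k => r1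
        ((h.syl.pi.elt (h.memJ hr.1 ((h.nJ hr.1).1 hr.2) k)).eq_one (o.elt m))) c (by
      have := eq_one_of_mem_bot (h.syl.pi.inf_eq_bot o) (mi (mul_mem (conj_mem_of_norm hr.2 c) (inv_mem c))
        (mem_of_eq (mul_mem m (conj_mem_of_norm tn.2 (inv_mem m))) (by group)))
      rwa [mul_inv_eq_one, mul_inv_eq_iff_eq_mul] at this)
  have r1 : r ≠ 1 := fun c => pp.one_lt.ne (by rw [← er, c, orderOf_one])
  have m := l (mem_zpowers r)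
  have e1 := key h.na r rL m r1
  exact h.dd t (h.na.ZA_le e1) e1.2 (key h.nb _ (mi (h.symm.swL sb.symm hb.1 rL.1) (cmem hb.1 rL.2))
    (conj_mem_of_norm hb.2 m) (by simpa using r1)).2

variable (hc : ∀ c ∈ A ⊓ B, c ∉ 𝐂 L → c ∉ 𝐂 M → 𝐂₁ c ≤ 𝐍 J)
include hc

theorem k1 (hu : u ∈ A ⊓ B) (u1 : u ≠ 1) (l : E ≤ 𝐂₁ u) (e : Abelem 2 E) (c : ♯A ≤ ♯E) : E ≤ L ∨ E ≤ M := by
  by_cases a : u ∈ 𝐂 L
  · exact .inl (h.bigA (l.trans (h.c1 (mi hu.1 a) u1)) e c)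
  by_cases b : u ∈ 𝐂 M
  · exact .inr (h.symm.bigA (l.trans (h.symm.c1 (mi hu.2 b) u1)) e (h.na.cAB ▸ c))
  exact .inl ((h.big (l.trans (hc u hu a b)) (fun _ => ab_sq e) c).trans h.na.sL)

theorem k2 (hu : u ∈ A) (u1 : u ≠ 1) (l : E ≤ 𝐂₁ u) (e : Abelem 2 E) (c : ♯A ≤ ♯E) (ht : t ∈ E) (n : t ∈ 𝐍 A ⊓ 𝐍 B) :
    t ∈ J := by
  obtain ⟨g, hg, m⟩ := h.na.conjZ hu
  have k := conj_mem_cj (g := g).2 ht
  refine h.na.mem2 (mem_of_eq (cmem' hg (?_ : g * t * g⁻¹ ∈ L)) (by group)) (h.na.nJ' n) (e.pi.elt ht)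
  exact (h.k1 hc m (by simpa using u1) (cj_cent1 g u ▸ cj_mono g l) (e.cj g) (by simpa using c)).elim (· k) fun o =>
    h.na.sL (h.nb.mem2 (o k) (h.na.nJ' (mi (cmem (h.na.lN hg) n.1) (h.nb.lN (o k)))) ((e.pi.elt ht).conj g))

omit hc in
theorem k3 (hz : z ∈ A ⊓ B) (m : u ∈ cj g J) (e : u * u = 1) :
    ∃ E, E ≤ 𝐂₁ u ∧ Abelem 2 E ∧ ♯A ≤ ♯E ∧ g * z * g⁻¹ ∈ E := by
  rcases h.na.inv _ (mem_cj.1 m) (by simpa using sq_conj e g⁻¹) with k | k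
  · exact ⟨_, (h.na.ea.cj g).abel.trans (cent_le_cent1 (mem_cj.2 k)), h.na.ea.cj g, by simp, conj_mem_cj.2 hz.1⟩
  · exact ⟨_, (h.na.eb.cj g).abel.trans (cent_le_cent1 (mem_cj.2 k)), h.na.eb.cj g, by simp [h.na.cAB], conj_mem_cj.2 hz.2⟩

theorem k4 (hz : z ∈ A ⊓ B) (z1 : z ≠ 1) (k : P2 X) (l : X ≤ 𝐂₁ (g * z * g⁻¹)) :
    ∃ r, r * z * r⁻¹ = g * z * g⁻¹ ∧ cj r⁻¹ X ≤ 𝐍 J := by
  have l : cj g⁻¹ X ≤ 𝐂₁ z := cj_le_iff.2 (by rwa [inv_inv, cj_cent1])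
  have key : ∀ {L : Subgroup G}, z ∈ 𝐂 L → (∃ r ∈ L, cj r (cj g⁻¹ X) ≤ 𝐍 J) → ∃ r, r * z * r⁻¹ = g * z * g⁻¹ ∧
      cj r⁻¹ X ≤ 𝐍 J := fun c ⟨r, hr, m⟩ => ⟨g * r⁻¹, by rw [cjm, mem_cent.1 c _ (inv_mem hr), mul_inv_cancel_right],
        by rwa [mul_inv_rev, inv_inv, ← cj_cj]⟩
  by_cases a : z ∈ 𝐂 L
  · exact key a (h.na.exN (k.cj _) (l.trans (h.c1 (mi hz.1 a) z1)))
  by_cases b : z ∈ 𝐂 M
  · exact key b (h.nb.exN (k.cj _) (l.trans (h.symm.c1 (mi hz.2 b) z1)))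
  exact ⟨g, rfl, l.trans (hc z hz a b)⟩

variable (q : 4 < ♯(A ⊓ B))
include q

theorem sc0 (hz : z ∈ A ⊓ B) (n : g * z * g⁻¹ ∈ 𝐍 A ⊓ 𝐍 B) : g * z * g⁻¹ ∈ J := by
  by_contra m
  have z1 : z ≠ 1 := fun e => m (by simp [e])
  obtain ⟨r, e, a⟩ := h.k4 hc hz z1 h.na.ea.pi.inf_left (inf_le_right : A ⊓ _ ≤ _)
  have c := h.small a (fun _ => ab_sq ((h.na.ea.le inf_le_left).cj _)) (eq_bot_of_forall fun x hx => by_contra fun x1 => by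
    have k := (mem_cj_inv.1 hx.1).1
    obtain ⟨E, l, eE, c, t⟩ := h.k3 hz (conj_mem_cj.2 hx.2) (h.na.sqa k)
    exact m (h.k2 hc k (by simpa using x1) l eE c (e ▸ t) n))
  have := SR.card_le_sq h.na.ea n.1 (by rw [sq_conj (h.na.sqa hz.1)]; exact one_mem _)
  rw [h.na.cA0] at this; rw [card_cj] at c
  nlinarith [h.na.q4]

theorem sc1 (hz : z ∈ A ⊓ B) (n : g * z * g⁻¹ ∈ 𝐍 J) : g * z * g⁻¹ ∈ J := by
  by_contra m
  have z1 : z ≠ 1 := fun e => m (by simp [e])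
  obtain ⟨r, e, a⟩ := h.k4 hc hz z1 h.na.ea.pi.inf_left.inf_left (inf_le_right : A ⊓ B ⊓ _ ≤ _)
  have := SR.card_le_sq (h.na.ea.le inf_le_left) (h.nZ n) (by rw [sq_conj (h.na.sqa hz.1)]; exact one_mem _)
  have c := card_le_mul (U := ⊥) (h.idxB a) fun x hx => by_contra fun x1 => by
    have k := (mem_cj_inv.1 hx.2).1
    obtain ⟨E, l, eE, c, t⟩ := h.k3 (g := r) hz (conj_mem_cj.2 (by
      simpa [mul_assoc] using h.sc0 hc q (g := r⁻¹) k (by simpa [mul_assoc] using hx.1))) (h.na.sqa k.1)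
    have e2 := eE.pi.elt t
    rw [e] at t e2
    exact m ((h.k1 hc k (by simpa using x1) l eE c).elim (fun o => h.na.mem2 (o t) n e2) fun o => h.nb.mem2 (o t) n e2)
  rw [card_cj, card_bot] at c
  nlinarith

theorem sc2 (hx : x ∈ J) (e : x * x = 1) (n : g * x * g⁻¹ ∈ 𝐍 J) : g * x * g⁻¹ ∈ J := by
  rcases h.na.inv x hx e with k | k
  · obtain ⟨l, -, m⟩ := h.na.conjZ k
    simpa [mul_assoc] using h.sc1 hc q (g := g * l⁻¹) m (by simpa [mul_assoc] using n)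
  · obtain ⟨l, -, m⟩ := h.nb.conjZ k
    simpa [mul_assoc] using h.sc1 hc q (g := g * l⁻¹) (mi m.2 m.1) (by simpa [mul_assoc] using n)

theorem loc (i : Iv t) (k : P2 W) (l : W ≤ 𝐂₁ t) (hz : z ∈ W) (m : z ∈ A ⊓ B) (zL : z ∉ 𝐂 L) (zM : z ∉ 𝐂 M)
    (f : ∀ g, cj g W ≤ 𝐍 J → g * z * g⁻¹ ∈ A ⊓ B) :
    ∃ I : Set G, I.Nonempty ∧ ∀ u ∈ I, u ∈ J ∧ u ≠ 1 ∧ u * u = 1 ∧ u ∈ 𝐂₁ t ∧ ∀ l ∈ 𝐂₁ t, l * u * l⁻¹ ∈ I := by
  have c2 := h.c2 t i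
  have nQ := (O_normal {2} (𝐂₁ t)).norm
  have lQ := O_le {2} (𝐂₁ t)
  have kQ := O_pi {2} (𝐂₁ t)
  set Q := 𝐎 {2} (𝐂₁ t)
  obtain ⟨g, o⟩ := h.exJ (k.sup kQ (.inl (l.trans nQ)))
  have n : g⁻¹ ∈ 𝐍 J := h.nJ_of (le_trans (by
    rw [cj_le_iff, inv_inv, cj_cent1]
    exact h.na.cZ.trans (cent_le_cent1 (f g ((cj_mono g le_sup_left).trans o)))) (hc z m zL zM))
  have QN : Q ≤ 𝐍 J := le_sup_right.trans ((cj_le_iff.1 o).trans (cj_of_mem n).le)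
  have zJ := h.na.la m.1
  obtain ⟨u, hu, iu⟩ := exists_iv_of_two (kQ.inf_left (K := J)) fun b => zL (by
    rw [eq_one_of_mem_bot b (mi (c2 (mi (l hz) (mem_cent.2 fun y hy => ?_))) zJ)]; exact one_mem _
    have := eq_one_of_mem_bot b (mi (mem_of_eq (mul_mem hy (conj_mem_of_norm (nQ (l hz)) (inv_mem hy))) (by group))
      (mul_mem (conj_mem_of_norm (QN hy) zJ) (inv_mem zJ)))
    rwa [mul_inv_eq_one, mul_inv_eq_iff_eq_mul] at this)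
  exact ⟨{u | u ∈ Q ⊓ J ∧ Iv u}, ⟨u, hu, iu⟩, fun u ⟨hu, iu⟩ => ⟨hu.2, iu.ne_one, iu.sq, lQ hu.1, fun l hl =>
    have := conj_mem_of_norm (nQ hl) hu.1
    ⟨mi this (h.sc2 hc q hu.2 iu.sq (QN this)), iu.conj l⟩⟩⟩

theorem nf (ht : t ∈ 𝐍 A ⊓ 𝐍 B) (e : t * t = 1) : t ∈ J := by
  by_contra n
  have ht' := mi ht.2 ht.1
  obtain ⟨a, ha, na, ca⟩ := h.na.exC ht e n
  obtain ⟨b, hb, nb, cb⟩ := h.nb.exC ht' e n
  have aJ := h.na.la ha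
  have bJ := h.na.lb hb
  have m := h.na.comm_mem bJ ha
  obtain ⟨I, ⟨u, hu⟩, k⟩ := h.loc hc q (t := t) (.mk' (fun c => n (c ▸ one_mem _)) e) (h.na.syl.pi.inf_left (K := 𝐂₁ t)) inf_le_right
    (mi (h.na.la m.1) (mul_mem (cmem cb ca) (inv_mem ca))) m (h.na.comm_not bJ nb ha na)
    (fun c => h.nb.comm_not aJ na hb nb (commutatorElement_inv b a ▸ inv_mem c)) fun g o => by
      rw [conjugate_commutatorElement]
      exact h.der (commutator_mem_commutator (h.sc2 hc q bJ (h.na.sqb hb) (o (conj_mem_cj.2 (mi bJ cb))))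
        (h.sc2 hc q aJ (h.na.sqa ha) (o (conj_mem_cj.2 (mi aJ ca)))))
  obtain ⟨l, hl, nl, cl⟩ := h.exL ht e n
  obtain ⟨r, hr, nr, cr⟩ := h.symm.exL ht' e n
  have key : ∀ u ∈ I, u ∈ A ⊓ B := fun u hu => mi (h.na.ti hl nl (k u hu).1 (k _ ((k u hu).2.2.2.2 l cl)).1)
    (h.nb.ti hr nr (k u hu).1 (k _ ((k u hu).2.2.2.2 r cr)).1)
  have uz := key u hu
  exact (k u hu).2.1 (h.dd u uz (h.na.opp hl (h.na.lN hl) (fun c => nl ((h.na.nJ hl).2 ((h.na.norm_iff hl).1 c))) uz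
    (key _ ((k u hu).2.2.2.2 l cl)).2) (h.nb.opp hr (h.nb.lN hr) (fun c => nr ((h.nb.nJ hr).2 ((h.nb.norm_iff hr).1 c)))
      (mi uz.2 uz.1) (key _ ((k u hu).2.2.2.2 r cr)).1))

theorem sw2 (ht : t ∈ 𝐍 J) (e : t * t = 1) (n : t ∉ J) : Sw A B t := h.sw ht fun c => n (h.nf hc q c e)

theorem cs (ht : t ∈ 𝐍 J) (e : t * t = 1) (n : t ∉ J) : 𝐂₁ t ≤ 𝐍 J := fun l hl => by
  have s := h.sw2 hc q ht e n
  have i : Iv t := .mk' (fun c => n (c ▸ one_mem _)) e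
  obtain ⟨z, hz, z1⟩ := exists_mem_ne_one (i.piGrp.inf_cent_ne_bot h.na.ea.pi.inf_left (zpowers_le.2 (h.nZ ht)) h.na.Z_ne)
  have c := mem_cent.1 hz.2 t (mem_zpowers t)
  have z2 := h.na.sqa hz.1.1
  have zJ := h.na.la hz.1.1
  obtain ⟨-, zL, zM⟩ := h.swC s ht zJ z2 z1 c
  obtain ⟨I, ⟨u, hu⟩, k⟩ := h.loc hc q i (i.piGrp.sup (e2_of_sq z2).zpowers (.inl (zpowers_le.2 (cent1_le_norm_zp z
    (mem_cent1.2 c))))) (sup_le (zpowers_le.2 (mem_cent1.2 rfl)) (zpowers_le.2 (mem_cent1.2 c.symm)))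
    (mem_sup_right (mem_zpowers z)) hz.1 zL zM fun g o => by
      have m := o (conj_mem_cj.2 (mem_sup_left (mem_zpowers t)))
      exact (h.swC (h.sw2 hc q m (sq_conj e g) fun c => n (by
        simpa [mul_assoc] using h.sc2 hc q (g := g⁻¹) c (sq_conj e g) (by simpa [mul_assoc] using ht))) m
        (h.sc2 hc q zJ z2 (o (conj_mem_cj.2 (mem_sup_right (mem_zpowers z))))) (sq_conj z2 g) (by simpa using z1)
        (by rw [conj_mul, c, conj_mul])).1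
  have key : ∀ u ∈ I, u ∈ A ⊓ B ∧ u ∉ 𝐂 L ∧ u ∉ 𝐂 M := fun u hu =>
    h.swC s ht (k u hu).1 (k u hu).2.2.1 (k u hu).2.1 (mem_cent1.1 (k u hu).2.2.2.1).symm
  obtain ⟨m, mL, mM⟩ := key _ ((k u hu).2.2.2.2 l hl)
  exact h.nJ_of (le_trans (by rw [← cj_cent1]; exact cj_mono l (h.na.cZ.trans (cent_le_cent1 (key u hu).1))) (hc _ m mL mM))

theorem false (s : Sw A B x) (nx : x ∈ 𝐍 J) : False := by
  obtain ⟨t, ht, n, e⟩ := h.exT s nx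
  obtain ⟨w, hw, nw⟩ := h.na.exW
  obtain ⟨b, hb, nb⟩ := h.na.exB
  have bJ := h.na.lb hb
  have b2 := h.na.sqb hb
  obtain ⟨u, u1, u2, c, c'⟩ := dih_cent e (sq_conj b2 w) fun g f => n (by
    have : g⁻¹ * w * b * (g⁻¹ * w)⁻¹ = t := by rw [cjm, ← f]; group
    exact this ▸ h.sc2 hc q bJ b2 (this ▸ ht))
  refine nb (h.na.ti hw nw bJ (h.na.mem2 (cmem hw (h.na.sL bJ)) ((?_ : 𝐂₁ u ≤ 𝐍 J) (mem_cent1.2 c'))
    ((e2_of_sq b2).conj w)))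
  by_cases m : u ∈ J
  · obtain ⟨a, aL, aM⟩ := h.swC (h.sw2 hc q ht e n) ht m u2 u1 c
    exact hc u a aL aM
  · exact h.cs hc q (h.cs hc q ht e n (mem_cent1.2 c.symm)) u2 m

omit hc q in
theorem main (s : Sw A B x) (nx : x ∈ 𝐍 J) : SectionalPRankLE 2 4 G := by
  by_cases n1 : A ⊓ 𝐂 L = ⊥
  swap
  · refine (h.false (fun c => h.cent n1 s nx) ?_ s nx).elim
    nlinarith [h.na.cC, h.cardD n1, h.na.q4]
  have n2 : B ⊓ 𝐂 M = ⊥ := by_contra fun c => h.symm.n2 c n1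
  have c := h.na.cC
  rw [n1, card_bot, mul_one] at c
  by_cases q : ♯(A ⊓ B) ≤ 4
  · exact sec_of_sw h.na.syl.pi (inf_le_left.trans h.na.la) (fun E n e => h.na.le_or n.le e) nx s (fun _ => h.na.f4) q
  have k : Bk F A B J L M ρ ψ ρ' ψ' := ⟨⟨h.na.toNt, fun _ => h.na.ka, fun a ha c => eq_one_of_mem_bot n1 (mi ha c), h.na.q,
    h.na.nA⟩, ⟨h.nb.toNt, fun _ => h.nb.ka, fun a ha c => eq_one_of_mem_bot n2 (mi ha c), h.na.q, h.nb.nA⟩,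
    fun x a _ => eq_one_of_mem_bot n1 (mi (h.na.cA' (cent_anti h.na.aL a)) a), h.c2⟩
  exact (h.false (fun z hz a _ => k.cent (by omega) hz fun e => a (e ▸ one_mem _)) (by omega) s nx).elim

end Bd

end CF.Cl2
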