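import Cfsg.Agent.Loc.GC1
import Cfsg.Agent.Loc.PU4

/-! Global `C*(G,T)`: the action on the module of a linear block. -/

set_option autoImplicit false
set_option linter.unusedSectionVars false

namespace CF.GC

open Cfsg Subgroup CF.Loc CF.FF Equiv
open CF.PLocal (maxAb thompson_le le_thompson upT)
open scoped commutatorElement MatrixGroups

universe u
variable {G : Type u} [Group G] {A B C E E' H K L M N P Q S T U V W X Y Z : Subgroup G} {a b d g k t v w x y : G}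
variable {F : Type} [Field F] {φ : G → Fin 2 → F} {m : ℕ} {ψ : G → Fin (m + 1) → ZMod 2} {i j : Fin (m + 1)}

theorem card_le_four [Finite F] (two : (2 : F) = 0) {θ : F →+* F} (t0 : ¬ ∀ t, θ t = t) {β e : F} (b0 : β ≠ 0)
    (h : ∀ c, θ c * β - c = 0 ∨ θ c * β - c = e) : Nat.card F ≤ 4 := by
  classical
  obtain ⟨t, ht⟩ := not_forall.1 t0
  have k : ∀ c, θ c * β - c = 0 → c ≠ 0 → θ (t * c) * β - t * c = e := fun c a c0 => (h _).resolve_left fun z =>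
    ht (mul_right_cancel₀ c0 (by rw [map_mul] at z; linear_combination z - θ t * a))
  have u : ∀ c c', θ c * β - c = 0 → θ c' * β - c' = 0 → c ≠ 0 → c' ≠ 0 → c = c' := fun c c' a a' n n' => by_contra fun ne =>
    ht (mul_right_cancel₀ (sub_ne_zero.2 ne) (by
      have := (k c a n).trans (k c' a' n').symm
      rw [map_mul, map_mul] at this
      linear_combination this - θ t * a + θ t * a'))
  obtain ⟨c₀, h0⟩ : ∃ c₀, ∀ c, θ c * β - c = 0 → c = 0 ∨ c = c₀ := by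
    by_cases z : ∃ c, θ c * β - c = 0 ∧ c ≠ 0
    · obtain ⟨c, a, n⟩ := z
      exact ⟨c, fun c' a' => or_iff_not_imp_left.2 fun n' => u _ _ a' a n' n⟩
    · exact ⟨0, fun c a => .inl (by_contra fun n => z ⟨c, a, n⟩)⟩
  obtain ⟨x₀, h1⟩ : ∃ x₀, ∀ c, θ c * β - c = 0 ∨ θ (c - x₀) * β - (c - x₀) = 0 := by
    by_cases z : ∃ c, θ c * β - c ≠ 0
    · obtain ⟨c, a⟩ := z
      refine ⟨c, fun c' => (h c').imp_right fun a' => ?_⟩
      rw [map_sub]; linear_combination a' - (h c).resolve_left a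
    · exact ⟨0, fun c => .inl (by_contra fun n => z ⟨c, n⟩)⟩
  have := Fintype.ofFinite F
  rw [Nat.card_eq_fintype_card, ← Finset.card_univ]
  refine (Finset.card_le_card (t := {0, c₀, x₀, c₀ + x₀}) fun c _ => ?_).trans Finset.card_le_four
  rcases h1 c with a | a <;> rcases h0 _ a with a | a
  · simp [a]
  · simp [a]
  · simp [sub_eq_zero.1 a]
  · simp [sub_eq_iff_eq_add.1 a]

theorem hom_eq_of_sq [Finite F] {θ θ' : F →+* F} (h : ∀ x, θ (θ x) = x) (h' : ∀ x, θ' (θ' x) = x) (n : ¬ ∀ x, θ x = x)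
    (n' : ¬ ∀ x, θ' x = x) (x : F) : θ (θ' x) = x := by
  have := CF.Chev.isCyclic_ringAut (F := F)
  have := isCyclic_iff_exists_zpowers_eq_top.1 this
  have i : ∀ {θ : F →+* F}, (∀ x, θ (θ x) = x) → (¬ ∀ x, θ x = x) →
      CF.GW.Iv (RingEquiv.ofBijective θ (Finite.injective_iff_bijective.1 θ.injective) : RingAut F) := fun a b =>
    .mk' (fun c => b fun x => congrArg (fun s : RingAut F => s x) c) (RingEquiv.ext a)
  have e := CF.GW.eq_of_cyc (K := ⊤) inferInstance trivial trivial (i h n) (i h' n')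
  exact (congrArg (fun s : RingAut F => s (θ' x)) e).trans (h' x)

/-- the properties of a natural module -/
structure Lt (S B E : Subgroup G) : Prop where
  bk : Bk 2 B E
  off : ∀ X ≤ S, ⁅𝐖[2](E), X⁆ ≤ 𝐂(X) → ¬ X ≤ 𝐂(𝐖[2](E)) →
    Nat.card ↥(X ⊓ 𝐂(𝐖[2](E))) * Nat.card ↥𝐖[2](E) ≤ Nat.card X * Nat.card ↥(𝐖[2](E) ⊓ 𝐂(X)) →
      B ≤ X ⊔ 𝐂(𝐖[2](E)) ∧ X ≤ B ⊔ 𝐂(𝐖[2](E))
  cent : ∀ g ∈ S, g ∈ 𝐂(⁅𝐖[2](E), B⁆) → g ∈ B ⊔ 𝐂(𝐖[2](E))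
  triv : ∀ g ∈ S, (∀ w ∈ 𝐖[2](E), ⁅g, w⁆ ∈ 𝐂(B)) → g ∈ B ⊔ 𝐂(𝐖[2](E))
  fix : ∀ b ∈ B, b ∉ 𝐂(𝐖[2](E)) → ∀ w ∈ 𝐖[2](E), b * w = w * b → w ∈ 𝐂(B)
  tv : ∀ b ∈ B, b ∉ 𝐂(𝐖[2](E)) → ∀ i ∈ 𝐖[2](E) ⊓ 𝐂(B), ∃ w ∈ 𝐖[2](E), i⁻¹ * ⁅b, w⁆ ∈ 𝐂(E)
  quad : ⁅𝐖[2](E), B⁆ ≤ 𝐂(B)
  cnt : 𝐂(𝐖[2](E)).relIndex B ≤ 𝐂(B).relIndex 𝐖[2](E)

theorem exists_act (n : B ≤ 𝐍(W)) (hg : g ∈ B ⊔ 𝐂(W)) : ∃ b ∈ B, b⁻¹ * g ∈ 𝐂(W) ∧ ∀ w ∈ W, g * w * g⁻¹ = b * w * b⁻¹ := by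
  obtain ⟨b, hb, c, hc, rfl⟩ := (mem_sup_of_le_normalizer' (le_normalizer_centralizer n)).1 hg
  exact ⟨b, hb, by simpa using hc, fun w hw => by rw [mul_inv_rev, mul_assoc b, ← mul_assoc, mul_assoc b, conj_eq_of_mem_centralizer hc hw]⟩

variable [Finite G]

namespace Lt
variable (h : Lt S B E)
include h

theorem nW : B ≤ 𝐍(𝐖[2](E)) := h.bk.norm.trans (norm_W 2 E)

theorem fix' (hg : g ∈ B ⊔ 𝐂(𝐖[2](E))) (g0 : g ∉ 𝐂(𝐖[2](E))) (hw : w ∈ 𝐖[2](E)) (c : g * w = w * g) : w ∈ 𝐂(B) := by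
  obtain ⟨b, hb, e, k⟩ := exists_act h.nW hg
  exact h.fix b hb (fun z => g0 (by simpa using mul_mem z e)) w hw (by
    rw [← mul_inv_eq_iff_eq_mul, ← k w hw, c, mul_inv_cancel_right])

theorem tv' (hg : g ∈ B ⊔ 𝐂(𝐖[2](E))) (g0 : g ∉ 𝐂(𝐖[2](E))) (hv : v ∈ 𝐖[2](E) ⊓ 𝐂(B)) :
    ∃ w ∈ 𝐖[2](E), v⁻¹ * ⁅g, w⁆ ∈ 𝐂(E) := by
  obtain ⟨b, hb, e, k⟩ := exists_act h.nW hg
  obtain ⟨w, hw, c⟩ := h.tv b hb (fun z => g0 (by simpa using mul_mem z e)) v hv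
  exact ⟨w, hw, by rwa [commutatorElement_def, k w hw]⟩

theorem comm_mem (hg : g ∈ B ⊔ 𝐂(𝐖[2](E))) (hw : w ∈ 𝐖[2](E)) : ⁅g, w⁆ ∈ ⁅𝐖[2](E), B⁆ := by
  obtain ⟨b, hb, -, k⟩ := exists_act h.nW hg
  rw [commutatorElement_def, k w hw, commutator_comm]
  exact commutator_mem_commutator hb hw

theorem cen (hg : g ∈ B ⊔ 𝐂(𝐖[2](E))) (hw : w ∈ 𝐖[2](E) ⊓ 𝐂(B)) : g * w * g⁻¹ = w := by
  obtain ⟨b, hb, -, k⟩ := exists_act h.nW hg
  rw [k w hw.1, hw.2 b hb, mul_inv_cancel_right]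

theorem cnt' (l : X ≤ B ⊔ 𝐂(𝐖[2](E))) : 𝐂(𝐖[2](E)).relIndex X ≤ 𝐂(B).relIndex 𝐖[2](E) :=
  ((relIndex_le_of_le_right l FiniteIndex.index_ne_zero).trans (by
    rw [sup_comm, relIndex_sup_of_le_normalizer (le_normalizer_centralizer h.nW)])).trans h.cnt

end Lt

section
variable (l : LW 2 F B E φ) (h : Bk 2 B E)
include l

theorem lw_four : 4 ≤ Nat.card F := by
  have := l.fin
  refine (three_cases l.three).resolve_right fun e => one_ne_zero (α := F) ?_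
  have := l.char
  push_cast at this
  linear_combination e.1 - this

theorem lw_up (hX : IsPGroup 2 X) (h1 : X ≤ slA 𝐖[2](E) φ) (n : X ≤ 𝐍(B)) (pB : IsPGroup 2 B) (hg : g ∈ X) :
    ∃ t, rho 𝐖[2](E) φ g = upT t := by
  obtain ⟨s, e⟩ := l.exists_basis (W_pg E) (isPGroup_sup' hX pB n) (sup_le h1 l.leB)
  have k : ∀ g ∈ X ⊔ B, rho 𝐖[2](E) φ g • s⁻¹ • (![1, 0] : Fin 2 → F) = s⁻¹ • ![1, 0] := fun g hg => by
    obtain ⟨t, c⟩ := e g hg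
    rw [eq_inv_smul_iff, ← mul_smul, ← mul_smul, c, upT_smul]; simp
  obtain ⟨b, hb, c⟩ := l.up' 1
  have := congrFun (k b (mem_sup_right hb)) 0
  rw [c, upT_smul] at this
  exact SL2_eq_upT (by rw [ne_eq, smul_eq_zero_iff_eq]; simp) (by simpa using this) (k g (mem_sup_left hg))

include h

theorem lw_lin (hS : IsPGroup 2 S) (n : S ≤ 𝐍(E) ⊓ 𝐍(B)) (pB : IsPGroup 2 B) (hg : g ∈ S) (c : g ∈ l.glA) :
    g ∈ B ⊔ 𝐂(𝐖[2](E)) := by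
  have p := hS.to_le (zpowers_le.2 hg)
  have s := l.toLS.le_slA l.char p (zpowers_le.2 c)
  obtain ⟨t, e⟩ := lw_up l p s (zpowers_le.2 (n hg).2) pB (mem_zpowers g)
  obtain ⟨b, hb, e'⟩ := l.up' t
  have m := s (mem_zpowers g)
  have := h.lc l.toLS (mul_mem (inv_mem (h.norm hb)) (n hg).1) (mul_mem (inv_mem (l.leB hb)) m) (by
    rw [l.rho_mul (inv_mem (l.leB hb)) m, l.rho_inv (l.leB hb), e, e', inv_mul_cancel])
  simpa using mul_mem (mem_sup_left hb) (mem_sup_right (S := B) this)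

theorem lw_gl (hg : g ∈ B ⊔ 𝐂(𝐖[2](E))) (n : g ∈ 𝐍(E)) : g ∈ slA 𝐖[2](E) φ ∧ ∃ t, rho 𝐖[2](E) φ g = upT t := by
  obtain ⟨b, hb, -, k⟩ := exists_act (h.norm.trans (norm_W 2 E)) hg
  have e : ∀ v ∈ 𝐖[2](E), φ (g * v * g⁻¹) = rho 𝐖[2](E) φ b • φ v := fun v hv => by rw [k v hv, rho_spec (l.leB hb) hv]
  exact ⟨⟨norm_W 2 E n, _, e⟩, l.rho_eq (norm_W 2 E n) e ▸ l.up b hb⟩

omit h in
theorem lw_act1 (hg : g ∈ 𝐍(E) ⊓ 𝐍(B)) (c : F) : act 𝐖[2](E) φ g ![c, 0] 1 = 0 := by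
  obtain ⟨v, hv, e⟩ := l.surj ![c, 0]
  rw [← e, l.act_eq (norm_le_W 2 E hg.1).1 hv, l.fix _ (conj_mem_of_mem_normalizer (norm_W 2 E hg.1) hv)]
  exact conj_mem_of_mem_normalizer (normalizer_le_normalizer_centralizer B hg.2) ((l.fix v hv).1 (by rw [e]; rfl))

omit h in
theorem lw_semi (hg : g ∈ 𝐍(E) ⊓ 𝐍(B)) : ∃ (θ : F →+* F) (α β : F), α ≠ 0 ∧ β ≠ 0 ∧ ((∀ t, θ t = t) → g ∈ l.glA) ∧
    (∀ c, act 𝐖[2](E) φ g ![c, 0] = ![θ c * α, 0]) ∧ ∀ z, act 𝐖[2](E) φ g z 1 = θ (z 1) * β := by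
  have n := norm_le_W 2 E hg.1
  obtain ⟨θ, k⟩ := l.semi n.1 hg.1
  have a : ∀ c, act 𝐖[2](E) φ g ![c, 0] = ![θ c * act 𝐖[2](E) φ g ![1, 0] 0, 0] := fun c => by
    ext i; fin_cases i
    · rw [show (![c, 0] : Fin 2 → F) = c • ![1, 0] by simp, k]; simp
    · exact lw_act1 l hg c
  have b : ∀ z, act 𝐖[2](E) φ g z 1 = θ (z 1) * act 𝐖[2](E) φ g ![0, 1] 1 := fun z => by
    rw [vec_eq z, l.act_add n.1, Pi.add_apply, lw_act1 l hg, show (![0, z 1] : Fin 2 → F) = z 1 • ![0, 1] by simp, k]; simp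
  refine ⟨θ, _, _, fun e => l.act_ne n.1 (z := ![1, 0]) (by simp) (by rw [a, e]; simp), fun e => ?_,
    fun e => ⟨n.1, fun c z => by rw [k, e]⟩, a, b⟩
  have := b (act 𝐖[2](E) φ g⁻¹ ![0, 1])
  rw [l.act_inv n.1, e] at this
  simp at this

omit h in
theorem lw_mul (ha : a ∈ 𝐍(E)) (hb : b ∈ 𝐍(E)) (a2 : a * a = 1) (b2 : b * b = 1) (na : a ∉ l.glA) (nb : b ∉ l.glA) :
    a * b ∈ l.glA := by
  have := l.fin
  have n := fun {g} (hg : g ∈ 𝐍(E)) => (norm_le_W 2 E hg).1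
  have i : ∀ {a}, a ∈ 𝐍(E) → a * a = 1 → a ∉ l.glA → ∃ θ : F →+* F, (∀ x, θ (θ x) = x) ∧ (¬ ∀ x, θ x = x) ∧
      ∀ c z, act 𝐖[2](E) φ a (c • z) = θ c • act 𝐖[2](E) φ a z := fun ha a2 na =>
    let ⟨θ, k⟩ := l.semi (n ha) ha
    ⟨θ, fun x => by
      have := l.act_mul (n ha) (n ha) (x • ![1, 0])
      rw [k, k, ← l.act_mul (n ha) (n ha), a2, l.act_one, l.act_one] at this
      simpa using (congrFun this 0).symm, fun e => na ⟨n ha, fun c z => by rw [k, e]⟩, k⟩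
  obtain ⟨θ, e1, e2, k⟩ := i ha a2 na
  obtain ⟨θ', e1', e2', k'⟩ := i hb b2 nb
  exact ⟨mul_mem (n ha) (n hb), fun c z => by
    rw [l.act_mul (n ha) (n hb), l.act_mul (n ha) (n hb), k', k, hom_eq_of_sq e1 e1' e2 e2']⟩

omit h in
theorem lw_few0 (hg : g ∈ 𝐍(E) ⊓ 𝐍(B)) (n : g ∉ l.glA) {e : F}
    (c : ∀ v ∈ 𝐖[2](E) ⊓ 𝐂(B), φ ⁅g, v⁆ 0 = 0 ∨ φ ⁅g, v⁆ 0 = e) : Nat.card F ≤ 4 := by
  have := l.fin
  obtain ⟨θ, α, β, a0, -, k, a, -⟩ := lw_semi l hg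
  refine card_le_four (by simpa using l.char) (mt k n) a0 (e := e) fun x => ?_
  obtain ⟨v, hv, z⟩ := l.surj ![x, 0]
  have := c v ⟨hv, (l.fix v hv).1 (by rw [z]; rfl)⟩
  rwa [l.comm (norm_W 2 E hg.1) hv, ← l.act_eq (norm_le_W 2 E hg.1).1 hv, z, a] at this

omit h in
theorem lw_few1 (hg : g ∈ 𝐍(E) ⊓ 𝐍(B)) (n : g ∉ l.glA) {e : F}
    (c : ∀ v ∈ 𝐖[2](E), φ ⁅g, v⁆ 1 = 0 ∨ φ ⁅g, v⁆ 1 = e) : Nat.card F ≤ 4 := by
  have := l.fin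
  obtain ⟨θ, α, β, -, b0, k, -, a⟩ := lw_semi l hg
  refine card_le_four (by simpa using l.char) (mt k n) b0 (e := e) fun x => ?_
  obtain ⟨v, hv, z⟩ := l.surj ![0, x]
  have := c v hv
  rwa [l.comm (norm_W 2 E hg.1) hv, ← l.act_eq (norm_le_W 2 E hg.1).1 hv, z, Pi.sub_apply, a] at this

omit h in
theorem lw_comm (hg : g ∈ 𝐍(E) ⊓ 𝐍(B)) (c : ∀ b ∈ B, ⁅g, b⁆ ∈ 𝐂(𝐖[2](E))) : g ∈ l.glA := by
  obtain ⟨θ, α, β, a0, -, k, a, e⟩ := lw_semi l hg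
  have n := (norm_le_W 2 E hg.1).1
  have key : ∀ t, θ t * α = t * β := fun t => by
    obtain ⟨b, hb, r⟩ := l.up' t
    obtain ⟨v, hv, z⟩ := l.surj ![0, 1]
    have nb := (l.slA_le_glA (l.leB hb)).1
    have m := conj_mem_of_mem_normalizer (mul_mem nb n).1 hv
    have : act 𝐖[2](E) φ (g * b) (φ v) = act 𝐖[2](E) φ (b * g) (φ v) := by
      rw [l.act_eq (mul_mem n nb) hv, l.act_eq (mul_mem nb n) hv, ← conj_eq_of_mem_centralizer (c b hb) m,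
        commutatorElement_def]
      congr 1; group
    rw [l.act_mul n nb, l.act_mul nb n, l.act_rho (l.leB hb), l.act_rho (l.leB hb), r, z, upT_smul, upT_smul,
      vec_eq ![_, _], l.act_add n, e] at this
    simpa [a, add_comm] using congrFun this 0
  exact k fun t => mul_right_cancel₀ a0 (by have := key 1; rw [map_one, one_mul, one_mul] at this; rw [key t, this])

theorem lw_idx : 𝐂(𝐖[2](E)).relIndex B ≤ Nat.card F ∧ 𝐂(B).relIndex 𝐖[2](E) = Nat.card F := by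
  have := l.fin
  have := Fintype.ofFinite F
  have n := l.natOn h
  have c1 := PLocal.card_le_card_mul_of_fibers (A := B) (B := 𝐂(𝐖[2](E)) ⊓ B) inf_le_right (T := F)
    (fun a => (l.up a a.2).choose) fun a b e => ⟨h.lc l.toLS (h.norm (a⁻¹ * b).2) (l.leB (a⁻¹ * b).2) (by
      rw [coe_mul, coe_inv, l.rho_mul (inv_mem (l.leB a.2)) (l.leB b.2), l.rho_inv (l.leB a.2), (l.up a a.2).choose_spec,
        (l.up b b.2).choose_spec, e, inv_mul_cancel]), (a⁻¹ * b).2⟩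
  have c2 := n.card_V
  rw [← card_inf_mul_relIndex 𝐂(𝐖[2](E)) B, mul_comm] at c1
  rw [← card_inf_mul_relIndex 𝐂(B) 𝐖[2](E), mul_comm, inf_comm] at c2
  exact ⟨Nat.le_of_mul_le_mul_right c1 Nat.card_pos, Nat.eq_of_mul_eq_mul_right Nat.card_pos c2⟩

theorem lw_tv (hg : g ∈ B ⊔ 𝐂(𝐖[2](E))) (n : g ∈ 𝐍(E)) (g0 : g ∉ 𝐂(𝐖[2](E))) :
    ∃ t ≠ 0, ∀ v ∈ 𝐖[2](E), φ ⁅g, v⁆ = ![t * φ v 1, 0] :=
  let ⟨s, t, e⟩ := lw_gl l h hg n
  ⟨t, fun z => g0 (h.lc l.toLS n s (by rw [e, z, PLocal.upT_zero])), fun _ => l.comm_up s e⟩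

theorem lw_lt (hS : IsPGroup 2 S) (n : S ≤ 𝐍(E) ⊓ 𝐍(B)) (pB : IsPGroup 2 B) : Lt S B E := by
  have := l.fin
  have nE := n.trans inf_le_left
  refine ⟨h, fun X a q c o => ?_, fun g hg c => lw_lin l h hS n pB hg ?_, fun g hg c => lw_lin l h hS n pB hg ?_,
    fun b hb b0 w hw c => ?_, fun b hb b0 i hi => ?_, l.quad, (lw_idx l h).1.trans (lw_idx l h).2.ge⟩
  · have pX := hS.to_le a
    have k := l.lin_of_quad (W_pg E) pX ((a.trans nE).trans (norm_le_W 2 E)) q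
      (fun x hx e => h.mem_cent_W (nE (a hx)) fun v hv => (e v hv).2) o
    have s := l.toLS.le_slA l.char pX k
    refine ⟨fun b hb => ?_, fun x hx => lw_lin l h hS n pB (a hx) (k hx)⟩
    obtain ⟨t, e⟩ := l.up b hb
    obtain ⟨x, hx, e'⟩ := (l.off s (fun x hx => lw_up l pX s ((a.trans n).trans inf_le_right) pB hx)
      (fun x hx => h.lc l.toLS (nE (a hx)) (s hx)) c o).1 t
    have := h.lc l.toLS (mul_mem (inv_mem (nE (a hx))) (h.norm hb)) (mul_mem (inv_mem (s hx)) (l.leB hb)) (by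
      rw [l.rho_mul (inv_mem (s hx)) (l.leB hb), l.rho_inv (s hx), e, e', inv_mul_cancel])
    simpa using mul_mem (mem_sup_left hx) (mem_sup_right (S := X) this)
  · refine l.lin_of_fix (norm_le_W 2 E (nE hg)) (u := ![1, 0]) (by simp) fun t => ?_
    obtain ⟨b, hb, r⟩ := l.up' t
    obtain ⟨v, hv, z⟩ := l.surj ![0, 1]
    have e := l.comm_up (l.leB hb) r hv
    rw [show t • ![1, 0] = φ ⁅b, v⁆ by rw [e, z]; simp, l.act_eq (norm_le_W 2 E (nE hg)).1 (cm_mem (l.leB hb).1 hv),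
      conj_eq_of_mem_centralizer c (commutator_comm B _ ▸ commutator_mem_commutator hb hv)]
  · obtain ⟨θ, α, β, -, -, k, -, e⟩ := lw_semi l (n hg)
    have key : ∀ t, θ t * β = t := fun t => by
      obtain ⟨v, hv, z⟩ := l.surj ![0, t]
      have := (l.fix _ (cm_mem (norm_W 2 E (nE hg)) hv)).2 (c v hv)
      rwa [l.comm (norm_W 2 E (nE hg)) hv, ← l.act_eq (norm_le_W 2 E (nE hg)).1 hv, z, Pi.sub_apply, e, sub_eq_zero] at this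
    exact k fun t => by have := key 1; rw [map_one, one_mul] at this; simpa [this] using key t
  · obtain ⟨t, t0, e⟩ := lw_tv l h (mem_sup_left hb) (h.norm hb) b0
    have := congrFun (e w hw) 0
    rw [cm_one c, l.toAS.one] at this
    exact (l.fix w hw).1 ((mul_eq_zero.1 this.symm).resolve_left t0)
  · obtain ⟨t, t0, e⟩ := lw_tv l h (mem_sup_left hb) (h.norm hb) b0
    obtain ⟨w, hw, z⟩ := l.surj ![0, t⁻¹ * φ i 0]
    refine ⟨w, hw, ((l.eq_iff hi.1 (cm_mem (l.leB hb).1 hw)).1 ?_).2⟩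
    rw [e w hw, z]
    ext a; fin_cases a
    · simp [t0]
    · exact (l.fix i hi.1).2 hi.2

end

end CF.GC
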