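import Cfsg.Agent.Loc.GC3

/-! Global `C*(G,T)`: the case where the modules of all blocks commute. -/

set_option autoImplicit false
set_option linter.unusedSectionVars false

namespace CF.GC

open Cfsg Subgroup CF.Loc CF.FF Equiv
open CF.PLocal (maxAb thompson_le le_thompson upT)
open scoped commutatorElement MatrixGroups

universe u
variable {G : Type u} [Group G] {A B C E E' H K L M N P Q S T U V W X Y Z : Subgroup G} {a b c d e g k r t v w x y : G}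
variable {F : Type} [Field F] {φ : G → Fin 2 → F} {m : ℕ} {ψ : G → Fin (m + 1) → ZMod 2} {i j : Fin (m + 1)}

/-- the join of the modules of a family of blocks -/
def WW (s : Set (Subgroup G)) : Subgroup G := ⨆ E ∈ s, 𝐖[2](E)

/-- the blocks in `X` outside `M` -/
def Bs (M B X : Subgroup G) : Set (Subgroup G) := {E | Bk 2 B E ∧ ¬ E ≤ M ∧ E ≤ X}

variable {s s' : Set (Subgroup G)}

theorem le_WW (h : E ∈ s) : 𝐖[2](E) ≤ WW s := le_iSup₂_of_le (f := fun E _ => 𝐖[2](E)) E h le_rfl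

theorem WW_le : WW s ≤ N ↔ ∀ E ∈ s, 𝐖[2](E) ≤ N := iSup₂_le_iff

theorem WW_le_sSup : WW s ≤ sSup s := WW_le.2 fun E h => (FF.W_le 2 E).trans (le_sSup h)

theorem WW_mono (h : s ⊆ s') : WW s ≤ WW s' := WW_le.2 fun _ a => le_WW (h a)

theorem WW_insert : WW (insert E s) = 𝐖[2](E) ⊔ WW s := iSup_insert

theorem norm_WW (h : ∀ g ∈ X, ∀ E ∈ s, cj[g] E ∈ s) : X ≤ 𝐍(WW s) := le_normalizer_iff_cj.2 fun g hg =>
  cj_le_iff.2 (WW_le.2 fun E a => cj_le_iff.1 (cj_W (p := 2) g E ▸ le_WW (h g hg E a)))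

variable [Finite G]

theorem WW_Fm (h : Hy 2 X S M) : WW (Bs M 𝐁[2](S) X) = WW (Fm 2 X S M) :=
  le_antisymm (WW_le.2 fun _ ⟨a, b, c⟩ => let ⟨_, e, l⟩ := h.c3 (fun _ _ => mainP 2 _ _) a c b
    (e.1.toBx.W_mono (h.bx a c) l).trans (le_WW e)) (WW_mono fun _ e => ⟨e.1.toBk, e.2, e.1.le⟩)

theorem GS.norm_WW (h : GS T M B) (hX : IsCharP 2 X) (l : B ≤ X) : X ≤ 𝐍(WW (Bs M B X)) := by
  by_cases c : X ≤ M
  · rw [le_bot_iff.1 (WW_le.2 fun E e => (e.2.1 (e.2.2.trans c)).elim : WW (Bs M B X) ≤ ⊥)]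
    exact le_normalizer_of_normal' _ _
  obtain ⟨S, a, rfl⟩ := h.hy' hX l c
  exact WW_Fm a ▸ GC.norm_WW fun g hg E e => a.c2 (mainP 2 _ _) e hg

theorem GS.exists_cent (gs : GS T M 𝐁[2](S)) (h : Hy 2 H S M) (hE : E ∈ Fm 2 H S M) (hw : w ∈ 𝐖[2](E)) :
    ∃ g ∈ E, g * w * g⁻¹ ∈ 𝐂(𝐁[2](S)) := by
  rcases gs.kind h hE with ⟨F, _, φ, l, -⟩ | ⟨m, ψ, s⟩
  · by_cases c : w ∈ 𝐖[2](E) ⊓ 𝐂(E)
    · exact ⟨1, one_mem _, by simpa using (l.fix w hw).1 (by rw [(l.ker w hw).2 c]; rfl)⟩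
    obtain ⟨v, hv, e⟩ := l.surj ![1, 0]
    obtain ⟨g, hg, k⟩ := l.trans hw c hv fun z => by simpa [e] using (l.ker v hv).2 z
    exact ⟨g, hg, (l.fix _ (conj_mem_of_mem_normalizer (norm_W 2 E (le_normalizer hg)) hw)).1 (by rw [k, e]; rfl)⟩
  · exact s.exists_cent (s.eW.le hw)

theorem Fm_cent (hE : E ∈ Fm 2 H S M) (hs : s ⊆ Fm 2 H S M) (n : E ∉ s) : sSup s ≤ 𝐂(E) :=
  sSup_le fun _ e => (hE.1.eq_or (hs e).1).resolve_left fun c => n (c ▸ e)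

theorem GS.exists_cent' (gs : GS T M 𝐁[2](S)) (h : Hy 2 H S M) (hs : s ⊆ Fm 2 H S M) (hw : d ∈ WW s) :
    ∃ g ∈ sSup s, g * d * g⁻¹ ∈ 𝐂(𝐁[2](S)) := by
  induction s, Set.toFinite s using Set.Finite.induction_on generalizing d with
  | empty => exact ⟨1, one_mem _, by rw [show d = 1 by simpa [WW] using hw]; simp⟩
  | @insert E s n _ ih =>
    have hE := hs (Set.mem_insert E s)
    have hs' := (Set.subset_insert E s).trans hs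
    have c := Fm_cent hE hs' n
    rw [WW_insert] at hw
    obtain ⟨w, hw', d', hd, rfl⟩ := (mem_sup_of_le_normalizer ((WW_le_sSup.trans c).trans
      ((centralizer_le_normalizer _).trans (norm_W 2 E)))).1 hw
    obtain ⟨g, hg, e⟩ := gs.exists_cent h hE hw'
    obtain ⟨k, hk, e'⟩ := ih hs' hd
    refine ⟨k * g, by rw [sSup_insert]; exact mul_mem (mem_sup_right hk) (mem_sup_left hg), ?_⟩
    rw [Cl2.cjm, ← conj_mul (b := g), c (WW_le_sSup hd) g hg, mul_inv_cancel_right, ← conj_mul (b := k),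
      conj_eq_of_mem_centralizer (c hk) (conj_mem_of_mem_normalizer (le_normalizer hg) (FF.W_le 2 E hw'))]
    exact mul_mem e e'

/-- the case where the modules commute -/
structure C2 (T M U L : Subgroup G) : Prop where
  gs : GS T M 𝐁[2](T)
  eU : WW (Bs M 𝐁[2](T) ⊤) = U
  eL : 𝐍(U) = L
  ab : U ≤ 𝐂(U)

theorem GS.UB (h : GS T M B) : WW (Bs M B ⊤) ≤ B := WW_le.2 fun _ e => (h.W_le e.1 e.2.1).1

theorem GS.U_ne (h : GS T M B) : WW (Bs M B ⊤) ≠ ⊥ := fun e =>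
  let ⟨_, a, b, c⟩ := h.ex; let ⟨_, _, p⟩ := h.atom a b c
  p.bk.Wne (le_bot_iff.1 ((le_WW (s := Bs M B ⊤) ⟨p.bk, p.nle', le_top⟩).trans e.le))

theorem GS.blk (h : GS T M B) (ab : WW (Bs M B ⊤) ≤ 𝐂(WW (Bs M B ⊤))) (b : Bk 2 B E) (c : ¬ E ≤ M) : E ≤ 𝐍(WW (Bs M B ⊤)) :=
  have l := le_WW (s := Bs M B ⊤) ⟨b, c, le_top⟩
  le_normalizer_of_commutator_le le_rfl ((b.commW (h.UB.trans b.norm) (ab.trans (centralizer_anti l))).trans l)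

theorem GS.nBU (h : GS T M B) : 𝐍(B) ≤ 𝐍(WW (Bs M B ⊤)) := GC.norm_WW fun g hg _ e =>
  ⟨cj_eq_self hg ▸ e.1.cj g, by rw [cj_le_iff, cj_eq_self_of_mem (inv_mem (h.nB hg))]; exact e.2.1, le_top⟩

theorem GS.c2 (h : GS T M B) (c : ∀ P P', At M B P → At M B P' → 𝐖[2](𝐑[2](P)) ≤ 𝐂(𝐖[2](𝐑[2](P')))) :
    ∃ U L, C2 T M U L := by
  have ab : WW (Bs M B ⊤) ≤ 𝐂(WW (Bs M B ⊤)) := WW_le.2 fun E e => (h.W_le e.1 e.2.1).2 _ fun P a =>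
    le_centralizer_comm.1 (WW_le.2 fun E' e' => (h.W_le e'.1 e'.2.1).2 _ fun P' a' => c P' P a' a)
  obtain ⟨X, a, b, d⟩ := h.ex
  obtain ⟨P, -, p⟩ := h.atom a b d
  obtain ⟨S, s, e⟩ := h.hy' (h.lc _ (h.pB.to_le h.UB) h.U_ne) (le_normalizer.trans h.nBU)
    fun e => p.nle' ((h.blk ab p.bk p.nle').trans e)
  have : IsB 2 B ⊤ := ⟨S, isSyl_of_normalizer (s.syl.mono (le_inf le_top le_normalizer)
    (inf_le_right.trans ((norm_baumann 2 S).trans (e ▸ h.nBU)))), e⟩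
  obtain rfl := this.eq h.pT h.BT le_top
  exact ⟨_, _, by rwa [this.eq h.pT h.BT le_top], rfl, rfl, by rwa [this.eq h.pT h.BT le_top]⟩

namespace C2
variable (h : C2 T M U L)
include h

theorem UB : U ≤ 𝐁[2](T) := h.eU ▸ h.gs.UB
theorem UT : U ≤ T := h.UB.trans h.gs.BT
theorem pU : IsPGroup 2 U := h.gs.pT.to_le h.UT
theorem ne : U ≠ ⊥ := h.eU ▸ h.gs.U_ne
theorem WU (b : Bk 2 𝐁[2](T) E) (c : ¬ E ≤ M) : 𝐖[2](E) ≤ U := h.eU ▸ le_WW ⟨b, c, le_top⟩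
theorem blk (b : Bk 2 𝐁[2](T) E) (c : ¬ E ≤ M) : E ≤ L := h.eL ▸ h.eU ▸ h.gs.blk (h.eU ▸ h.ab) b c
theorem nB : 𝐍(𝐁[2](T)) ≤ L := h.eL ▸ h.eU ▸ h.gs.nBU
theorem TL : T ≤ L := le_normalizer.trans ((norm_baumann 2 T).trans h.nB)
theorem BL : 𝐁[2](T) ≤ L := h.gs.BT.trans h.TL
theorem ch : IsCharP 2 L := h.eL ▸ h.gs.lc U h.pU h.ne
theorem nU : L ≤ 𝐍(U) := h.eL.ge

theorem nle : ¬ L ≤ M := fun e =>
  let ⟨_, a, b, c⟩ := h.gs.ex; let ⟨_, _, p⟩ := h.gs.atom a b c; p.nle' ((h.blk p.bk p.nle').trans e)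

theorem hy : Hy 2 L T M :=
  let ⟨_, a, b, _⟩ := h.gs.hy h.ch h.nle h.gs.pT h.gs.BT (le_inf h.TL h.gs.le)
  h.gs.syl.eq_of_le b.syl.isPGroup a le_top ▸ b

theorem U_eq : WW (Fm 2 L T M) = U := by
  rw [← WW_Fm h.hy, ← h.eU]
  exact le_antisymm (WW_mono fun _ e => ⟨e.1, e.2.1, le_top⟩) (WW_mono fun _ e => ⟨e.1, e.2.1, h.blk e.1 e.2.1⟩)

theorem WU' (hE : E ∈ Fm 2 L T M) : 𝐖[2](E) ≤ U := h.WU hE.1.toBk hE.2

theorem ea : IsElementaryAbelian 2 U := h.U_eq ▸ isElemAb_iSup (fun E => isElemAb_iSup (fun _ => W_ea 2 E) fun _ _ => W_ab E)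
  fun _ _ => iSup_le fun a => le_centralizer_comm.1 (iSup_le fun b => (h.WU' b).trans (h.ab.trans (centralizer_anti (h.WU' a))))

theorem sq (hd : d ∈ U) : d * d = 1 := mul_self_of_elemAb h.ea hd

theorem exF : ∃ E, E ∈ Fm 2 L T M := let ⟨E, a, b, _⟩ := mainP 2 L T M h.hy h.nle; ⟨E, a, b⟩

theorem cjF (hE : E ∈ Fm 2 L T M) (hg : g ∈ L) : cj[g] E ∈ Fm 2 L T M := h.hy.c2 (mainP 2 _ _) hE hg

theorem wc (c : cj[g] 𝐁[2](T) ≤ L) : g ∈ L := by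
  have b : IsB 2 𝐁[2](T) ⊤ := IsSyl.isB h.gs.syl
  obtain ⟨l, hl, e⟩ := ((b.cj' (mem_top g)).mono c le_top).exists_cj h.hy.isB
  exact (L.mul_mem_cancel_left hl).1 (h.nB (cj_eq_self_iff.1 (cj_mul l g _ ▸ e)))

theorem split (hE : E ∈ Fm 2 L T M) : 𝐖[2](E) ⊔ WW (Fm 2 L T M \ {E}) = U := by
  rw [← WW_insert, Set.insert_diff_singleton, Set.insert_eq_of_mem hE, h.U_eq]

omit h in
theorem cc (hE : E ∈ Fm 2 L T M) : sSup (Fm 2 L T M \ {E}) ≤ 𝐂(E) := Fm_cent hE Set.diff_subset fun e => e.2 rfl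

theorem cw (b : Bk 2 𝐁[2](T) K) (c : ¬ K ≤ M) : 𝐂(𝐖[2](K)) ≤ L := by
  obtain ⟨E, hE, l⟩ := h.hy.c3 (fun _ _ => mainP 2 _ _) b (h.blk b c) c
  have bx := h.hy.bx b (h.blk b c)
  have lW := hE.1.toBx.W_mono bx l
  suffices ∃ p ∈ 𝐖[2](K) ⊓ 𝐂(𝐁[2](T)), p ≠ 1 ∧ 𝐖[2](E) ≤ WW (Bs M 𝐁[2](T) 𝐂(zpowers p)) ⊔ 𝐖[2](K) by
    obtain ⟨p, hp, p1, k⟩ := this
    have e : WW (Bs M 𝐁[2](T) 𝐂(zpowers p)) ⊔ 𝐖[2](K) = U := le_antisymm
      (sup_le (WW_le.2 fun _ e => h.WU e.1 e.2.1) (h.WU b c)) (h.split hE ▸ sup_le k (le_sup_of_le_left (WW_mono fun E' e =>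
        ⟨e.1.1.toBk, e.1.2, (le_sSup e).trans ((cc hE).trans (centralizer_anti (zpowers_le.2 (FF.W_le 2 E (lW hp.1)))))⟩)))
    rw [← h.eL, ← e]
    exact le_normalizer_sup ((centralizer_anti (zpowers_le.2 hp.1)).trans (h.gs.norm_WW (h.gs.lc.chC
      ((W_pg K).to_le (zpowers_le.2 hp.1)) (mt zpowers_eq_bot.1 p1)) (le_centralizer_comm.1 (zpowers_le.2 hp.2))))
      (centralizer_le_normalizer _)
  rcases h.gs.kind h.hy hE with ⟨F, _, φ, -, k, -⟩ | ⟨m, ψ, s⟩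
  · obtain ⟨⟨p, hp⟩, p1⟩ := ne_bot_iff_exists_ne_one.1
      (inf_centralizer_ne_bot (W_pg K) h.gs.pB (b.norm.trans (norm_W 2 K)) b.Wne)
    exact ⟨p, hp, fun e => p1 (Subtype.ext e), k K b l c ▸ le_sup_right⟩
  obtain ⟨a, a0, w, hw, e⟩ := s.exists_pr bx l c
  obtain ⟨x, r, a', p⟩ := s.tp a0
  have lW' := lW.trans s.eW.le
  have nx := norm_W 2 K (b.norm p.xB)
  have e' : ψ (x * w * x⁻¹) = pr 0 a' := by rw [s.d.conj_pr (s.s.norm p.xB) (lW' hw) e, s.b0 p.xB, p.sg, swap_apply_left]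
  refine ⟨r, ⟨s.r_mem p lW' nx fun z => ?_, s.r_cent p⟩, fun z => pr_ne_zero p.ne (p.val.symm.trans (z ▸ s.d.toAS.one)),
    s.eW.le.trans (s.le_of_pr fun i i0 => ?_)⟩
  · rw [conj_eq_of_mem_centralizer z hw, e] at e'
    simpa [pr, a0, p.ne] using congrFun e' a
  by_cases ia : i = a
  · exact ⟨w, ⟨lW' hw, mem_sup_right hw⟩, ia ▸ e⟩
  by_cases ia' : i = a'
  · have := conj_mem_of_mem_normalizer nx hw
    exact ⟨_, ⟨lW' this, mem_sup_right this⟩, ia' ▸ e'⟩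
  obtain ⟨x', r', j, q⟩ := s.tp i0
  obtain ⟨P, at', lP, fx, v, hv, z⟩ := s.cover h.gs q
  have y := comm_swap p.ne (q.sg ▸ s.d.tp_comm p s.s.toBk q.xB)
  have b1 : a ≠ j := fun e => by subst e; rw [swap_apply_right] at y; exact y.elim (fun y => ia y.1) fun y => ia' y.1
  have b2 : a' ≠ j := fun e => by subst e; rw [swap_apply_right] at y; exact y.elim (fun y => ia' y.2) fun y => ia y.2
  refine ⟨v, ⟨s.eW.le (hE.1.toBx.W_mono (h.hy.bx at'.bk (lP.trans hE.1.le)) lP hv), mem_sup_left (le_WW (s := Bs M _ _)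
    ⟨at'.bk, at'.nle', fun k hk => (s.d.cent_iff (le_normalizer (lP hk)) p.rW p.val p.ne).2 ?_⟩ hv)⟩, z⟩
  rw [← mul_inv_eq_iff_eq_mul, ← swap_apply_apply, fx k hk a a0 (Ne.symm ia) b1, fx k hk a' p.j0 (Ne.symm ia') b2]

theorem up (hY : IsCharP 2 Y) (l : 𝐁[2](T) ≤ Y) (c : ¬ Y ≤ M) : Y ≤ L := fun y hy => by
  obtain ⟨S, a, e⟩ := h.gs.hy' hY l c
  obtain ⟨E, s, n, -⟩ := mainP 2 Y S M a c
  have iB := a.isB
  have b := s.toBx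
  have r := b.res_le s.sn (s.ncl_norm iB) le_rfl
  rw [e] at iB b r
  obtain ⟨S', s', l'⟩ := exists_isSyl_ge h.gs.pB (le_ncl 𝐁[2](T) Y)
  exact h.wc ((cj_le_of_mem_normalizer (le_normalizer_ncl _ _ hy) (le_ncl _ _)).trans (s'.pResidualOf_sup.ge.trans (sup_le
    (r.trans (sup_le (h.blk b.toBk n) (h.cw b.toBk n))) (le_normalizer.trans
      ((iB.norm_le s'.isPGroup l' (s'.le.trans (ncl_le_of_le l))).trans h.nB)))))

theorem upN (hQ : IsPGroup 2 Q) (l : 𝐁[2](T) ≤ 𝐍(Q)) (hE : E ∈ Fm 2 L T M) (n : E ≤ 𝐍(Q)) (c : ¬ 𝐍(Q) ≤ L) : Q = ⊥ :=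
  by_contra fun e => c (h.up (h.gs.lc Q hQ e) l fun z => hE.2 (n.trans z))

theorem ng0 (hx : x ∉ L) (hd : d ∈ U ⊓ cj[x] U) (hg : g ∈ L) (c : g * d * g⁻¹ ∈ 𝐂(𝐁[2](T)))
    (l : K ≤ 𝐂(zpowers (g * d * g⁻¹))) (n : ¬ K ≤ M) : d = 1 := by_contra fun d1 => by
  have u := h.up (h.gs.lc.chC (h.pU.to_le (zpowers_le.2 (conj_mem_of_mem_normalizer (h.nU hg) hd.1)))
    (by simpa using d1)) (le_centralizer_comm.1 (zpowers_le.2 c)) fun e => n (l.trans e)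
  obtain ⟨k, hk, e⟩ := h.gs.exists_cent' h.hy le_rfl (h.U_eq.ge (mem_cj.1 hd.2))
  have := h.wc (g := g * x * k⁻¹) (le_trans (by
    rw [cj_le_iff, cj_centralizer, cj_zpowers]
    exact le_centralizer_comm.1 (zpowers_le.2 (by simpa [mul_assoc] using e))) u)
  exact hx ((L.mul_mem_cancel_left hg).1 ((L.mul_mem_cancel_right (inv_mem (sSup_Fm_le hk))).1 this))

theorem ng1 (hx : x ∉ L) (hd : d ∈ U ⊓ cj[x] U) (hE : E ∈ Fm 2 L T M) (c : d ∈ 𝐂(E)) : d = 1 :=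
  let ⟨_, hk, e⟩ := h.gs.exists_cent' h.hy le_rfl (h.U_eq.ge hd.1)
  h.ng0 hx hd (sSup_Fm_le hk) e (le_centralizer_comm.1 (zpowers_le.2 (conj_mem_of_mem_normalizer
    (normalizer_le_normalizer_centralizer E (Fm_le_norm hE.1 hk)) c))) hE.2

theorem ng2 (hx : x ∉ L) (hE : E ∈ Fm 2 L T M) (s : Sm m L T M E ψ) (hw : w ∈ 𝐖[2](E)) (hc : c ∈ WW (Fm 2 L T M \ {E}))
    (hd : w * c ∈ cj[x] U) (n : ∀ a, ψ w ≠ FF.cw a) : w * c = 1 := by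
  obtain ⟨g, hg, e⟩ := s.exists_cent (s.eW.le hw)
  obtain ⟨k, hk, e'⟩ := h.gs.exists_cent' h.hy Set.diff_subset hc
  have m := conj_mem_of_mem_normalizer (le_normalizer_pCoreOf 2 E hg) (s.eW.le hw)
  obtain ⟨K, l, c'⟩ := s.atom_cent h.gs ⟨m, e⟩ fun z => n ((sig 𝐎[2](E) ψ g)⁻¹ 0) (funext fun a => by
    rw [← sig_spec (s.d.le hg) (s.eW.le hw), z, ← cw_perm (sig 𝐎[2](E) ψ g) _ a, papply_inv])
  have z : k * g * (w * c) * (k * g)⁻¹ = g * w * g⁻¹ * (k * c * k⁻¹) := by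
    rw [Cl2.cjm, ← conj_mul (b := g), cc hE (WW_le_sSup hc) g hg, mul_inv_cancel_right, ← conj_mul (b := k),
      conj_eq_of_mem_centralizer (cc hE hk) (pCoreOf_le 2 E m)]
  have l' : sSup (Fm 2 L T M \ {E}) ≤ sSup (Fm 2 L T M) := sSup_le_sSup Set.diff_subset
  refine h.ng0 hx ⟨h.split hE ▸ mul_mem (mem_sup_left hw) (mem_sup_right hc), hd⟩ (mul_mem (sSup_Fm_le (l' hk))
    (hE.1.le hg)) (z ▸ mul_mem e e') (le_centralizer_comm.1 (zpowers_le.2 (z ▸ mul_mem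
      (zpowers_le.1 (le_centralizer_comm.1 (l.trans inf_le_right))) (centralizer_anti (l.trans inf_le_left) (cc hE ?_))))) c'
  exact conj_mem_of_mem_normalizer (le_normalizer hk) (WW_le_sSup hc)

end C2

end CF.GC
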