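import Cfsg.Agent.Loc.GC4

/-! Global `C*(G,T)`: the join of the modules is not contained in the core of a minimal parabolic. -/

set_option autoImplicit false
set_option linter.unusedSectionVars false

namespace CF.GC

open Cfsg Subgroup CF.Loc CF.FF Equiv
open CF.PLocal (maxAb thompson_le le_thompson upT)
open scoped commutatorElement MatrixGroups

universe u
variable {G : Type u} [Group G] {A B C E E' H K L M N P Q R S T U V W X Y Z : Subgroup G} {a b c d e g k r t u v w x y : G}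
variable {F : Type} [Field F] {φ : G → Fin 2 → F} {m : ℕ} {ψ : G → Fin (m + 1) → ZMod 2} {i j : Fin (m + 1)}

/-- the subgroup generated by the squares -/
def sqs (Q : Subgroup G) : Subgroup G := closure {z | ∃ q ∈ Q, q * q = z}

theorem sq_mem (h : a ∈ Q) : a * a ∈ sqs Q := subset_closure ⟨a, h, rfl⟩

theorem sqs_le_iff : sqs Q ≤ N ↔ ∀ a ∈ Q, a * a ∈ N :=
  ⟨fun h _ k => h (sq_mem k), fun h => (closure_le _).2 fun _ ⟨a, k, e⟩ => e ▸ h a k⟩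

theorem sqs_le : sqs Q ≤ Q := sqs_le_iff.2 fun _ h => mul_mem h h

theorem cj_sqs (g : G) (Q : Subgroup G) : cj[g] (sqs Q) = sqs (cj[g] Q) := by
  have k : ∀ (g : G) (Q : Subgroup G), cj[g] (sqs Q) ≤ sqs (cj[g] Q) := fun g Q =>
    cj_le_iff.2 (sqs_le_iff.2 fun a h => mem_cj.2 (by
      rw [inv_inv, ← conj_mul]; exact sq_mem (conj_mem_cj g h)))
  exact (k g Q).antisymm (le_cj_iff.2 ((k _ _).trans (by rw [cj_inv_cj])))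

theorem norm_sqs (Q : Subgroup G) : 𝐍(Q) ≤ 𝐍(sqs Q) := fun g h => by rw [← cj_eq_self_iff, cj_sqs, cj_eq_self h]

theorem sqs_sup (e : ∀ w ∈ W, w * w = 1) (c : Q ≤ 𝐂(W)) : sqs (W ⊔ Q) = sqs Q :=
  le_antisymm (sqs_le_iff.2 fun a h => by
    obtain ⟨w, hw, q, hq, rfl⟩ := (mem_sup_of_le_normalizer (c.trans (centralizer_le_normalizer _))).1 h
    rw [mul_assoc, ← mul_assoc q, ← c hq w hw, ← mul_assoc, ← mul_assoc, e w hw, one_mul]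
    exact sq_mem hq) (sqs_le_iff.2 fun _ h => sq_mem (mem_sup_right h))

theorem cj_sq (h : x⁻¹ * u * x * (x⁻¹ * u * x) = 1) : u * u = 1 := by
  rw [← conj_eq_one_iff (a := x⁻¹), ← h]; group

theorem le_of_sdiff (c : ¬ X ≤ Y) (h : ∀ x ∈ X, x ∉ Y → x ∈ N) : X ≤ N := fun x hx => by
  by_cases e : x ∈ Y
  · obtain ⟨y, hy, y0⟩ := SetLike.not_le_iff_exists.1 c
    simpa using mul_mem (h _ (mul_mem hx hy) fun z => y0 ((Y.mul_mem_cancel_left e).1 z)) (inv_mem (h y hy y0))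
  · exact h x hx e

theorem um_norm (h : UMax S (P ⊓ L) P) (n : S ≤ 𝐍(X)) (hx : x ∈ P) (c : x ∉ L) (e : x ∈ 𝐍(X)) : P ≤ 𝐍(X) :=
  inf_eq_left.1 (h.eq_of_not_le (le_inf (h.le.trans inf_le_left) n) inf_le_left fun z => c (z ⟨hx, e⟩).2)

theorem exists_cm (c : g ∉ 𝐂(W)) : ∃ w ∈ W, ⁅g, w⁆ ≠ 1 := by
  by_contra! z; exact c fun v hv => (commutatorElement_eq_one_iff_mul_comm.1 (z v hv)).symm

variable [Finite G]

theorem idx_le_of_card (e : Nat.card X = Nat.card W) (c : A.relIndex X ≤ B.relIndex W) :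
    Nat.card ↥(W ⊓ B) ≤ Nat.card ↥(X ⊓ A) := by
  have a := card_inf_mul_relIndex A X
  have b := card_inf_mul_relIndex B W
  rw [inf_comm W, inf_comm X]
  exact Nat.le_of_mul_le_mul_right (((b.trans (e.symm.trans a.symm)).le).trans (Nat.mul_le_mul_left _ c)) (BG.relIndex_pos _ _)

namespace C2
variable (h : C2 T M U L)
include h

theorem cN (hE : E ∈ Fm 2 L T M) (hg : g ∈ L) (c : g ∈ 𝐂(𝐖[2](E))) : g ∈ 𝐍(E) := hE.1.toBx.cent_norm ⟨hg, c⟩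

theorem cU (c : ∀ E ∈ Fm 2 L T M, g ∈ 𝐂(𝐖[2](E))) : g ∈ 𝐂(U) :=
  zpowers_le.1 (le_centralizer_comm.1 (h.U_eq.ge.trans (WW_le.2 fun E e => le_centralizer_comm.1 (zpowers_le.2 (c E e)))))

theorem two1 (hx : x ∉ L) (hE : E ∈ Fm 2 L T M) (hE' : E' ∈ Fm 2 L T M) (n : E' ≠ E) (hu : u ∈ 𝐍(E)) (hw : w ∈ 𝐖[2](E))
    (c : ⁅u, w⁆ ∈ cj[x] U) : ⁅u, w⁆ = 1 :=
  have m := cm_mem (norm_W 2 E hu) hw
  h.ng1 hx ⟨h.WU' hE m, c⟩ hE' ((hE'.1.eq_or hE.1).resolve_left n.symm (FF.W_le 2 E m))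

theorem two2 (hx : x ∉ L) (hE : E ∈ Fm 2 L T M) (hu : u ∈ L) (n : u ∉ 𝐍(E)) (hw : w ∈ 𝐖[2](E)) (w0 : w ∉ 𝐂(E))
    (c : ⁅u, w⁆ ∈ cj[x] U) (hE' : E' ∈ Fm 2 L T M) : E' = E ∨ E' = cj[u] E := by
  by_contra! z
  have m := conj_mem_cj u (FF.W_le 2 E hw)
  have := h.ng1 hx ⟨cm_mem (h.nU hu) (h.WU' hE hw), c⟩ hE' (mul_mem ((hE'.1.eq_or (h.cjF hE hu).1).resolve_left z.2.symm m)
    (inv_mem ((hE'.1.eq_or hE.1).resolve_left z.1.symm (FF.W_le 2 E hw))))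
  rw [commutatorElement_eq_one_iff_mul_comm.1 this, mul_inv_cancel_right] at m
  exact w0 ((hE.1.eq_or (h.cjF hE hu).1).resolve_left (mt cj_eq_self_iff.1 n) m)

omit h in
theorem exW (hE : E ∈ Fm 2 L T M) : ∃ w ∈ 𝐖[2](E), w ∉ 𝐂(E) := SetLike.not_le_iff_exists.1 hE.1.W_nt

theorem k2 (hx : x ∉ L) (hE : E ∈ Fm 2 L T M) (hE' : E' ∈ Fm 2 L T M) (n : E' ≠ E) (l : cj[x] U ≤ L) (l' : U ≤ 𝐍(cj[x] U))
    (hu : u ∈ cj[x] U) (u0 : u ∉ 𝐂(U)) (hv : v ∈ cj[x] U) (v0 : v ∉ 𝐂(U)) :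
    u⁻¹ * v ∈ 𝐂(U) ∧ ∀ K ∈ Fm 2 L T M, u ∉ 𝐍(K) := by
  have m : ∀ {u w}, u ∈ cj[x] U → w ∈ U → ⁅u, w⁆ ∈ cj[x] U := fun {u w} a b => commutatorElement_inv w u ▸ inv_mem (cm_mem (l' b) a)
  have a : ∀ K ∈ Fm 2 L T M, ∀ u ∈ cj[x] U, u ∈ 𝐍(K) → u ∈ 𝐂(𝐖[2](K)) := fun K hK u hu c w hw => by
    obtain ⟨K', a, b⟩ : ∃ K' ∈ Fm 2 L T M, K' ≠ K := by
      by_cases e : E = K
      exacts [⟨E', hE', e ▸ n⟩, ⟨E, hE, e⟩]
    exact (commutatorElement_eq_one_iff_mul_comm.1 (h.two1 hx hK a b c hw (m hu (h.WU' hK hw)))).symm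
  have b : ∀ K ∈ Fm 2 L T M, ∀ u ∈ cj[x] U, u ∉ 𝐍(K) → ∀ K' ∈ Fm 2 L T M, K' = K ∨ K' = cj[u] K := fun K hK u hu c K' hK' =>
    let ⟨w, hw, w0⟩ := exW hK; h.two2 hx hK (l hu) c hw w0 (m hu (h.WU' hK hw)) hK'
  have c : ∀ u ∈ cj[x] U, u ∉ 𝐂(U) → ∀ K ∈ Fm 2 L T M, u ∉ 𝐍(K) := fun u hu u0 K hK c => u0 (h.cU fun K' hK' =>
    a K' hK' u hu (by_contra fun z => by
      rcases b K' hK' u hu z K hK with rfl | e
      · exact z c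
      · exact z (cj_eq_self_iff.1 (e.symm.trans (cj_inj.1 ((cj_eq_self c).trans e))))))
  refine ⟨h.cU fun K hK => a K hK _ (mul_mem (inv_mem hu) hv) ?_, c u hu u0⟩
  rw [← cj_eq_self_iff, cj_mul, ← cj_eq_iff.1 ((b K hK u hu (c u hu u0 K hK) _ (h.cjF hK (l hv))).resolve_left
    (mt cj_eq_self_iff.1 (c v hv v0 K hK))).symm]

theorem one (hE : E ∈ Fm 2 L T M) (k : ∀ K ∈ Fm 2 L T M, K = E) : 𝐖[2](E) = U ∧ L ≤ 𝐍(E) :=
  ⟨(h.WU' hE).antisymm (h.U_eq.ge.trans (WW_le.2 fun K a => k K a ▸ le_rfl)), fun _ a => cj_eq_self_iff.1 (k _ (h.cjF hE a))⟩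

theorem pr4 (hx : x ∉ L) (hE : E ∈ Fm 2 L T M) (s : Sm m L T M E ψ) (m3 : 3 ≤ m) (hw : w ∈ 𝐖[2](E)) (e : ψ w = pr i j)
    (hc : c ∈ WW (Fm 2 L T M \ {E})) (hd : w * c ∈ cj[x] U) : i = j := by_contra fun n => by
  have z := h.ng2 hx hE s hw hc hd fun a => e ▸ pr_ne_cw m3 i j a
  have : w ∈ 𝐎[2](E) ⊓ 𝐂(E) := ⟨s.eW.le hw, eq_inv_of_mul_eq_one_left z ▸ 𝐂(E).inv_mem (cc hE (WW_le_sSup hc))⟩
  exact pr_ne_zero n (e.symm.trans ((s.d.ker w this.1).2 (s.d.cent.le this)))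

theorem lt1 (hE : E ∈ Fm 2 L T M) (n : T ≤ 𝐍(E)) : Lt T 𝐁[2](T) E ∨ ∃ m ψ, Sm m L T M E ψ ∧ 3 ≤ m := by
  rcases h.gs.kind h.hy hE with ⟨F, _, φ, l, -⟩ | ⟨m, ψ, s⟩
  · exact .inl (lw_lt l hE.1.toBk h.gs.pT (le_inf n (le_normalizer.trans (norm_baumann 2 T))) h.gs.pB)
  rcases s.d.two.eq_or_lt with rfl | c
  exacts [.inl (by have := s.lt.1; rwa [inf_of_le_left n] at this), .inr ⟨m, ψ, s, c⟩]

theorem not_lt (hE : E ∈ Fm 2 L T M) (e : 𝐖[2](E) = U) (l : Lt T 𝐁[2](T) E) (BS : 𝐁[2](T) ≤ S) (ST : S ≤ T)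
    (um : UMax S (P ⊓ L) P) (hR : R ≤ T) (n : P ≤ 𝐍(R)) (UR : U ≤ R) (hx : x ∈ P) (xL : x ∉ L) (c : ¬ cj[x] U ≤ 𝐂(U))
    (o : Nat.card ↥(cj[x] U ⊓ 𝐂(U)) ≤ Nat.card ↥(U ⊓ 𝐂(cj[x] U))) : False := by
  have off := l.off
  have cent := l.cent
  have fix := fun g w => l.fix' (g := g) (w := w)
  have cnt := fun X => l.cnt' (X := X)
  have cN := fun g => h.cN (g := g) hE
  have cW := fun Y => hE.1.toBk.commW (Y := Y)
  rw [e] at off cent fix cnt cN cW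
  revert h
  generalize U = W at *
  intro h
  have SP := um.le.trans inf_le_left
  have XR : ∀ {x}, x ∈ P → cj[x] W ≤ R := fun a => cj_le_of_mem_normalizer (n a) UR
  have nX : ∀ {x}, x ∈ P → W ≤ 𝐍(cj[x] W) := fun a => by
    rw [← cj_normalizer, le_cj_iff]; exact (XR (inv_mem a)).trans (hR.trans (h.TL.trans h.nU))
  have abX : ∀ x, cj[x] W ≤ 𝐂(cj[x] W) := fun x => cj_centralizer x W ▸ cj_mono x h.ab
  have key : ∀ {x}, x ∈ P → ¬ cj[x] W ≤ 𝐂(W) → Nat.card ↥(cj[x] W ⊓ 𝐂(W)) ≤ Nat.card ↥(W ⊓ 𝐂(cj[x] W)) →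
      𝐁[2](T) ≤ cj[x] W ⊔ 𝐂(W) ∧ cj[x] W ≤ 𝐁[2](T) ⊔ 𝐂(W) := fun {x} a c o => off _ ((XR a).trans hR)
    ((commutator_le_right_of_le_normalizer (nX a)).trans (abX x)) c (by rw [card_cj, mul_comm]; exact Nat.mul_le_mul_left _ o)
  obtain ⟨k1, k2⟩ := key hx c o
  have cC : ∀ {X Y : Subgroup G}, X ≤ Y ⊔ 𝐂(W) → W ⊓ 𝐂(Y) ≤ 𝐂(X) := fun a => le_centralizer_comm.1 (a.trans
    (sup_le (le_centralizer_comm.1 inf_le_right) (centralizer_anti inf_le_left)))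
  have c' : ¬ cj[x⁻¹] W ≤ 𝐂(W) := fun z => c (by rwa [← le_cj_iff, cj_centralizer, le_centralizer_comm] at z)
  obtain ⟨k3, k4⟩ := key (inv_mem hx) c' (by
    rw [← card_cj x, ← card_cj x (W ⊓ _), cj_inf, cj_inf, cj_centralizer, cj_centralizer, cj_cj_inv]
    exact (card_le_card_of_le (le_inf inf_le_left (cC k1))).trans (idx_le_of_card (card_cj x W) (cnt _ k2)))
  have nW := h.TL.trans h.nU
  have cm : ∀ {X Y : Subgroup G}, X ≤ Y ⊔ 𝐂(W) → Y ≤ 𝐍(W) → ⁅W, X⁆ ≤ ⁅W, Y⁆ := fun a b => (commutator_mono le_rfl a).trans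
    (commutator_sup_right_le (normalizer_commutator_ge_right _ _) ((centralizer_anti (commutator_le_left_of_le_normalizer b)).trans
      (centralizer_le_normalizer _)) le_rfl (comm_le_of_cent' le_rfl))
  have i1 : ∀ {x}, x ∈ P → 𝐁[2](T) ≤ cj[x] W ⊔ 𝐂(W) → cj[x] W ≤ 𝐁[2](T) ⊔ 𝐂(W) → ⁅W, cj[x] W⁆ = ⁅W, 𝐁[2](T)⁆ := fun a b c =>
    (cm c (h.gs.BT.trans nW)).antisymm (cm b ((XR a).trans (hR.trans nW)))
  have nB := le_normalizer.trans (norm_baumann 2 T)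
  have nI : P ≤ 𝐍(⁅W, 𝐁[2](T)⁆) := um_norm um (ST.trans (le_normalizer_commutator nW nB)) hx xL (by
    rw [← cj_eq_self_iff, ← i1 (inv_mem hx) k3 k4, cj_commutator, cj_cj_inv, commutator_comm, i1 hx k1 k2, i1 (inv_mem hx) k3 k4])
  have n1 : P ≤ 𝐍(R ⊓ 𝐂(⁅W, 𝐁[2](T)⁆)) := le_normalizer_inf n (le_normalizer_centralizer nI)
  have W1 : W ≤ R ⊓ 𝐂(⁅W, 𝐁[2](T)⁆) := le_inf UR (h.ab.trans (centralizer_anti
    (commutator_le_left_of_le_normalizer (h.gs.BT.trans nW))))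
  have r1 : R ⊓ 𝐂(⁅W, 𝐁[2](T)⁆) ≤ 𝐁[2](T) ⊔ 𝐂(W) := fun g hg => cent g (hR hg.1) hg.2
  have RT : R ⊓ 𝐂(⁅W, 𝐁[2](T)⁆) ≤ T := inf_le_left.trans hR
  generalize R ⊓ 𝐂(⁅W, 𝐁[2](T)⁆) = R₁ at n1 W1 r1 RT
  have X1 : cj[x] W ≤ R₁ := cj_le_of_mem_normalizer (n1 hx) W1
  have e1 : cj[x] (R₁ ⊓ 𝐂(W)) = R₁ ⊓ 𝐂(cj[x] W) := by rw [cj_inf, cj_centralizer, cj_eq_self (n1 hx)]
  have r2 : R₁ ≤ cj[x] W ⊔ 𝐂(W) := r1.trans (sup_le k1 le_sup_right)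
  have r3 : R₁ ≤ W ⊔ 𝐂(cj[x] W) := by
    have := cj_mono x (r1.trans (sup_le k3 le_sup_right))
    rwa [cj_eq_self (n1 hx), cj_sup, cj_cj_inv, cj_centralizer] at this
  have sp : ∀ {X Y Z : Subgroup G}, Z ≤ X ⊔ 𝐂(Y) → X ≤ Z → X ≤ 𝐍(Y) → Z = X ⊔ Z ⊓ 𝐂(Y) := fun a b c => by
    rw [sup_comm, inf_comm, ← sup_inf_of_le_normalizer_right (le_normalizer_centralizer c) b, eq_comm, inf_eq_right]
    exact a.trans (sup_comm _ _).le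
  have nX' := X1.trans (RT.trans nW)
  have q1 := sp (inf_le_left.trans r3) (le_inf W1 h.ab) (nX hx)
  have q2 := sp (inf_le_left.trans r2) (le_inf X1 (abX x)) nX'
  have sX : ∀ u ∈ cj[x] W, u * u = 1 := fun u hu => cj_sq (h.sq (mem_cj.1 hu))
  have nQ : S ≤ 𝐍(R₁ ⊓ 𝐂(W)) := le_normalizer_inf (SP.trans n1) (le_normalizer_centralizer (ST.trans nW))
  have pQ := h.gs.pT.to_le ((inf_le_left (b := 𝐂(W))).trans RT)
  have EQ : E ≤ 𝐍(R₁ ⊓ 𝐂(W)) := le_normalizer_of_commutator_le le_rfl ((cW (R₁ ⊓ 𝐂(W))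
    (fun g hg => cN g (h.TL (RT hg.1)) hg.2) inf_le_right).trans (le_inf W1 h.ab))
  have PL : ¬ P ≤ L := fun z => xL (z hx)
  have s0 := h.upN (pQ.to_le sqs_le) (BS.trans (nQ.trans (norm_sqs _))) hE (EQ.trans (norm_sqs _)) fun z => PL
    ((um_norm um (nQ.trans (norm_sqs _)) hx xL (by
      rw [← cj_eq_self_iff, cj_sqs, e1, q2, sqs_sup sX (inf_le_left.trans inf_le_right), inf_right_comm]
      conv_rhs => rw [q1, sqs_sup (fun _ => h.sq) (inf_le_left.trans inf_le_right)])).trans z)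
  have s1 : ∀ q ∈ R₁ ⊓ 𝐂(W), q * q = 1 := fun q hq => s0.le (sq_mem hq)
  have s2 : ∀ q ∈ R₁ ⊓ 𝐂(cj[x] W), q * q = 1 := fun q hq => cj_sq (s1 _ (mem_cj.1 (e1.ge hq)))
  have iv : ∀ g ∈ R₁, g ∉ 𝐂(W) → g * g = 1 → g ∈ 𝐂(cj[x] W) := fun g hg g0 g2 => by
    obtain ⟨w, hw, q, hq, rfl⟩ := (mem_sup_of_le_normalizer' (le_normalizer_inf (W1.trans le_normalizer)
      (le_normalizer_centralizer (nX hx)))).1 ((sp r3 W1 (nX hx)).le hg)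
    refine mul_mem (cC k2 ⟨hw, fix _ _ (r1 hq.1) (fun z => g0 (mul_mem (h.ab hw) z)) hw ?_⟩) hq.2
    rw [← mul_left_inj (w * q), g2, mul_assoc, ← mul_assoc w, h.sq hw, one_mul, s2 q hq]
  have Q0 : R₁ ⊓ 𝐂(W) ≠ ⊥ := fun z => h.ne (le_bot_iff.1 ((le_inf W1 h.ab).trans z.le))
  refine xL (inv_mem_iff.1 (h.wc (le_trans ?_ (h.up (h.gs.lc _ pQ Q0) (BS.trans nQ) fun z => hE.2 (EQ.trans z)))))
  rw [← le_cj_iff, cj_normalizer, e1]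
  refine le_normalizer_iff_cj.2 fun b hb => cj_le_iff.2 (le_of_sdiff (Y := 𝐂(W)) (fun z => c ((le_inf X1 (abX x)).trans z))
    fun q hq q0 => mem_cj.2 ?_)
  have m := conj_mem_of_mem_normalizer (n1 (SP (BS hb))) hq.1
  rw [inv_inv]
  exact ⟨m, iv _ m (fun z => q0 (by
    simpa [mul_assoc] using conj_mem_of_mem_normalizer' (le_normalizer_centralizer (h.gs.BT.trans nW) hb) z))
    (by rw [conj_mul, s2 q hq]; simp)⟩

theorem not_le (BS : 𝐁[2](T) ≤ S) (ST : S ≤ T) (um : UMax S (P ⊓ L) P) (hR : R ≤ T) (n : P ≤ 𝐍(R)) : ¬ U ≤ R := fun UR => by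
  have SP := um.le.trans inf_le_left
  have PL : ¬ P ≤ L := fun z => um.lt.not_ge (le_inf le_rfl z)
  have XR : ∀ {x}, x ∈ P → cj[x] U ≤ T := fun a => (cj_le_of_mem_normalizer (n a) UR).trans hR
  have nX : ∀ {x}, x ∈ P → U ≤ 𝐍(cj[x] U) := fun a => by
    rw [← cj_normalizer, le_cj_iff]; exact (XR (inv_mem a)).trans (h.TL.trans h.nU)
  obtain ⟨E, hE⟩ := h.exF
  by_cases c : ∀ x ∈ P, cj[x] U ≤ 𝐂(U)
  · have l : ncl U P ≤ T ⊓ 𝐂(𝐖[2](E)) := ncl_le_iff.2 fun x hx => le_inf (XR hx) ((c x hx).trans (centralizer_anti (h.WU' hE)))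
    refine h.ne (le_bot_iff.1 ((le_ncl U P).trans (h.upN (h.gs.pT.to_le (l.trans inf_le_left)) (BS.trans (SP.trans
      (le_normalizer_ncl U P))) hE (le_normalizer_of_commutator_le le_rfl ((hE.1.toBk.commW (fun g hg => h.cN hE (h.TL (l hg).1) (l hg).2)
        (l.trans inf_le_right)).trans ((h.WU' hE).trans (le_ncl U P)))) fun z => PL ((le_normalizer_ncl U P).trans z)).le))
  push Not at c
  obtain ⟨x, hx, c⟩ := c
  have xL : x ∉ L := fun z => c ((cj_eq_self (h.nU z)).le.trans h.ab)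
  have c' : ¬ cj[x⁻¹] U ≤ 𝐂(U) := fun z => c (by rwa [← le_cj_iff, cj_centralizer, le_centralizer_comm] at z)
  obtain ⟨u, hu, u0⟩ := SetLike.not_le_iff_exists.1 c
  by_cases k : ∀ K ∈ Fm 2 L T M, K = E
  · obtain ⟨e, nE⟩ := h.one hE k
    rcases h.lt1 hE (h.TL.trans nE) with l | ⟨m, ψ, s, m3⟩
    · rcases le_total (Nat.card ↥(cj[x] U ⊓ 𝐂(U))) (Nat.card ↥(U ⊓ 𝐂(cj[x] U))) with o | o
      · exact h.not_lt hE e l BS ST um hR n UR hx xL c o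
      · refine h.not_lt hE e l BS ST um hR n UR (inv_mem hx) (mt inv_mem_iff.1 xL) c' ?_
        rwa [← card_cj x, ← card_cj x (U ⊓ _), cj_inf, cj_inf, cj_centralizer, cj_centralizer, cj_cj_inv]
    have nu := nE (h.TL (XR hx hu))
    obtain ⟨i, hi⟩ : ∃ i, sig 𝐎[2](E) ψ u i ≠ i := by
      by_contra! z; exact u0 (centralizer_anti (e.ge.trans s.eW.le) ((s.d.sig_one_iff (s.d.nle nu)).1 (Equiv.ext z)))
    obtain ⟨w, hw, z⟩ := s.d.surj _ (sum_pr 0 i)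
    exact hi (h.pr4 xL hE s m3 (s.eW.ge (s.d.comm_mem nu hw)) (s.d.comm_pr ⟨XR hx hu, nu⟩ hw z) (one_mem _) (by
      rw [mul_one, ← commutatorElement_inv]; exact inv_mem (cm_mem (nX hx (e.le (s.eW.ge hw))) hu))).symm
  push Not at k
  obtain ⟨E', hE', k⟩ := k
  have u1 := (h.k2 xL hE hE' k ((XR hx).trans h.TL) (nX hx) hu u0 hu u0).2 E hE
  have f : ∀ w ∈ 𝐖[2](E), w ∈ 𝐂(cj[x] U) → w ∈ 𝐂(E) := fun w hw z => by
    have m := conj_mem_cj u (FF.W_le 2 E hw)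
    rw [z u hu, mul_inv_cancel_right] at m
    exact (hE.1.eq_or (h.cjF hE (h.TL (XR hx hu))).1).resolve_left (mt cj_eq_self_iff.1 u1) m
  have t : ∀ {w}, w ∈ 𝐂(cj[x] U) ↔ x⁻¹ * w * x⁻¹⁻¹ ∈ 𝐂(U) := by
    intro w; rw [← cj_centralizer, mem_cj, inv_inv]
  refine hE.1.bigW fun v hv w hw v0 w0 => f _ (mul_mem (inv_mem hv) hw) (t.2 ?_)
  rw [← conj_mul, ← conj_inv]
  exact (h.k2 (mt inv_mem_iff.1 xL) hE hE' k ((XR (inv_mem hx)).trans h.TL) (nX (inv_mem hx)) (conj_mem_cj _ (h.WU' hE hv))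
    (fun z => v0 (f v hv (t.2 z))) (conj_mem_cj _ (h.WU' hE hw)) fun z => w0 (f w hw (t.2 z))).1

end C2

end CF.GC
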