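import Cfsg.Agent.Loc.GC5

/-! Global `C*(G,T)`: an involution inverting an element of odd order, and counting lemmas. -/

set_option autoImplicit false
set_option linter.unusedSectionVars false

namespace CF.GC

open Cfsg Subgroup CF.Loc CF.FF Equiv
open CF.PLocal (maxAb thompson_le le_thompson upT)
open scoped commutatorElement MatrixGroups

universe u
variable {G : Type u} [Group G] {A B C D E E' H K L M N P Q R S T U V W X Y Z : Subgroup G} {a b c d e g k r t u v w x y z : G}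
variable {F : Type} [Field F] {φ : G → Fin 2 → F} {m : ℕ} {ψ : G → Fin (m + 1) → ZMod 2} {i j : Fin (m + 1)}

structure IV (R Y : Subgroup G) (a y : G) : Prop where
  c : ∀ u ∈ cj[y] Y ⊓ R, ∀ v ∈ Y ⊓ R, ⁅u, v⁆ ∈ cj[y] Y
  i : ∀ u ∈ cj[y] Y ⊓ R, ⁅u, a⁆ ∈ cj[y] Y → u ∈ Y
  s : ∀ d ∈ Y ⊓ R, ∃ u ∈ cj[y] Y ⊓ R, d⁻¹ * ⁅u, a⁆ ∈ cj[y] Y
  n : ¬ cj[y] Y ⊓ R ≤ Y
  ab : cj[y] Y ≤ 𝐂(cj[y] Y)
  sq : ∀ u ∈ cj[y] Y, u * u = 1

theorem cm_mem' (ha : a ∈ V) (hv : v ∈ 𝐍(V)) : ⁅a, v⁆ ∈ V := commutatorElement_inv v a ▸ inv_mem (cm_mem hv ha)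

variable [Finite G]

theorem exists_iv (hP : IsCharP 2 P) (e : IsElementaryAbelian 2 Y) (n : 𝐎[2](P) ≤ 𝐍(Y)) (ha : a ∈ Y) (aP : a ∈ P)
    (a0 : a ∉ 𝐎[2](P)) : ∃ y ∈ P, IV 𝐎[2](P) Y a y ∧ (∀ U : Subgroup G, IsPGroup 2 U → a ∈ U → y ∉ 𝐍(U)) ∧ Odd (orderOf y) := by
  have a2 := mul_self_of_elemAb e ha
  obtain ⟨y, hy, y1, yo, ey⟩ := exists_odd_inverted_of_not_mem a2 aP a0
  have nR := le_normalizer_pCoreOf 2 P
  have pR := isPGroup_pCoreOf 2 P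
  have cR : ∀ g ∈ P, g ∈ 𝐂(𝐎[2](P)) → g ∈ 𝐎[2](P) := fun g a b => hP ⟨a, b⟩
  generalize 𝐎[2](P) = R at *
  have ab := isElemAb_le_centralizer e
  have nX : R ≤ 𝐍(cj[y] Y) := by rw [← cj_normalizer, ← cj_eq_self (nR hy)]; exact cj_mono y n
  have abX : cj[y] Y ≤ 𝐂(cj[y] Y) := cj_centralizer y Y ▸ cj_mono y ab
  have bX := conj_mem_cj y ha
  have sX : ∀ u ∈ cj[y] Y, u * u = 1 := fun u hu => cj_sq (mul_self_of_elemAb e (mem_cj.1 hu))
  have core : ∀ r ∈ R, ⁅a, r⁆ ∈ cj[y] Y → ⁅y * a * y⁻¹, r⁆ ∈ Y → y * r * y⁻¹ = r := fun r hr c1 c2 => by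
    have c3 := cm_mem' ha (n hr)
    have c4 := cm_mem' bX (nX hr)
    have k : a * (y * a * y⁻¹) = y⁻¹ * y⁻¹ := by rw [← ey, inv_eq_of_mul_eq_one_right a2]; group
    have k1 : y⁻¹ * y⁻¹ * r * (y⁻¹ * y⁻¹)⁻¹ = ⁅y * a * y⁻¹, r⁆ * ⁅a, r⁆ * r := by
      rw [← k, Cl2.cjm, comm_conj_eq (y * a * y⁻¹), ← conj_mul, conj_eq_of_mem_centralizer (ab ha) c2, comm_conj_eq a, ← mul_assoc _ _ r]
    have m1 := mul_mem c2 c3
    have k2 : y⁻¹ * y⁻¹ * (⁅y * a * y⁻¹, r⁆ * ⁅a, r⁆) * (y⁻¹ * y⁻¹)⁻¹ = ⁅y * a * y⁻¹, r⁆ * ⁅a, r⁆ := by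
      rw [← k, Cl2.cjm, conj_eq_of_mem_centralizer (abX bX) (mul_mem c4 c1), conj_eq_of_mem_centralizer (ab ha) m1]
    have o : Odd (orderOf y⁻¹) := by rwa [orderOf_inv]
    refine mem_cent_zp.1 (inv_mem_iff.1 (mem_of_mul_self_mem o (mem_of_mul_self_mem
      (o.of_dvd_nat (by rw [← pow_two]; exact orderOf_pow_dvd 2)) (mem_cent_zp.2 ?_))))
    rw [Cl2.cjm, k1, ← conj_mul, k2, k1, ← mul_assoc, mul_self_of_elemAb e m1, one_mul]
  have i : ∀ u ∈ cj[y] Y ⊓ R, ⁅u, a⁆ ∈ cj[y] Y → u ∈ Y := fun u hu c => by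
    have := core u hu.2 (commutatorElement_inv u a ▸ inv_mem c) (by rw [cm_one (abX hu.1 _ bX)]; exact one_mem _)
    exact conj_mem_cj_iff.1 (this.symm ▸ hu.1)
  have c : ∀ u ∈ cj[y] Y ⊓ R, ∀ v ∈ Y ⊓ R, ⁅u, v⁆ ∈ cj[y] Y := fun u hu v hv => cm_mem' hu.1 (nX hv.2)
  have eq : Nat.card ↥(cj[y] Y ⊓ R) = Nat.card ↥(Y ⊓ R) := by rw [← card_cj y (Y ⊓ R), cj_inf, cj_eq_self (nR hy)]
  have m : ∀ u ∈ R, ⁅u, a⁆ ∈ Y ⊓ R := fun u hu => ⟨cm_mem (n hu) ha, cm_mem' hu (nR aP)⟩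
  refine ⟨y, hy, ⟨c, i, fun d hd => by_contra fun z => ?_, fun z => y1 ?_, abX, sX⟩, fun U pU hU z => y1 ?_, yo⟩
  · push Not at z
    let q : ↥(Y ⊓ R) → ↥(Y ⊓ R) ⧸ (cj[y] Y).subgroupOf (Y ⊓ R) := QuotientGroup.mk
    have hq : ∀ a b, q a = q b → (a : G)⁻¹ * b ∈ cj[y] Y := fun a b k => (QuotientGroup.eq (a := a) (b := b)).1 k
    have := PLocal.card_le_card_mul_of_fibers (A := cj[y] Y ⊓ R) (B := cj[y] Y ⊓ (Y ⊓ R)) (inf_le_inf_left _ inf_le_right)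
      (T := {c // c ≠ q ⟨d, hd⟩}) (fun u => ⟨q ⟨_, m u u.2.2⟩, fun k => z u u.2 (hq _ _ k.symm)⟩) fun u v k => by
        have k : ⁅(u : G), a⁆⁻¹ * ⁅(v : G), a⁆ ∈ cj[y] Y := hq _ _ (congrArg Subtype.val k)
        refine ⟨(u⁻¹ * v).2.1, i _ (u⁻¹ * v).2 ?_, (u⁻¹ * v).2.2⟩
        have := conj_mem_of_mem_normalizer' (le_normalizer u.2.1) (conj_mem_of_mem_normalizer (nX (m u u.2.2).2) k)
        rw [← ab (m u u.2.2).1 _ (mul_mem (inv_mem (m u u.2.2).1) (m v v.2.2).1), mul_inv_cancel_right,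
          ab (m v v.2.2).1 _ (inv_mem (m u u.2.2).1)] at this
        convert this using 1
        simp only [coe_mul, coe_inv, commutatorElement_def]; group
    have _ := Fintype.ofFinite (↥(Y ⊓ R) ⧸ (cj[y] Y).subgroupOf (Y ⊓ R))
    rw [eq, ← card_inf_mul_relIndex (cj[y] Y) (Y ⊓ R), mul_comm] at this
    exact (Nat.le_of_mul_le_mul_right this Nat.card_pos).not_gt (by
      classical
      rw [relIndex, index, Nat.card_eq_fintype_card, Nat.card_eq_fintype_card]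
      exact Fintype.card_subtype_lt (x := q ⟨d, hd⟩) (fun e => e rfl))
  · have e' := eq_of_le_of_card_le (le_inf z inf_le_right) eq.ge
    exact eq_one_of_coprime_of_mem pR (cR y hy (mem_centralizer_of_conj_eq fun r hr => core r hr
      (e'.ge ⟨cm_mem' ha (n hr), cm_mem (nR aP) hr⟩).1 (z ⟨cm_mem' bX (nX hr), cm_mem (nR (mul_mem (mul_mem hy aP) (inv_mem hy))) hr⟩)))
      (Nat.coprime_two_right.2 yo)
  · have := cm_mem' hU z
    rw [commutatorElement_def, ey] at this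
    exact eq_one_of_coprime_of_mem pU (inv_mem_iff.1 (mem_of_mul_self_mem (by rwa [orderOf_inv]) this)) (Nat.coprime_two_right.2 yo)

theorem no_off (hS : IsSyl 2 S P) (hM : UMax S M P) (hV : IsElementaryAbelian 2 V) (hP : P ≤ 𝐍(V)) (hT : 𝐎[2](P) ≤ 𝐂(V))
    (nr : ¬ 𝐑[2](P) ≤ 𝐂(V)) (hA : A ≤ S) (ea : IsElementaryAbelian 2 A) (h0 : ¬ A ≤ 𝐂(V))
    (ho : 𝐂(A).relIndex V ≤ 𝐂(V).relIndex A) : ¬ V ⊓ 𝐂(S) ≤ 𝐂(P) := fun hy => by
  have hS' := hS.le.trans hP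
  have hM' := hM.lt.le.trans hP
  have hA' := hA.trans hS'
  have s : Pre 2 (hat V V) (bar V P) (bar V S) (bar V M) := by
    refine ⟨isElemAb_hat hV, bar_le_normalizer_hat _, bar_inf_centralizer_hat hP, ?_, ?_, pCoreOf_bar_eq_bot hP
      ((hM.pIrr hS fun e => h0 (hA.trans ((pCoreOf_eq_of_isSyl hS e).ge.trans hT))).redMod hT nr)⟩
    · refine IsSyl.map _ ⟨comap_mono hS.le, isPGroup_subgroupOf hS.isPGroup, fun Q hQ a b => ?_⟩
      rw [← hS.eq_of_le (hQ.map _) (by rw [← map_subgroupOf_eq_of_le hS']; exact map_mono a) (map_le_iff_le_comap.2 b),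
        subgroupOf, comap_map_eq_self_of_injective (subtype_injective _)]
    · refine UMax.map _ (uMax_map_subtype_iff.1 (by
        rwa [map_subgroupOf_eq_of_le hS', map_subgroupOf_eq_of_le hM', map_subgroupOf_eq_of_le hP])) ?_
      rw [ker_piV]
      exact fun x hx => (hM.le_or_le hS.isPGroup inf_le_left (le_normalizer_inf le_normalizer
        (le_normalizer_centralizer hP))).resolve_left (fun e => nr (e.trans inf_le_right)) ⟨hx.1, hx.2⟩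
  obtain ⟨A', a1, a2, -⟩ := exists_off (p := 2) (V := hat V V) (P := bar V P) (isElemAb_bar ea) (bar_mono (hA.trans hS.le))
    (mt (bar_eq_bot_iff hA').1 h0) le_rfl (by
      rw [hat_inf_centralizer hA', card_hat le_rfl, card_hat inf_le_left, card_bar hA', ← card_inf_mul_relIndex 𝐂(A) V,
        inf_comm, mul_comm]
      exact Nat.mul_le_mul_right _ ho)
  refine s.not_le a2.le (fun e => a2.ne (le_bot_iff.1 (s.faith ▸ le_inf a2.le e))) ⟨a2.best,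
    comm_le_of_cent (isElemAb_le_centralizer a2.ea), fun a ha => by rw [a2.ea.2 a ha]; exact one_mem _⟩ ?_
  rwa [hat_inf_centralizer hS', hat_le_centralizer_iff inf_le_left hP]

theorem idx_le_of_fun {α : Type*} [Finite α] (f : X → α) (h : ∀ a b : X, f a = f b → ((a⁻¹ * b : X) : G) ∈ Y) :
    Y.relIndex X ≤ Nat.card α := by
  have := PLocal.card_le_card_mul_of_fibers (A := X) (B := Y ⊓ X) inf_le_right f fun a b e => ⟨h a b e, (a⁻¹ * b).2⟩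
  rw [← card_inf_mul_relIndex Y X, mul_comm] at this
  exact Nat.le_of_mul_le_mul_right this Nat.card_pos

theorem idx_fact (n : X ≤ 𝐍(Y)) : 𝐂(Y).relIndex X ≤ (Nat.card Y).factorial := by
  rw [← Nat.card_perm]
  refine idx_le_of_fun (fun g => (cact Y ⟨g, n g.2⟩).toEquiv) fun a b e => mem_centralizer_of_conj_eq fun v hv => ?_
  have : (a : G) * v * (a : G)⁻¹ = b * v * (b : G)⁻¹ := congrArg (fun s : Perm Y => (s ⟨v, hv⟩ : G)) e
  rw [coe_mul, coe_inv, Cl2.cjm, ← this]; group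

theorem Sm.fact (s : Sm m H S M E ψ) (n : X ≤ 𝐍(E)) : 𝐂(𝐖[2](E)).relIndex X ≤ (m + 1).factorial := by
  rw [show (m + 1).factorial = Nat.card (Perm (Fin (m + 1))) by rw [Nat.card_perm, Nat.card_eq_fintype_card, Fintype.card_fin]]
  refine idx_le_of_fun (fun g => sig 𝐎[2](E) ψ g) fun a b e => ?_
  rw [s.eW, ← s.d.sig_one_iff (s.d.nle (n (a⁻¹ * b).2)), coe_mul, coe_inv,
    s.d.sig_mul (inv_mem (s.d.nle (n a.2))) (s.d.nle (n b.2)), s.d.sig_inv (s.d.nle (n a.2)), e, inv_mul_cancel]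

theorem card_le_idx (a : ℕ) (h : X.relIndex T ≤ a) (b : ℕ) (k : Nat.card ↥(T ⊓ X) ≤ b) : Nat.card T ≤ b * a := by
  rw [← card_inf_mul_relIndex X T, inf_comm]; exact Nat.mul_le_mul k h

theorem le_pow_ten (p : IsPGroup 2 T) (h : Nat.card T < 2048) : Nat.card T ≤ 2 ^ 10 := by
  obtain ⟨n, e⟩ := IsPGroup.iff_card.1 p
  rw [e] at h ⊢
  exact Nat.pow_le_pow_right two_pos (Nat.le_of_lt_succ ((Nat.pow_lt_pow_iff_right one_lt_two).1 (h.trans_eq (by norm_num))))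

theorem inf_omega (p : IsPGroup 2 T) (l : D ≤ T) (n : T ≤ 𝐍(D)) (c : D ⊓ 𝛀[2](T) = ⊥) : D = ⊥ := by_contra fun e => by
  have q := p.to_le l
  obtain ⟨x, hx, o⟩ := exists_orderOf_eq_of_isPGroup (q.to_le inf_le_left) (inf_centralizer_ne_bot q p n e)
  have := mem_bot.1 (c.le ⟨hx.1, mem_omegaOneCenter.2 ⟨l hx.1, hx.2, o ▸ pow_orderOf_eq_one x⟩⟩)
  simp [this] at o

end CF.GC
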