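import Cfsg.Agent.Loc.GC6

/-! Global `C*(G,T)`: the case `C(Ω₁Z(T)) ≰ L`. -/

set_option autoImplicit false
set_option linter.unusedSectionVars false

namespace CF.GC

open Cfsg Subgroup CF.Loc CF.FF Equiv
open CF.PLocal (maxAb thompson_le le_thompson upT)
open scoped commutatorElement MatrixGroups

universe u
variable {G : Type u} [Group G] {A B C D E E' H K L M N P Q R S T U V W X Y Z : Subgroup G} {a b c d e g k q r t u v w x y z : G}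
variable {F : Type} [Field F] {φ : G → Fin 2 → F} {m : ℕ} {ψ : G → Fin (m + 1) → ZMod 2} {i j : Fin (m + 1)}

theorem cml (m n a : G) : ⁅m * n, a⁆ = m * ⁅n, a⁆ * m⁻¹ * ⁅m, a⁆ := by simp only [commutatorElement_def]; group

theorem ea_of_sq (h : ∀ q ∈ Q, q * q = 1) : IsElementaryAbelian 2 Q :=
  isElementaryAbelian_iff.2 ⟨fun a ha b hb => by
    rw [← inv_eq_of_mul_eq_one_right (h _ (mul_mem hb ha)), mul_inv_rev, inv_eq_of_mul_eq_one_right (h a ha),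
      inv_eq_of_mul_eq_one_right (h b hb)], fun a ha => (pow_two a).trans (h a ha)⟩

theorem not_two [Finite F] (h : 3 ≤ Nat.card F) {e : F} (c : ∀ s, s = 0 ∨ s = e) : False := by
  classical
  have := Fintype.ofFinite F
  rw [Nat.card_eq_fintype_card, ← Finset.card_univ] at h
  exact absurd (h.trans ((Finset.card_le_card (t := {0, e}) fun s _ => by simpa using c s).trans Finset.card_le_two)) (by decide)

variable [Finite G]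

structure H2 (T M U L P : Subgroup G) : Prop extends C2 T M U L where
  um : UMax T (P ⊓ L) P
  chP : IsCharP 2 P
  cz : P ≤ 𝐂(𝛀[2](T))

namespace H2
variable (h : H2 T M U L P)
include h

theorem TP : T ≤ P := h.um.le.trans inf_le_left
theorem syl : IsSyl 2 T P := h.gs.syl.mono h.TP le_top
theorem RT : 𝐎[2](P) ≤ T := h.syl.pCoreOf_le
theorem nR : T ≤ 𝐍(𝐎[2](P)) := h.TP.trans (le_normalizer_pCoreOf 2 P)
theorem nB' : T ≤ 𝐍(𝐁[2](T)) := le_normalizer.trans (norm_baumann 2 T)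
theorem WT (hE : E ∈ Fm 2 L T M) : 𝐖[2](E) ≤ T := (h.WU' hE).trans h.UT

theorem c0 (hg : g ∈ T) (c : ∀ E ∈ Fm 2 L T M, g ∈ 𝐂(E)) : g = 1 := by
  obtain ⟨E, hE⟩ := h.exF
  refine mem_bot.1 ((inf_omega (D := T ⊓ 𝐂(sSup (Fm 2 L T M))) h.gs.pT inf_le_left (le_normalizer_inf le_normalizer
    (le_normalizer_centralizer (h.TL.trans (h.hy.c2' (mainP 2 _ _))))) (le_bot_iff.1 fun z hz => by_contra fun z1 => ?_)).le
      ⟨hg, zpowers_le.1 (le_centralizer_comm.1 (sSup_le fun E e => le_centralizer_comm.1 (zpowers_le.2 (c E e))))⟩)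
  exact h.um.lt.not_ge (le_inf le_rfl ((h.cz.trans (centralizer_anti (zpowers_le.2 hz.2))).trans (h.up (h.gs.lc.chC
    (h.gs.pT.to_le (zpowers_le.2 hz.1.1)) (mt zpowers_eq_bot.1 z1)) (h.gs.BT.trans (le_centralizer_comm.1
      ((zpowers_le.2 hz.2).trans (omegaOneCenter_le_centralizer 2 T)))) fun e => hE.2 ((le_centralizer_comm.1
        (zpowers_le.2 (centralizer_anti (le_sSup hE) hz.1.2))).trans e))))

theorem w0 (hE : E ∈ Fm 2 L T M) (hw : w ∈ 𝐖[2](E)) (c : w ∈ 𝐂(E)) : w = 1 :=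
  h.c0 (h.WT hE hw) fun K a => (a.1.eq_or hE.1).elim (fun e => e ▸ c) fun e => e (FF.W_le 2 E hw)

theorem comp (hE : E ∈ Fm 2 L T M) (hu : u ∈ 𝐍(E)) (hw : w ∈ 𝐖[2](E)) (hc : c ∈ 𝐂(E)) (e : w * c * u = u * (w * c)) :
    u * w = w * u ∧ u * c = c * u := by
  have k : w⁻¹ * (u * w * u⁻¹) = c * (u * c * u⁻¹)⁻¹ := by
    rw [inv_mul_eq_iff_eq_mul, ← mul_assoc, eq_mul_inv_iff_mul_eq, conj_mul, ← e, mul_inv_cancel_right]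
  have z := h.w0 hE (mul_mem (inv_mem hw) (conj_mem_of_mem_normalizer (norm_W 2 E hu) hw)) (k ▸ mul_mem hc
    (inv_mem (conj_mem_of_mem_normalizer (normalizer_le_normalizer_centralizer E hu) hc)))
  exact ⟨mul_inv_eq_iff_eq_mul.1 (inv_mul_eq_one.1 z).symm, mul_inv_eq_iff_eq_mul.1 (mul_inv_eq_one.1 (k ▸ z)).symm⟩

theorem QE (hE : E ∈ Fm 2 L T M) : ⁅T ⊓ 𝐂(U), E⁆ ≤ 𝐖[2](E) :=
  have l := inf_le_right.trans (centralizer_anti (h.WU' hE))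
  hE.1.toBk.commW (fun _ a => h.cN hE (h.TL a.1) (l a)) l

theorem UQ : U ≤ T ⊓ 𝐂(U) := le_inf h.UT h.ab

theorem nQ (hE : E ∈ Fm 2 L T M) : E ≤ 𝐍(T ⊓ 𝐂(U)) :=
  le_normalizer_of_commutator_le le_rfl ((h.QE hE).trans ((h.WU' hE).trans h.UQ))

theorem Qea : IsElementaryAbelian 2 (T ⊓ 𝐂(U)) := ea_of_sq fun q hq => h.c0 (mul_mem hq.1 hq.1) fun E hE e he => by
  have m := h.WU' hE (h.QE hE (commutator_mem_commutator hq he))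
  rw [← mul_inv_eq_iff_eq_mul.1 (show q * q * e * (q * q)⁻¹ = e by
    rw [Cl2.cjm, comm_conj_eq q e, ← conj_mul, conj_eq_of_mem_centralizer hq.2 m, comm_conj_eq q e, ← mul_assoc, h.sq m, one_mul])]

theorem QB : T ⊓ 𝐂(U) ≤ 𝐁[2](T) := le_inf inf_le_left (le_centralizer_comm.1 ((le_inf ((omega_le_B 2 T).trans h.gs.BT)
  fun _ a => h.cU fun E hE => let d := h.hy.c4 (fun _ _ => mainP 2 _ _) hE
    centralizer_anti hE.1.toBk.Wcore.le (d.r3 _ (omega_le_B 2 T) d.z a)).trans (isElemAb_le_centralizer h.Qea)))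

theorem tpC (hE : E ∈ Fm 2 L T M) (p : FF.TP T E ψ x r i j) (s : Sm m L T M E ψ) (hE' : E' ∈ Fm 2 L T M) (n : E' ≠ E) :
    x ∈ 𝐂(𝐖[2](E')) := fun w hw => (commutatorElement_eq_one_iff_mul_comm.1 (h.w0 hE' (cm_mem (norm_W 2 _ (hE'.1.norm p.xB)) hw)
      ((hE'.1.eq_or hE.1).resolve_left n.symm (zpowers_le.2 (pCoreOf_le 2 E p.rW) (comm_mem_zp p.comm (h.UB (h.WU' hE' hw))))))).symm

theorem idx (hE : E ∈ Fm 2 L T M) (s : Sm m L T M E ψ) : 𝐂(E).relIndex (T ⊓ 𝐂(U)) ≤ 2 ^ m := by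
  refine s.idx (Y := 𝐂(WW (Fm 2 L T M \ {E}))) h.QB (h.nQ hE) (le_centralizer_comm.1 (WW_le_sSup.trans (C2.cc hE)))
    (fun x r i j p => zpowers_le.1 (le_centralizer_comm.1 (WW_le.2 fun K a => le_centralizer_comm.1
      (zpowers_le.2 (h.tpC hE p s a.1 a.2))))) fun g hg => isElemAb_le_centralizer h.Qea ⟨?_, ?_⟩
  · have n : E ⊔ T ⊓ 𝐍(E) ≤ 𝐍(E) := sup_le le_normalizer inf_le_right
    exact (hE.1.isSyl.le_of_le_normalizer (hE.1.toBk.cent_isPGroup (h.gs.pT.to_le inf_le_left) inf_le_right) inf_le_left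
      (le_sup_right.trans (le_normalizer_inf le_normalizer (le_normalizer_centralizer (n.trans (norm_W 2 E)))))
      ⟨sup_le_sup_left (le_inf h.gs.BT hE.1.norm) E hg.1.1, hg.2⟩).1
  · rw [← h.split hE, centralizer_sup]; exact ⟨hg.2, hg.1.2⟩

theorem Q0 (c : ∀ E ∈ Fm 2 L T M, N ≤ 𝐂(E)) : Nat.card ↥(T ⊓ 𝐂(U)) = N.relIndex (T ⊓ 𝐂(U)) := by
  rw [← card_inf_mul_relIndex N, show N ⊓ (T ⊓ 𝐂(U)) = ⊥ from le_bot_iff.1 fun g a => h.c0 a.2.1 fun E e => c E e a.1,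
    card_bot, one_mul]

theorem sm1 (hE : E ∈ Fm 2 L T M) (s : Sm m L T M E ψ) (k : ∀ K ∈ Fm 2 L T M, K = E) (m4 : m ≤ 4) : Nat.card T < 2048 := by
  obtain ⟨e, n⟩ := h.one hE k
  exact (card_le_idx 120 (e ▸ (s.fact (h.TL.trans n)).trans (Nat.factorial_le (n := 5) (by omega))) 16
    ((h.Q0 fun K a => k K a ▸ le_rfl).le.trans ((h.idx hE s).trans (Nat.pow_le_pow_right two_pos m4)))).trans_lt (by decide)

theorem sm2 {ψ : G → Fin 3 → ZMod 2} (hE : E ∈ Fm 2 L T M) (s : Sm 2 L T M E ψ) (hu : u ∈ T)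
    (k : ∀ K ∈ Fm 2 L T M, K = E ∨ K = cj[u] E) : Nat.card T < 2048 := by
  have nQ : T ≤ 𝐍(T ⊓ 𝐂(U)) := le_normalizer_inf le_normalizer (le_normalizer_centralizer (h.TL.trans h.nU))
  have a1 : Nat.card ↥(T ⊓ 𝐂(U)) ≤ 16 := by
    rw [h.Q0 (N := 𝐂(E) ⊓ 𝐂(cj[u] E)) fun K a => (k K a).elim (fun e => e ▸ inf_le_left) fun e => e ▸ inf_le_right]
    refine relIndex_inf_le.trans (Nat.mul_le_mul (n₂ := 2 ^ 2) (m₂ := 2 ^ 2) (h.idx hE s) ?_)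
    rw [← cj_centralizer, ← cj_eq_self (nQ hu), relIndex_cj]
    exact h.idx hE s
  have mv : ∀ a ∈ T, a ∉ 𝐍(E) → cj[a] E = cj[u] E := fun a b c => (k _ (h.cjF hE (h.TL b))).resolve_left (mt cj_eq_self_iff.1 c)
  have a2 : 𝐍(E).relIndex T ≤ 2 := Cl2.idx_le_two fun a ha b hb a0 b0 => by
    rw [← cj_eq_self_iff, cj_mul, mv b hb b0, ← mv a⁻¹ (inv_mem ha) (mt inv_mem_iff.1 a0), cj_cj_inv]
  have a3 : 𝐂(U).relIndex (T ⊓ 𝐍(E)) ≤ 36 := by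
    refine (relIndex_le_of_le_left (H := 𝐂(𝐖[2](E)) ⊓ 𝐂(𝐖[2](cj[u] E))) (fun g a => h.cU fun K b => (k K b).elim
      (fun e => e ▸ a.1) fun e => e ▸ a.2) FiniteIndex.index_ne_zero).trans (relIndex_inf_le.trans
        (Nat.mul_le_mul (n₂ := 6) (m₂ := 6) (s.fact inf_le_right) ?_))
    rw [← cj_W, ← cj_centralizer, ← cj_cj_inv u (T ⊓ _), relIndex_cj]
    refine s.fact (cj_le_iff_forall.2 fun g a => by_contra fun z => ?_)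
    have := mv _ (mul_mem (mul_mem (inv_mem hu) a.1) (inv_mem (inv_mem hu))) z
    by_cases c : u ∈ 𝐍(E)
    · exact z (mul_mem (mul_mem (inv_mem c) a.2) (inv_mem (inv_mem c)))
    rw [inv_inv, cj_mul, cj_mul, ← mv u⁻¹ (inv_mem hu) (mt inv_mem_iff.1 c), cj_inj, cj_eq_iff, cj_eq_self (inv_mem a.2)] at this
    exact c (inv_mem_iff.1 (cj_eq_self_iff.1 this))
  refine (card_le_idx 2 a2 _ (card_le_idx 36 a3 16 ((card_le_card_of_le (inf_le_inf_right _ inf_le_left)).trans a1))).trans_lt (by decide)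

theorem lt (hE : E ∈ Fm 2 L T M) (l : LW 2 F 𝐁[2](T) E φ) : Lt (T ⊓ 𝐍(E)) 𝐁[2](T) E :=
  lw_lt l hE.1.toBk (h.gs.pT.to_le inf_le_left) (le_inf inf_le_right (inf_le_left.trans h.nB')) h.gs.pB

theorem lw1 (hE : E ∈ Fm 2 L T M) (l : LW 2 F 𝐁[2](T) E φ) (at' : At M 𝐁[2](T) K) (eK : 𝐑[2](K) = E)
    (k : ∀ K ∈ Fm 2 L T M, K = E) (q : Nat.card F ≤ 4) : Nat.card T < 2048 := by
  obtain ⟨e, n⟩ := h.one hE k
  have := l.fin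
  have lt := h.lt hE l
  have nW := h.TL.trans h.nU
  have i := lw_idx l hE.1.toBk
  have c4 : 𝐂(𝐁[2](T)).relIndex 𝐖[2](E) ≤ 4 := i.2.le.trans q
  have a1 : Nat.card ↥(𝐖[2](E) ⊓ 𝐂(𝐁[2](T))) ≤ 4 := (Nat.card_le_card_of_injective (fun v : ↥(𝐖[2](E) ⊓ 𝐂(𝐁[2](T))) => φ v 0) fun v w z => Subtype.ext
    (inv_mul_eq_one.1 (h.w0 hE (mul_mem (inv_mem v.2.1) w.2.1) ((l.eq_iff v.2.1 w.2.1).1 (by
      rw [vec_eq (φ v), vec_eq (φ w), (l.fix _ v.2.1).2 v.2.2, (l.fix _ w.2.1).2 w.2.2, show φ v 0 = φ w 0 from z])).2))).trans q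
  have a2 := (idx_fact (le_normalizer_inf (e ▸ nW) (le_normalizer_centralizer h.nB'))).trans (Nat.factorial_le a1)
  have a3 := (lt.cnt' (X := T ⊓ 𝐂(𝐖[2](E) ⊓ 𝐂(𝐁[2](T)))) fun g a => lt.cent g ⟨a.1, n (h.TL a.1)⟩ (centralizer_anti
    (le_inf (commutator_le_left_of_le_normalizer lt.nW) lt.quad) a.2)).trans c4
  obtain ⟨X, r⟩ := at'.rk
  have eQ : 𝐎[2](K) = T ⊓ 𝐂(U) := le_antisymm (le_inf (r.pan.syl.pCoreOf_le.trans h.gs.BT) ((core_le_cent 2 K).trans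
    (centralizer_anti (e ▸ eK ▸ r.W.le.trans (commutator_le_left_of_le_normalizer ((pResidualOf_le _ _).trans (norm_V 2 K)))))))
    (le_pCoreOf (isElemAb_isPGroup h.Qea) (h.QB.trans r.pan.syl.le) (at'.sup.ge.trans (sup_le (eK ▸ h.nQ hE) (h.gs.BT.trans
      (le_normalizer_inf le_normalizer (le_normalizer_centralizer nW))))))
  have eV : 𝐕[2](K) = T ⊓ 𝐂(U) := by rw [eQ, inf_of_le_left (isElemAb_le_centralizer h.Qea)]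
  obtain ⟨F', _, _, ρ, ψ, nt, -⟩ := r.pan.nat
  have b1 := nt.card_A
  have b2 := nt.card_V'
  rw [r.pan.cent_V, eQ, ← card_mul_relIndex h.QB, mul_comm] at b1
  rw [eV, show T ⊓ 𝐂(U) ⊓ 𝐂(K) = ⊥ from le_bot_iff.1 fun g a => h.c0 a.1.1 fun E' b => k E' b ▸ eK ▸
    centralizer_anti (pResidualOf_le 2 K) a.2, card_bot, mul_one, ← Nat.eq_of_mul_eq_mul_right Nat.card_pos b1,
    inf_comm, ← inf_relIndex_right, inf_assoc, inf_of_le_right h.gs.BT, inf_relIndex_right, inf_comm] at b2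
  refine (card_le_idx 24 a2 _ (card_le_idx 4 a3 16 ((card_le_card_of_le (inf_le_inf inf_le_left (e ▸ le_rfl))).trans
    (b2.le.trans (Nat.pow_le_pow_left (e ▸ i.1.trans q) 2))))).trans_lt (by decide)

theorem iv (e : IsElementaryAbelian 2 Y) (l : Y ≤ U) (n : 𝐎[2](P) ≤ 𝐍(Y)) (ha : a ∈ Y) (a0 : a ∉ 𝐎[2](P)) :
    ∃ y ∈ P, IV 𝐎[2](P) Y a y ∧ y ∉ L ∧ Odd (orderOf y) :=
  let ⟨y, b, c, d, o⟩ := exists_iv h.chP e n ha (h.TP (h.UT (l ha))) a0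
  ⟨y, b, c, fun z => d U h.pU (l ha) (h.nU z), o⟩

theorem mv (hE : E ∈ Fm 2 L T M) (ha : a ∈ 𝐖[2](E)) (hy : y ∈ P) (iv : IV 𝐎[2](P) U a y) (n : ¬ 𝐎[2](P) ≤ 𝐍(E)) :
    ∃ u ∈ cj[y] U ⊓ 𝐎[2](P), u ∉ 𝐍(E) := by
  by_contra! c
  obtain ⟨r, hr, r0⟩ := SetLike.not_le_iff_exists.1 n
  have rL := h.TL (h.RT hr)
  refine iv.n fun u hu => iv.i u hu ?_
  obtain ⟨v, hv, z⟩ := iv.s _ ⟨cm_mem (h.nU rL) (h.WU' hE ha), cm_mem' hr (h.nR (h.WT hE ha))⟩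
  have m : r * u * r⁻¹ ∈ cj[y] U ⊓ 𝐎[2](P) := ⟨conj_mem_of_mem_normalizer (by
    rw [← cj_normalizer, mem_cj]; exact h.nU (h.TL (h.RT (conj_mem_of_mem_normalizer' (le_normalizer_pCoreOf 2 P hy) hr)))) hu.1,
      conj_mem_of_mem_normalizer (le_normalizer hr) hu.2⟩
  have m1 := cm_mem (norm_W 2 E (c v hv)) ha
  have m2 := (hE.1.eq_or (h.cjF hE rL).1).resolve_left (mt cj_eq_self_iff.1 r0) (conj_mem_cj r (FF.W_le 2 E (inv_mem ha)))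
  have := (h.comp hE (c _ m) (mul_mem ha m1) m2 (by
    rw [mul_assoc a, m2 _ (FF.W_le 2 E m1), ← mul_assoc a]
    convert iv.ab m.1 _ z using 2 <;> simp only [commutatorElement_def] <;> group)).2
  rw [conj_mul, conj_mul, mul_left_inj, mul_right_inj] at this
  rw [cm_one ((Commute.inv_right_iff.1 this).eq)]; exact one_mem _

theorem inR (hE : E ∈ Fm 2 L T M) (hx : x ∈ T) (c : ∀ K ∈ Fm 2 L T M, K ≠ E → x ∈ 𝐂(𝐖[2](K))) (hu : u ∈ 𝐎[2](P))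
    (u0 : u ∉ 𝐍(E)) (hw : w ∈ 𝐖[2](E)) : ⁅x, w⁆ ∈ 𝐎[2](P) := by
  have := c _ (h.cjF hE (inv_mem (h.TL (h.RT hu)))) (fun e => u0 (inv_mem_iff.1 (cj_eq_self_iff.1 e))) _
    (cj_W (p := 2) u⁻¹ E ▸ conj_mem_cj u⁻¹ hw)
  convert cm_mem' (cm_mem (h.nR hx) hu) (h.nR (h.WT hE hw)) using 1
  simp only [commutatorElement_def]
  calc _ = x * u * (u⁻¹ * w * u⁻¹⁻¹) * u⁻¹ * x⁻¹ * w⁻¹ := by group
    _ = x * u * (x⁻¹ * (u⁻¹ * w * u⁻¹⁻¹ * x)) * u⁻¹ * x⁻¹ * w⁻¹ := by rw [this]; group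
    _ = _ := by group

theorem mvL (hE : E ∈ Fm 2 L T M) (l : LW 2 F 𝐁[2](T) E φ) (ha : a ∈ 𝐖[2](E)) (yL : y ∉ L) (iv : IV 𝐎[2](P) U a y)
    (hu : u ∈ cj[y] U ⊓ 𝐎[2](P)) (u0 : u ∉ 𝐍(E)) : False := by
  have := l.fin
  have lt := h.lt hE l
  have WU := h.WU' hE
  have RL := h.RT.trans h.TL
  obtain ⟨x, hx, x0⟩ : ∃ x ∈ T ⊓ E, x ∉ 𝐂(𝐖[2](E)) := by
    obtain ⟨g, hg, e⟩ := (l.rng (upT 1)).1 (CF.Classical.commutator_SL2_eq_top (lw_four l) ▸ mem_top _)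
    have g2 : g * g ∈ 𝐎[2](E) := (l.kr _ (mul_mem hg hg)).1 (by
      rw [l.rho_mul (l.le hg) (l.le hg), e, PLocal.upT_mul, one_add_one_eq_two, show (2 : F) = 0 by simpa using l.char, PLocal.upT_zero])
    obtain ⟨k, e'⟩ := isPGroup_iff_forall.1 (isPGroup_pCoreOf 2 E) _ g2
    obtain ⟨f, hf, z⟩ := (hE.1.sn.isSyl_inf hE.1.syl).exists_cj_le (isPGroup_zpowers (k := k + 1) (by
      rw [pow_succ', pow_mul, pow_two, e'])) (zpowers_le.2 hg)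
    refine ⟨_, z (conj_mem_cj f (mem_zpowers g)), fun c => ?_⟩
    have := (l.kr g hg).2 (hE.1.inf_cent.le ⟨hg, by
      simpa [mul_assoc] using conj_mem_of_mem_normalizer' (le_normalizer_centralizer (le_normalizer.trans (norm_W 2 E)) hf) c⟩)
    simpa [e, upT] using congrArg (fun m : SL(2, F) => m 0 1) this
  have IR : 𝐖[2](E) ⊓ 𝐂(𝐁[2](T)) ≤ 𝐎[2](P) := fun i hi => by
    obtain ⟨w, hw, z⟩ := lt.tv' (lw_lin l hE.1.toBk (h.gs.pT.to_le inf_le_left) (le_inf inf_le_right (inf_le_left.trans h.nB'))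
      h.gs.pB ⟨hx.1, le_normalizer hx.2⟩ (l.slA_le_glA (l.le hx.2))) x0 hi
    rw [inv_mul_eq_one.1 (h.w0 hE (mul_mem (inv_mem hi.1) (cm_mem (norm_W 2 E (le_normalizer hx.2)) hw)) z)]
    exact h.inR hE hx.1 (fun K a b => centralizer_anti (FF.W_le 2 K) ((a.1.eq_or hE.1).resolve_left b.symm hx.2)) hu.2 u0 hw
  have ex : ∀ s, ∃ i ∈ 𝐖[2](E) ⊓ 𝐂(𝐁[2](T)), φ i 0 = s := fun s =>
    let ⟨v, hv, e⟩ := l.surj ![s, 0]; ⟨v, ⟨hv, (l.fix v hv).1 (by rw [e]; rfl)⟩, by rw [e]; rfl⟩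
  obtain ⟨i₀, hi, e0⟩ := ex 1
  have hE' := h.cjF hE (RL hu.2)
  have n' : cj[u] E ≠ E := mt cj_eq_self_iff.1 u0
  have two := fun K => h.two2 (E' := K) yL hE (RL hu.2) u0 hi.1 (fun z => by simp [h.w0 hE hi.1 z, l.toAS.one] at e0)
    (iv.c u hu _ ⟨WU hi.1, IR hi⟩)
  have cE : ∀ {g w}, g ∈ L → g ∉ 𝐍(E) → w ∈ 𝐖[2](E) → g * w * g⁻¹ ∈ 𝐂(E) := fun {g w} a b c =>
    (hE.1.eq_or (h.cjF hE a).1).resolve_left (mt cj_eq_self_iff.1 b) (conj_mem_cj g (FF.W_le 2 E c))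
  have c1 : ∀ v ∈ cj[y] U ⊓ 𝐎[2](P), v ∈ 𝐍(E) → v ∈ 𝐂(𝐖[2](E)) := fun v hv n => by_contra fun v0 => by
    have c : ∀ w ∈ 𝐖[2](E), w ∈ 𝐎[2](P) → v * w = w * v := fun w a b =>
      commutatorElement_eq_one_iff_mul_comm.1 (h.two1 yL hE hE' n' n a (iv.c v hv w ⟨WU a, b⟩))
    have I := le_inf (commutator_le_left_of_le_normalizer lt.nW) lt.quad
    have f := fun w a b => (l.fix w a).2 (lt.fix' (lt.cent v ⟨h.RT hv.2, n⟩ fun w a => (c w (I a).1 (IR (I a))).symm) v0 a b)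
    refine not_two l.three (e := φ a 1) fun s => ?_
    obtain ⟨w, hw, e⟩ := l.surj ![0, s]
    obtain rfl : φ w 1 = s := by rw [e]; rfl
    obtain ⟨u', hu', z⟩ := iv.s _ ⟨cm_mem (h.nU (RL hu.2)) (WU hw), cm_mem' hu.2 (h.nR (h.WT hE hw))⟩
    have z := iv.ab hv.1 _ z
    have m2 := cE (RL hu.2) u0 (inv_mem hw)
    by_cases k : u' ∈ 𝐍(E)
    · have m1 := cm_mem (norm_W 2 E k) ha
      have := (h.comp hE n (mul_mem hw m1) m2 (by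
        rw [mul_assoc w, m2 _ (FF.W_le 2 E m1), ← mul_assoc w]
        convert z using 2 <;> simp only [commutatorElement_def] <;> group)).1
      rw [mul_assoc, ← c _ m1 (cm_mem' hu'.2 (h.nR (h.WT hE ha))), ← mul_assoc, ← mul_assoc, mul_left_inj] at this
      exact .inl (f w hw this)
    · have m3 := mul_mem m2 (cE (RL hu'.2) k ha)
      have := f _ (mul_mem hw (inv_mem ha)) (h.comp hE n (mul_mem hw (inv_mem ha)) m3 (by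
        rw [mul_assoc w, m3 _ (FF.W_le 2 E (inv_mem ha))]
        convert z using 2 <;> simp only [commutatorElement_def] <;> group)).1
      rw [l.mul _ hw _ (inv_mem ha), l.inv ha, Pi.add_apply, Pi.neg_apply, add_neg_eq_zero] at this
      exact .inr this
  have ng : ∀ i ∈ 𝐖[2](E), i ∈ cj[y] U → i = 1 := fun i a b =>
    h.ng1 yL ⟨WU a, b⟩ hE' ((hE'.1.eq_or hE.1).resolve_left n'.symm (FF.W_le 2 E a))
  have c2 : ∀ i ∈ 𝐖[2](E) ⊓ 𝐂(𝐁[2](T)), i ≠ 1 → i⁻¹ * ⁅u, a⁆ ∈ cj[y] U := fun i hi i1 => by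
    obtain ⟨u', hu', z⟩ := iv.s i ⟨WU hi.1, IR hi⟩
    by_cases k : u' ∈ 𝐍(E)
    · rw [cm_one (c1 u' hu' k a ha).symm, mul_one] at z
      exact (i1 (ng i hi.1 (inv_mem_iff.1 z))).elim
    have := c1 _ (mul_mem (inv_mem hu) hu') (by
      rw [← cj_eq_self_iff, cj_mul, (two _ (h.cjF hE (RL hu'.2))).resolve_left (mt cj_eq_self_iff.1 k), cj_inv_cj]) a ha
    rwa [← mul_inv_cancel_left u u', cml, cm_one this.symm, mul_one, mul_inv_cancel, one_mul] at z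
  refine not_two l.three (e := φ i₀ 0) fun s => ?_
  obtain ⟨i, a, rfl⟩ := ex s
  by_cases i1 : i = 1
  · exact .inl (by rw [i1, l.toAS.one]; rfl)
  have := mul_mem (c2 i a i1) (inv_mem (c2 i₀ hi fun z => by simp [z, l.toAS.one] at e0))
  rw [mul_inv_rev, mul_assoc, mul_inv_cancel_left, inv_inv] at this
  exact .inr (by rw [inv_mul_eq_one.1 (ng _ (mul_mem (inv_mem a.1) hi.1) this)])

theorem moving (hE : E ∈ Fm 2 L T M) (ha : a ∈ 𝐖[2](E)) (a0 : a ∉ 𝐎[2](P)) (n : ¬ 𝐎[2](P) ≤ 𝐍(E)) : Nat.card T < 2048 := by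
  obtain ⟨y, hy, iv, yL, -⟩ := h.iv h.ea le_rfl (h.RT.trans (h.TL.trans h.nU)) (h.WU' hE ha) a0
  obtain ⟨u, hu, u0⟩ := h.mv hE ha hy iv n
  have uL := h.TL (h.RT hu.2)
  rcases h.gs.kind h.hy hE with ⟨F, _, φ, l, -⟩ | ⟨m, ψ, s⟩
  · exact (h.mvL hE l ha yL iv hu u0).elim
  obtain ⟨i, i0, -⟩ := exists_third s.d.two (0 : Fin (m + 1)) 0
  obtain ⟨x, r, j, p⟩ := s.tp i0
  have xN := s.s.norm p.xB
  obtain ⟨w, hw, z⟩ := s.d.surj _ (sum_pr 0 i)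
  have rW := s.eW.ge p.rW
  have rR : r ∈ 𝐎[2](P) := by
    rw [s.d.inj p.rW (s.d.comm_mem xN hw) (by rw [s.d.comm_pr ⟨h.gs.BT p.xB, xN⟩ hw z, p.sg, swap_apply_left, p.val])]
    exact h.inR hE (h.gs.BT p.xB) (fun K a b => h.tpC hE p s a b) hu.2 u0 (s.eW.ge hw)
  have c := iv.c u hu r ⟨h.WU' hE rW, rR⟩
  rcases s.d.two.eq_or_lt with rfl | m3
  · exact h.sm2 hE s (h.RT hu.2) fun K => h.two2 yL hE uL u0 rW (fun e => pr_ne_zero p.ne (by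
      rw [← p.val, h.w0 hE rW e, s.d.toAS.one])) c
  have m := cj_W (p := 2) u E ▸ conj_mem_cj u rW
  refine (p.ne (h.pr4 yL hE s m3 rW p.val (le_WW (s := Fm 2 L T M \ {E}) ⟨h.cjF hE uL, mt cj_eq_self_iff.1 u0⟩ m) ?_)).elim
  rwa [commutatorElement_def, inv_eq_of_mul_eq_one_right (s.d.sq p.rW), h.ab (h.WU' hE rW) _ (h.WU' (h.cjF hE uL) m)] at c

theorem fixS (hE : E ∈ Fm 2 L T M) (s : Sm m L T M E ψ) (m3 : 3 ≤ m) (n : 𝐎[2](P) ≤ 𝐍(E)) (c : ¬ 𝐖[2](E) ≤ 𝐎[2](P)) :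
    Nat.card T < 2048 := by
  obtain ⟨i, i0, hi⟩ : ∃ i ≠ 0, ∀ w ∈ 𝐎[2](E) ⊓ 𝐎[2](P), ψ w ≠ pr 0 i := by
    by_contra! z; exact c (s.eW.le.trans (s.le_of_pr z))
  have OT := s.eW.ge.trans (h.WT hE)
  have k : ∀ p ≠ 0, ∀ a ∈ 𝐎[2](E), ψ a = pr 0 p → a ∉ 𝐎[2](P) → ∃ p' ≠ p, ∃ v ∈ 𝐎[2](E) ⊓ 𝐎[2](P), ψ v = pr p p' :=
    fun p p0 a ha e a0 => by
      obtain ⟨r, hr, z⟩ : ∃ r ∈ 𝐎[2](P), r * a ≠ a * r := by
        by_contra! z; exact a0 (h.chP ⟨h.TP (OT ha), z⟩)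
      have e' := s.d.comm_pr ⟨h.RT hr, n hr⟩ ha e
      refine ⟨_, fun y => z (commutatorElement_eq_one_iff_mul_comm.1 ((s.d.ker _ (s.d.comm_mem (n hr) ha)).1 ?_)), _,
        ⟨s.d.comm_mem (n hr) ha, cm_mem' hr (h.nR (OT ha))⟩, e'⟩
      rw [e', y, pr_self]
  obtain ⟨a, ha, ea⟩ := s.d.surj _ (sum_pr 0 i)
  have a0 : a ∉ 𝐎[2](P) := fun z => hi a ⟨ha, z⟩ ea
  obtain ⟨v, hv, p, p', pp, ip, ip', ev⟩ : ∃ v ∈ 𝐎[2](E) ⊓ 𝐎[2](P), ∃ p p', p ≠ p' ∧ i ≠ p ∧ i ≠ p' ∧ ψ v = pr p p' := by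
    obtain ⟨j, ji, v, hv, ev⟩ := k i i0 a ha ea a0
    obtain ⟨p, -, hp⟩ := Finset.exists_mem_notMem_of_card_lt_card (s := {0, i, j}) (t := Finset.univ)
      (Finset.card_le_three.trans_lt (by simp; omega))
    simp only [Finset.mem_insert, Finset.mem_singleton, not_or] at hp
    obtain ⟨b, hb, eb⟩ := s.d.surj _ (sum_pr 0 p)
    by_cases b0 : b ∈ 𝐎[2](P)
    · exact ⟨b, ⟨hb, b0⟩, 0, p, Ne.symm hp.1, i0, Ne.symm hp.2.1, eb⟩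
    obtain ⟨p', pp, w, hw, ew⟩ := k p hp.1 b hb eb b0
    by_cases z : i = p'
    · refine ⟨_, mul_mem hw hv, p, j, hp.2.2, Ne.symm hp.2.1, ji.symm, ?_⟩
      rw [s.d.mul _ hw.1 _ hv.1, ew, ev, ← z, pr, pr, pr, add_assoc, ← add_assoc (Pi.single i 1), ← pr, pr_self, zero_add]
    · exact ⟨w, hw, p, p', pp.symm, Ne.symm hp.2.1, z, ew⟩
  obtain ⟨y, hy, iv, yL, -⟩ := h.iv (W_ea 2 E) (h.WU' hE) (n.trans (norm_W 2 E)) (s.eW.ge ha) a0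
  obtain ⟨u, hu, z⟩ := iv.s v ⟨s.eW.ge hv.1, hv.2⟩
  have m1 := s.d.comm_mem (n hu.2) ha
  have v1 : v ∈ 𝐎[2](E) := hv.1
  have m2 := mul_mem (inv_mem v1) m1
  have e := s.d.mul _ (inv_mem v1) _ m1
  rw [s.d.inv hv.1, ev, s.d.comm_pr ⟨h.RT hu.2, n hu.2⟩ ha ea] at e
  have z' := cj_mono y (h.WU' hE) z
  have z1 : v⁻¹ * ⁅u, a⁆ ≠ 1 := fun c => by
    rw [c, s.d.toAS.one, eq_comm, neg_add_eq_zero] at e
    have e1 := congrFun e p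
    have e2 := congrFun e p'
    by_cases y : sig 𝐎[2](E) ψ u i = p
    · simp [pr, y, pp, pp.symm, ip'.symm] at e2
    · simp [pr, pp, ip.symm, Ne.symm y] at e1
  refine h.sm1 hE s (fun K a => by_contra fun b => z1 (h.ng1 yL ⟨h.WU' hE (s.eW.ge m2), z'⟩ a
    ((a.1.eq_or hE.1).resolve_left (Ne.symm b) (pCoreOf_le 2 E m2)))) (by_contra fun m4 => z1 ?_)
  refine (mul_one _).symm.trans (h.ng2 yL hE s (s.eW.ge m2) (one_mem _) (by rwa [mul_one]) fun c ec => ?_)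
  obtain ⟨d, -, hd⟩ := Finset.exists_mem_notMem_of_card_lt_card (s := {c, p, p', i, sig 𝐎[2](E) ψ u i}) (t := Finset.univ)
    (Finset.card_le_five.trans_lt (by simp; omega))
  simp only [Finset.mem_insert, Finset.mem_singleton, not_or] at hd
  exact hd.1 (cw_eq_zero.1 (by rw [← ec, e]; simp [pr, hd]))

theorem tvR (hE : E ∈ Fm 2 L T M) (lt : Lt (T ⊓ 𝐍(E)) 𝐁[2](T) E) (hu : u ∈ 𝐎[2](P)) (l : u ∈ 𝐁[2](T) ⊔ 𝐂(𝐖[2](E)))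
    (n : u ∈ 𝐍(E)) (u0 : u ∉ 𝐂(𝐖[2](E))) : 𝐖[2](E) ⊓ 𝐂(𝐁[2](T)) ≤ 𝐎[2](P) := fun i hi => by
  obtain ⟨w, hw, z⟩ := lt.tv' l u0 hi
  rw [inv_mul_eq_one.1 (h.w0 hE (mul_mem (inv_mem hi.1) (cm_mem (norm_W 2 E n) hw)) z)]
  exact cm_mem' hu (h.nR (h.WT hE hw))

theorem fixL (hE : E ∈ Fm 2 L T M) (lt : Lt (T ⊓ 𝐍(E)) 𝐁[2](T) E) (n : 𝐎[2](P) ≤ 𝐍(E)) (ha : a ∈ 𝐖[2](E)) (hy : y ∈ P)
    (o : Odd (orderOf y)) (iv : IV 𝐎[2](P) 𝐖[2](E) a y) (l : cj[y] 𝐖[2](E) ⊓ 𝐎[2](P) ≤ 𝐁[2](T) ⊔ 𝐂(𝐖[2](E))) : False := by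
  obtain ⟨u, hu, u1⟩ := SetLike.not_le_iff_exists.1 iv.n
  have u0 : u ∉ 𝐂(𝐖[2](E)) := fun z => u1 (iv.i u hu (by rw [cm_one (z a ha).symm]; exact one_mem _))
  have c1 : 𝐖[2](E) ⊓ 𝐎[2](P) ≤ 𝐂(𝐁[2](T)) := fun d hd => by
    obtain ⟨v, hv, z⟩ := iv.s d hd
    have m := lt.comm_mem (l hv) ha
    exact inv_mem_iff.1 ((𝐂(𝐁[2](T)).mul_mem_cancel_right (lt.quad m)).1 (lt.fix' (l hu) u0 (mul_mem (inv_mem hd.1)
      (cm_mem (norm_W 2 E (n hv.2)) ha)) (iv.ab z u hu.1)))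
  have c2 : 𝐎[2](P) ≤ 𝐁[2](T) ⊔ 𝐂(𝐖[2](E)) := fun r hr => lt.triv r ⟨h.RT hr, n hr⟩ fun w hw =>
    c1 ⟨cm_mem (norm_W 2 E (n hr)) hw, cm_mem' hr (h.nR (h.WT hE hw))⟩
  have c3 : 𝐖[2](E) ⊓ 𝐎[2](P) ≤ 𝐔[2](P) := le_omegaOneCenter (isElemAb_of_le (W_ea 2 E) inf_le_left) inf_le_right
    fun d hd r hr => mul_inv_eq_iff_eq_mul.1 (lt.cen (c2 hr) ⟨hd.1, c1 hd⟩)
  have m : y⁻¹ * u * y ∈ 𝐖[2](E) ⊓ 𝐎[2](P) := ⟨mem_cj.1 hu.1, conj_mem_of_mem_normalizer' (le_normalizer_pCoreOf 2 P hy) hu.2⟩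
  have uV : u ∈ 𝐔[2](P) := by simpa [mul_assoc] using conj_mem_of_mem_normalizer (norm_omega 2 P hy) (c3 m)
  refine no_off h.syl h.um (isElemAb_omegaOneCenter 2 _) (norm_omega 2 P) (core_cent_U 2 P) (fun z => u1 ?_) (h.WT hE) (W_ea 2 E)
    (fun z => u0 (le_centralizer_comm.1 z uV)) ((lt.cnt' ((U_le_core 2 P).trans c2)).trans ?_)
    ((omega_inf_cent h.syl h.chP).le.trans (le_centralizer_comm.1 h.cz))
  · have := z (mem_pResidualOf hy (Nat.coprime_two_right.2 o)) u uV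
    rw [mul_assoc, this, inv_mul_cancel_left] at m
    exact m.1
  · rw [← inf_relIndex_right 𝐂(𝐔[2](P))]
    exact relIndex_le_of_le_left (fun w hw => lt.fix' (l hu) u0 hw.2 (hw.1 u uV)) FiniteIndex.index_ne_zero

theorem fixN (hE : E ∈ Fm 2 L T M) (l : LW 2 F 𝐁[2](T) E φ) (n : 𝐎[2](P) ≤ 𝐍(E)) (ha : a ∈ 𝐖[2](E)) (yL : y ∉ L)
    (iv : IV 𝐎[2](P) 𝐖[2](E) a y) (hu : u ∈ cj[y] 𝐖[2](E) ⊓ 𝐎[2](P)) (u0 : u ∉ l.glA) :
    (∀ K ∈ Fm 2 L T M, K = E) ∧ Nat.card F ≤ 4 := by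
  have lt := h.lt hE l
  have nn : 𝐎[2](P) ≤ 𝐍(E) ⊓ 𝐍(𝐁[2](T)) := le_inf n (h.RT.trans h.nB')
  have lin : ∀ v ∈ 𝐎[2](P), v ∈ l.glA → v ∈ 𝐁[2](T) ⊔ 𝐂(𝐖[2](E)) := fun v a b =>
    lw_lin l hE.1.toBk (isPGroup_pCoreOf 2 P) nn h.gs.pB a b
  obtain ⟨b, hb, b0⟩ : ∃ b ∈ 𝐁[2](T), ⁅u, b⁆ ∉ 𝐂(𝐖[2](E)) := by
    by_contra! z; exact u0 (lw_comm l (nn hu.2) z)
  have m := cm_mem' hu.2 (h.nR (h.gs.BT hb))
  have IR := h.tvR hE lt m (mem_sup_left (cm_mem (nn hu.2).2 hb)) (n m) b0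
  have I := le_inf (commutator_le_left_of_le_normalizer lt.nW) lt.quad
  obtain ⟨i, hi, i0⟩ := exists_cm (W := 𝐖[2](E) ⊓ 𝐂(𝐁[2](T))) fun z => u0 (l.slA_le_glA (lw_gl l hE.1.toBk
    (lt.cent u ⟨h.RT hu.2, n hu.2⟩ (centralizer_anti I z)) (n hu.2)).1)
  have m1 := cm_mem (norm_W 2 E (n hu.2)) hi.1
  have ml : ∀ v ∈ cj[y] 𝐖[2](E) ⊓ 𝐎[2](P), v ∉ l.glA → u * v ∈ l.glA ∧ ⁅v, a⁆ = u * ⁅u * v, a⁆ * u⁻¹ * ⁅u, a⁆ := fun v hv v0 =>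
    ⟨lw_mul l (n hu.2) (n hv.2) (iv.sq u hu.1) (iv.sq v hv.1) u0 v0, by rw [← cml, ← mul_assoc, iv.sq u hu.1, one_mul]⟩
  have ua := cm_mem (norm_W 2 E (n hu.2)) ha
  refine ⟨fun K a => by_contra fun b => i0 (h.ng1 yL ⟨h.WU' hE m1, cj_mono y (h.WU' hE) (iv.c u hu i ⟨hi.1, IR hi⟩)⟩ a
    ((a.1.eq_or hE.1).resolve_left (Ne.symm b) (FF.W_le 2 E m1))), ?_⟩
  obtain ⟨v, hv, v1, v0⟩ : ∃ v ∈ cj[y] 𝐖[2](E) ⊓ 𝐎[2](P), v ∈ l.glA ∧ v ∉ 𝐂(𝐖[2](E)) := by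
    by_contra! c
    obtain ⟨v, hv, z⟩ := iv.s i ⟨hi.1, IR hi⟩
    have z := iv.ab z u hu.1
    refine i0 (cm_one ?_)
    by_cases k : v ∈ l.glA
    · rw [cm_one (c v hv k a ha).symm, mul_one] at z
      exact (Commute.inv_right_iff.1 z).eq
    obtain ⟨k1, k2⟩ := ml v hv k
    rw [k2, cm_one (c _ (mul_mem hu hv) k1 a ha).symm, mul_one, mul_inv_cancel, one_mul, mul_assoc, ← mul_inv_eq_iff_eq_mul.1
      (cm_fix (by rw [iv.sq u hu.1]; simp) (h.sq (h.WU' hE ua))), ← mul_assoc, ← mul_assoc, mul_left_inj] at z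
    exact (Commute.inv_right_iff.1 z).eq
  refine lw_few1 l (nn hu.2) u0 (e := φ ⁅u, a⁆ 1) fun w hw => ?_
  have m2 := cm_mem (norm_W 2 E (n hu.2)) hw
  obtain ⟨t, ht, z⟩ := iv.s _ ⟨m2, cm_mem' hu.2 (h.nR (h.WT hE hw))⟩
  have m3 := cm_mem (norm_W 2 E (n ht.2)) ha
  have := (l.fix _ (mul_mem (inv_mem m2) m3)).2 (lt.fix' (lin v hv.2 v1) v0 (mul_mem (inv_mem m2) m3) (iv.ab z v hv.1))
  rw [l.mul _ (inv_mem m2) _ m3, l.inv m2, Pi.add_apply, Pi.neg_apply, neg_add_eq_zero] at this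
  rw [this]
  by_cases k : t ∈ l.glA
  · exact .inl ((l.fix _ m3).2 (lt.quad (lt.comm_mem (lin t ht.2 k) ha)))
  obtain ⟨k1, k2⟩ := ml t ht k
  have m4 := conj_mem_of_mem_normalizer (le_normalizer_inf (n.trans (norm_W 2 E)) (le_normalizer_centralizer
    (nn.trans inf_le_right)) hu.2) (I (lt.comm_mem (lin _ (mul_mem hu.2 ht.2) k1) ha))
  exact .inr (by rw [k2, l.mul _ m4.1 _ ua, Pi.add_apply, (l.fix _ m4.1).2 m4.2, zero_add])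

theorem small : Nat.card T < 2048 := by
  obtain ⟨E, hE, c⟩ : ∃ E ∈ Fm 2 L T M, ¬ 𝐖[2](E) ≤ 𝐎[2](P) := by
    by_contra! z
    exact h.not_le h.gs.BT le_rfl h.um h.RT (le_normalizer_pCoreOf 2 P) (h.U_eq.ge.trans (WW_le.2 z))
  obtain ⟨a, ha, a0⟩ := SetLike.not_le_iff_exists.1 c
  by_cases n : 𝐎[2](P) ≤ 𝐍(E)
  swap
  · exact h.moving hE ha a0 n
  obtain ⟨y, hy, iv, yL, o⟩ := h.iv (W_ea 2 E) (h.WU' hE) (n.trans (norm_W 2 E)) ha a0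
  rcases h.gs.kind h.hy hE with ⟨F, _, φ, l, -, K, at', eK⟩ | ⟨m, ψ, s⟩
  · by_cases k : cj[y] 𝐖[2](E) ⊓ 𝐎[2](P) ≤ l.glA
    · exact (h.fixL hE (h.lt hE l) n ha hy o iv fun v hv => lw_lin l hE.1.toBk (isPGroup_pCoreOf 2 P)
        (le_inf n (h.RT.trans h.nB')) h.gs.pB hv.2 (k hv)).elim
    obtain ⟨u, hu, u0⟩ := SetLike.not_le_iff_exists.1 k
    obtain ⟨k1, k2⟩ := h.fixN hE l n ha yL iv hu u0
    exact h.lw1 hE l at' eK k1 k2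
  rcases s.d.two.eq_or_lt with rfl | m3
  · exact (h.fixL hE s.lt.1 n ha hy o iv (inf_le_right.trans ((le_inf h.RT n).trans s.lt.2))).elim
  · exact h.fixS hE s m3 n c

end H2

theorem C2.cz (h : C2 T M U L) (c : ¬ 𝐂(𝛀[2](T)) ≤ L) : Nat.card T < 2048 := by
  have l : T ≤ 𝐂(𝛀[2](T)) := le_centralizer_comm.1 (omegaOneCenter_le_centralizer 2 T)
  obtain ⟨P, a, b⟩ := exists_uMax h.TL l c
  exact H2.small ⟨h, b, (h.gs.lc.chC (isElemAb_isPGroup (isElemAb_omegaOneCenter 2 T)) (omegaOneCenter_ne_bot h.gs.pT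
    fun e => h.ne (le_bot_iff.1 (h.UT.trans e.le)))).of_pCoreOf_le ((h.gs.syl.mono l le_top).pCoreOf_le.trans
      (b.le.trans inf_le_left)) a, a⟩

end CF.GC
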