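/-
Pushing up with a uniqueness subgroup `H = LT`: two blocks over a common Sylow subgroup.
-/
import Cfsg.Agent.Loc.PU4
set_option autoImplicit false
set_option linter.unusedSectionVars false

namespace CF.Cl2
open Subgroup Cfsg CF.BG CF.Sig CF.GW CF.Ab2
open CF.PLocal (upT)
open scoped commutatorElement MatrixGroups

universe u
variable {G : Type u} [Group G] [Finite G]
variable {A A' B D E H H' J K L L' M N P Q R S T U V V' W X Y Z : Subgroup G} {a b c d e f g k l n s t u v w x y z : G}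

structure Su0 (H T L V A : Subgroup G) : Prop where
  syl : Syl 2 T H
  nl : L ⊴ H
  gen : H ≤ L ⊔ T
  eV : 𝐎 {2} L = V
  eA : 𝐎 {2} H = A
  hs : ∀ S, P2 S → A ≤ S → S ≤ 𝐍 L → ⁅S, L⁆ ≤ V → S = A
  un : ∀ X, P2 X → X ≠ ⊥ → H ≤ 𝐍 X → 𝐍 X ≤ 𝐍 L
  mx : ∃ U, P2 U ∧ U ≠ ⊥ ∧ 𝐍 L = 𝐍 U
  c : ∀ U : Subgroup G, P2 U → U ≠ ⊥ → 𝐍 U ⊓ 𝐂 (𝐎 {2} (𝐍 U)) ≤ 𝐎 {2} (𝐍 U)

structure Su (H T L V A : Subgroup G) : Prop extends Su0 H T L V A where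
  ev : Abelem 2 V
  cv : A ≤ 𝐂 V
  lc : L ⊓ 𝐂 V ≤ V
  nt : V ≠ ⊥

namespace Su0
variable (h : Su0 H T L V A)
include h

protected theorem cj (hx : x ∈ 𝐍 T) : Su0 (cj x H) T (cj x L) (cj x V) (cj x A) := by
  refine ⟨cj_of_norm hx ▸ h.syl.cj x, h.nl.cj x, by rw [← cj_of_norm hx, ← cj_sup]; exact cj_mono x h.gen,
    by rw [← cj_O, h.eV], by rw [← cj_O, h.eA], fun S k a b c => ?_, fun X k n a => ?_, ?_, h.c⟩
  · refine cj_eq_iff.2 ?_ |>.symm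
    refine (h.hs _ (k.cj _) (le_cj_iff.2 (by simpa using a)) (by rwa [cj_le_iff, inv_inv, cj_norm]) ?_).symm
    rwa [← cj_le_cj (g := x), cj_comm, cj_cj_inv]
  · have := h.un _ (k.cj x⁻¹) (by simpa using n) (by rwa [← cj_norm, le_cj_iff, inv_inv])
    rwa [← cj_norm, cj_le_iff, inv_inv, cj_norm] at this
  · obtain ⟨U, k, n, e⟩ := h.mx
    exact ⟨cj x U, k.cj x, by simpa using n, by rw [← cj_norm, ← cj_norm, e]⟩

theorem kA : P2 A := h.eA ▸ O_pi _ _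
theorem kV : P2 V := h.eV ▸ O_pi _ _
theorem AT : A ≤ T := h.eA ▸ h.syl.O_le
theorem nA : H ≤ 𝐍 A := h.eA ▸ (O_normal _ _).norm
theorem nV : 𝐍 L ≤ 𝐍 V := h.eV ▸ norm_O _ _
theorem VL : V ≤ L := h.eV ▸ O_le _ _
theorem TL : T ≤ 𝐍 L := h.syl.le.trans h.nl.norm
theorem TV : T ≤ 𝐍 V := h.TL.trans h.nV
theorem TA : T ≤ 𝐍 A := h.syl.le.trans h.nA
theorem VA : V ≤ A := h.eA ▸ h.eV ▸ O_le_O_of_normal h.nl _
theorem VT : V ≤ T := h.VA.trans h.AT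
theorem AL : A ⊓ L = V := h.eA ▸ h.eV ▸ O_inf_normal h.nl _
theorem ql : ⁅A, L⁆ ≤ V := h.AL ▸ le_inf (comm_le_left (h.nl.le.trans h.nA)) (comm_le_right (h.AT.trans h.TL))
theorem nH (a : L ≤ 𝐍 X) (b : T ≤ 𝐍 X) : H ≤ 𝐍 X := h.gen.trans (sup_le a b)

theorem hs' (k : P2 X) (n : X ≤ 𝐍 A ∨ A ≤ 𝐍 X) (l : X ≤ 𝐍 L) (c : ⁅X, L⁆ ≤ V) : X ≤ A :=
  le_sup_left.trans (h.hs _ (k.sup h.kA n) le_sup_right (sup_le l (h.AT.trans h.TL)) (le_centMod.1 (sup_le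
    (le_centMod.2 ⟨l.trans h.nV, c⟩) (le_centMod.2 ⟨h.AT.trans h.TV, h.ql⟩))).2).le

theorem O_le : 𝐎 {2} (𝐍 L) ≤ A := h.hs' (O_pi _ _) (.inr ((h.AT.trans h.TL).trans (O_normal _ _).norm)) (BG.O_le _ _)
  (h.eV ▸ O_inf_normal ⟨le_norm_self L, le_rfl⟩ {2} ▸ le_inf (comm_le_left ((le_norm_self L).trans (O_normal _ _).norm))
    (comm_le_right (BG.O_le _ _)))

theorem cN : 𝐍 L ⊓ 𝐂 (𝐎 {2} (𝐍 L)) ≤ 𝐎 {2} (𝐍 L) := let ⟨U, k, n, e⟩ := h.mx; e ▸ h.c U k n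
theorem O_ne : 𝐎 {2} (𝐍 L) ≠ ⊥ := let ⟨U, k, n, e⟩ := h.mx
  fun c => n (eq_bot_mono c (e ▸ le_O ⟨le_norm_self U, le_rfl⟩ k))
theorem nO : 𝐍 (𝐎 {2} (𝐍 L)) ≤ 𝐍 L := h.un _ (O_pi _ _) h.O_ne (h.nl.norm.trans (O_normal _ _).norm)

theorem nc (hx : x ∈ 𝐍 T) (nx : x ∉ 𝐍 L) (k : P2 X) (a : H ≤ 𝐍 X) (b : cj x H ≤ 𝐍 X) : X = ⊥ := by_contra fun n => by
  obtain ⟨U, kU, nU, e⟩ := h.mx
  have := (h.cj hx).un U kU nU (e ▸ b.trans (h.un X k n a))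
  rw [← e, ← cj_norm] at this
  exact nx (h.nO (norm_O _ _ (cj_eq_self.1 (eq_of_le_of_card_ge this (by simp)).symm)))

theorem c2 (i : Iv z) : 𝐂₁ z ⊓ 𝐂 (𝐎 {2} (𝐂₁ z)) ≤ 𝐎 {2} (𝐂₁ z) := by
  have := h.c _ i.piGrp (by simpa using i.ne_one)
  rwa [le_antisymm (norm_zp_le i) (cent1_le_norm_zp z)] at this

theorem O_eq (a : Abel A) : 𝐎 {2} (𝐍 L) = A :=
  le_antisymm h.O_le fun _ hx => h.cN (mi (h.TL (h.AT hx)) (cent_anti h.O_le (a hx)))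
theorem nAL (a : Abel A) : 𝐍 A = 𝐍 L := le_antisymm (h.O_eq a ▸ h.nO) (h.O_eq a ▸ (O_normal _ _).norm)
theorem cA (a : Abel A) : 𝐂 A ≤ A := fun _ hx =>
  h.O_eq a ▸ h.cN (mi (h.nAL a ▸ cent_le_norm A hx) ((h.O_eq a).symm ▸ hx))

theorem cd (hd : d ∈ 𝐂 L) (c : d ∈ 𝐂 T) (i : Iv d) : 𝐂₁ d ≤ 𝐍 L :=
  (cent1_le_norm_zp d).trans (h.un _ i.piGrp (by simpa using i.ne_one) (h.nH
    ((le_cent1_iff.2 hd).trans (cent1_le_norm_zp d)) ((le_cent1_iff.2 c).trans (cent1_le_norm_zp d))))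

end Su0

namespace Su
variable (h : Su H T L V A)
include h

protected theorem cj (hx : x ∈ 𝐍 T) : Su (cj x H) T (cj x L) (cj x V) (cj x A) :=
  ⟨h.toSu0.cj hx, h.ev.cj x, cj_cent x V ▸ cj_mono x h.cv, by rw [← cj_cent, ← cj_inf]; exact cj_mono x h.lc,
    by simpa using h.nt⟩

theorem pc (k : P2 P) (a : A ≤ P) (l : P ≤ 𝐍 L) : P ⊓ 𝐂 V ≤ A :=
  (h.hs _ k.inf_left (le_inf a h.cv) (inf_le_left.trans l) ((le_inf (comm_le_right (inf_le_left.trans l))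
    ((commutator_mono inf_le_right le_rfl).trans (comm_le_left
      ((le_norm_self L).trans (h.nV.trans (norm_le_norm_cent V)))))).trans h.lc)).le

theorem tc (ht : t ∈ T) (c : t ∈ 𝐂 V) : t ∈ A := h.pc h.syl.pi h.AT h.TL (mi ht c)

theorem sq (ha : a ∈ A) : a * a ∈ 𝐂 L := mem_cent.2 fun l hl => by
  have m := h.ql (commutator_mem_commutator ha hl)
  have c := mem_cent.1 (h.cv ha) _ m
  have e : a * l = ⁅a, l⁆ * (l * a) := by rw [commutatorElement_def]; group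
  rw [mul_assoc a a, e, ← mul_assoc a, ← c, mul_assoc, ← mul_assoc a, e, ← mul_assoc ⁅a, l⁆, ← mul_assoc ⁅a, l⁆, ab_sq h.ev m,
    one_mul, mul_assoc]

end Su

/-- two blocks with no common normal subgroup -/
structure Pr (H H' T L L' V V' A A' : Subgroup G) : Prop where
  a : Su H T L V A
  b : Su H' T L' V' A'
  nc : ∀ X, P2 X → H ≤ 𝐍 X → H' ≤ 𝐍 X → X = ⊥

theorem Su.pr (h : Su H T L V A) (hx : x ∈ 𝐍 T) (nx : x ∉ 𝐍 L) :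
    Pr H (cj x H) T L (cj x L) V (cj x V) A (cj x A) := ⟨h, h.cj hx, fun _ => h.nc hx nx⟩

namespace Pr
variable (h : Pr H H' T L L' V V' A A')
include h

theorem symm : Pr H' H T L' L V' V A' A := ⟨h.b, h.a, fun X k a b => h.nc X k b a⟩

theorem dd (hz : z ∈ T) (a : z ∈ 𝐂 L) (b : z ∈ 𝐂 L') : z = 1 := by
  have n : T ≤ 𝐍 (T ⊓ 𝐂 L ⊓ 𝐂 L') := norm_inf_cent (norm_inf_cent (le_norm_self T) h.a.TL) h.b.TL
  exact eq_one_of_mem_bot (h.nc _ h.a.syl.pi.inf_left.inf_left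
    (h.a.nH ((cent_symm (inf_le_left.trans inf_le_right)).trans (cent_le_norm _)) n)
    (h.b.nH ((cent_symm inf_le_right).trans (cent_le_norm _)) n)) (mi (mi hz a) b)

theorem nv : ¬ V' ≤ A := fun l => by
  have l' : V ≤ A' := fun v hv => h.b.tc (h.a.VT hv) (cent_symm (l.trans h.a.cv) hv)
  have n : T ≤ 𝐍 (V ⊔ V') := norm_sup h.a.TV h.b.TV
  have key : ∀ {H L V V' A : Subgroup G}, Su H T L V A → V' ≤ A → L ≤ 𝐍 (V ⊔ V') := fun h l =>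
    norm_of_comm_le (((commutator_mono (sup_le h.VA l) le_rfl).trans h.ql).trans le_sup_left)
  exact h.a.nt (eq_bot_mono (h.nc _ (h.a.syl.pi.le (sup_le h.a.VT h.b.VT)) (h.a.nH (key h.a l) n)
    (h.b.nH (sup_comm V V' ▸ key h.b l') n)) le_sup_left)

theorem dec (l : A ≤ V ⊔ A') (ha : a ∈ A) : ∃ v ∈ V, ∃ c ∈ A ⊓ A', v * c = a := by
  obtain ⟨v, hv, c, hc, rfl⟩ := (mem_sup_norm (h.a.VT.trans h.b.TA)).1 (l ha)
  exact ⟨v, hv, c, mi ((mul_mem_cancel_left (h.a.VA hv)).1 ha) hc, rfl⟩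

theorem ea (l : A ≤ V ⊔ A') : Abelem 2 A := ab_mk fun a ha => by
  obtain ⟨v, hv, c, hc, rfl⟩ := h.dec l ha
  rw [mul_assoc, ← mul_assoc c, ← mem_cent.1 (h.a.cv hc.1) v hv, mul_assoc,
    h.dd (h.a.AT (mul_mem hc.1 hc.1)) (h.a.sq hc.1) (h.b.sq hc.2), mul_one, ab_sq h.a.ev hv]

theorem sw (ea : Abelem 2 A) (e : cj x A = A') (hJ : J ≤ T) (la : A' ≤ J) (nj : T ≤ 𝐍 J) (hx : x ∈ 𝐍 T) (nx : x ∈ 𝐍 J)
    (o : ∀ E, E ≤ J → T ≤ 𝐍 E → (∀ x ∈ E, x * x = 1) → E ≤ A ∨ E ≤ A') : Sw A A' x := by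
  refine ⟨e, (o _ (cj_le_of_norm nx la) (by rw [← cj_norm, ← cj_of_norm hx]; exact cj_mono x h.b.TA)
    fun _ => ab_sq (e ▸ (ea.cj x).cj x)).elim (fun l => eq_of_le_of_card_ge l (by simp [← e])) fun l => (h.nv ?_).elim⟩
  rw [← cj_le_cj (g := x), e]
  exact (cj_mono x h.b.VA).trans l

theorem fin (ea : Abelem 2 A) (e : cj x A = A') (hx : x ∈ 𝐍 T) (sy : Syl 2 T (𝐍 L))
    (o : ∀ E, E ⊴ T → (∀ x ∈ E, x * x = 1) → E ≤ A ∨ E ≤ A') (c : ♯(A ⊓ A') ≤ 4) : SectionalPRankLE 2 4 G :=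
  sec_of_sw h.a.syl.pi (inf_le_left.trans h.a.AT) o hx
    (h.sw ea e le_rfl h.b.AT (le_norm_self T) hx hx fun E a b => o E ⟨a, b⟩) (fun g hg eg m => sy.mem_of_norm
      (h.a.nAL ea.abel ▸ mem_norm_of fun a ha => mem_of_eq (mul_mem (m a (h.a.AT ha)).1 ha) (by group)) hg eg) c

variable (eA : cj x A = A') (eH : cj x H = H') (hx : x ∈ 𝐍 T) (nx : x ∈ 𝐍 R) (lR : R ≤ T) (nR : T ≤ 𝐍 R) (lV : V' ≤ R)
  (lV' : V ≤ R) (r1 : R ≤ V' ⊔ A) (r2 : R ≤ V ⊔ A') (q1 : A ≤ V ⊔ A') (q2 : A' ≤ V' ⊔ A) (tl : T ⊓ L ≤ R ⊔ A)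
  (g2 : ∀ v ∈ V, ∀ w ∈ V', v * w = w * v → v ∈ A' ∨ w ∈ A) (bl : ∀ N, R ≤ N → L ≤ 𝐍 N → L ≤ N)
include eA eH hx nx lR nR lV lV' r1 r2 q1 q2 tl g2 bl

theorem ab : Sw A A' x ∧ x ∈ 𝐍 (A ⊔ A') ∧ A ⊔ A' = R ⊔ A ∧ ∃ (F : Type) (_ : Field F) (_ : Fintype F) (ρ : G → SL(2, F))
    (ψ : G → Fin 2 → F), Nt F (L ⊔ (A ⊔ A')) A A' (A ⊔ A') (L ⊔ (A ⊔ A')) ρ ψ := by
  have ea := h.ea q1
  have eb := h.symm.ea q2
  have e1 : A ⊔ A' = R ⊔ A := le_antisymm (sup_le le_sup_right (q2.trans (sup_le_sup_right lV _)))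
    (sup_le (r2.trans (sup_le_sup_right h.a.VA _)) le_sup_left)
  have e2 : A ⊔ A' = R ⊔ A' := le_antisymm (sup_le (q1.trans (sup_le_sup_right lV' _)) le_sup_right)
    (sup_le (r1.trans (sup_le (h.b.VA.trans le_sup_right) le_sup_left)) le_sup_right)
  have nJ : x ∈ 𝐍 (A ⊔ A') := cj_eq_self.1 (by rw [e1, cj_sup, cj_of_norm nx, eA, ← e2, e1])
  set J := A ⊔ A'
  have JT : J ≤ T := sup_le h.a.AT h.b.AT
  have TJ : T ≤ 𝐍 J := norm_sup h.a.TA h.b.TA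
  have XH : L ⊔ J ≤ H := sup_le h.a.nl.le (JT.trans h.a.syl.le)
  have sy := h.a.syl.inf_normal ⟨XH, h.a.nH (le_sup_left.trans (le_norm_self _)) (norm_sup h.a.TL TJ)⟩
  rw [show T ⊓ (L ⊔ J) = J from le_antisymm (fun t ht => by
    obtain ⟨l, hl, j, hj, rfl⟩ := (mem_sup_norm' (JT.trans h.a.TL)).1 ht.2
    exact mul_mem (e1.ge (tl (mi ((mul_mem_cancel_right (JT hj)).1 ht.1) hl))) hj) (le_inf JT le_sup_right)] at sy
  have mul : ∀ s ∈ J, ∃ a ∈ A, ∃ b ∈ A', a * b = s := fun s hs => (mem_sup_norm (h.a.AT.trans h.b.TA)).1 hs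
  have k : AB (L ⊔ J) A A' J := ⟨ea, eb, sy, le_sup_left, le_sup_right, mul, fun s hs s2 => by
    obtain ⟨a, ha, b, hb, rfl⟩ := mul s hs
    have : a * b = b * a := by rw [eq_inv_of_mul_eq_one_left s2, mul_inv_rev, ab_inv ea ha, ab_inv eb hb]
    obtain ⟨v, hv, c, hc, rfl⟩ := h.dec q1 ha
    obtain ⟨w, hw, d, hd, rfl⟩ := h.symm.dec q2 hb
    rw [mul_assoc v, eb.abel.mul_comm hc.2 hb, ← mul_assoc, ← mul_assoc _ v, mul_left_inj, mul_assoc w,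
      ea.abel.mul_comm hd.2 (h.a.VA hv), ← mul_assoc, ← mul_assoc, mul_left_inj] at this
    exact (g2 v hv w hw this).symm.imp (fun m => mul_mem ha (mul_mem m hd.2)) fun m => mul_mem (mul_mem m hc.2) hb,
    fun l => h.symm.nv (h.a.VA.trans l), fun l => h.nv (h.b.VA.trans l)⟩
  have s := h.sw ea eA JT le_sup_right TJ hx nJ fun E l _ => k.le_or l
  refine ⟨s, nJ, e1, ?_⟩
  have mv : Mv (L ⊔ J) A A' := fun m => k.Z_ne (by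
    have n := h.a.nH ((le_inf le_sup_left (h.a.nl.le.trans h.a.nA)).trans m) (norm_inf h.a.TA h.b.TA)
    refine h.nc _ ea.pi.inf_left n ?_
    rw [← eH, ← show cj x (A ⊓ A') = A ⊓ A' by rw [cj_inf, s.1, s.2, inf_comm]]
    exact cj_norm_iff.2 n)
  obtain ⟨F, _, _, Y, ρ, ψ, n⟩ := k.exists_nt mv (le_of_eq (Nat.eq_of_mul_eq_mul_left (card_pos' A) (by
    rw [card_mul_relIndex k.la, ← card_mul_relIndex k.lb, ← eA, card_cj])))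
  have nY := (le_inf le_rfl (XH.trans h.a.nA)).trans n.nL
  obtain rfl : Y = L ⊔ J := le_antisymm n.lX (sup_le (bl Y ((le_sup_left.trans e1.ge).trans n.sL) (le_sup_left.trans nY))
    n.sL)
  exact ⟨F, _, inferInstance, ρ, ψ, n⟩

end Pr

end CF.Cl2
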