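/-
Pushing up with a uniqueness subgroup `H = LT`: the linear cases.
-/
import Cfsg.Agent.Loc.PU5
set_option autoImplicit false
set_option linter.unusedSectionVars false

namespace CF.Cl2
open Subgroup Cfsg CF.BG CF.Sig CF.GW CF.Ab2
open CF.PLocal (upT)
open CF.FF (NatOn LW rho slA)
open scoped commutatorElement MatrixGroups

universe u
variable {G : Type u} [Group G] [Finite G]
variable {A A' B D E H H' J K L L' M N P Q R S T U V V' W X Y Z : Subgroup G} {a b c d e f g k l n s t u v w x y z : G}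

structure Ln (L T V A R : Subgroup G) : Prop where
  vr : V ≤ R
  n1 : ∀ w ∈ R, w ∉ A → ∀ v ∈ V, v * w = w * v → v ∈ 𝐂 R
  n2 : A.relIndex R = (𝐂 R).relIndex V
  n3 : ∀ t ∈ T, t ∈ 𝐂 ⁅V, R⁆ → t ∈ R ⊔ A
  n4 : T ⊓ L ≤ R ⊔ A
  n5 : R ≤ L ⊔ A
  n6 : 2 < A.relIndex R

theorem Ln.cj (h : Ln L T V A R) (hx : x ∈ 𝐍 T) (nx : x ∈ 𝐍 R) : Ln (cj x L) T (cj x V) (cj x A) R := by
  have e := cj_of_norm hx
  have e' := cj_of_norm nx
  rw [← e, ← e']
  refine ⟨cj_mono x h.vr, ?_, by rw [← cj_cent, BG.relIndex_cj, BG.relIndex_cj, h.n2], fun t ht c => ?_,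
    by rw [← cj_inf, ← cj_sup]; exact cj_mono x h.n4, by rw [← cj_sup]; exact cj_mono x h.n5, by rw [BG.relIndex_cj]; exact h.n6⟩
  · rintro _ ⟨w, hw, rfl⟩ nw _ ⟨v, hv, rfl⟩ c
    exact cj_cent x R ▸ mem_map_of_mem _ (h.n1 w hw (fun k => nw (mem_map_of_mem _ k)) v hv
      ((MulAut.conj x).injective (by rw [map_mul, map_mul]; exact c)))
  · rw [← cj_comm, ← cj_cent, mem_cj] at c
    rw [← cj_sup, mem_cj]
    exact h.n3 _ (mem_cj.1 ht) c

theorem Su.kh (h : Su H T L V A) (b : FF.Bk 2 R L) (e : ⁅omegaOneCenter 2 (pCoreOf 2 L), L⁆ = V) : H ⊓ 𝐂 V ≤ A :=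
  haveI := Fact.mk Ab2.p2
  h.eA ▸ le_O (normalIn_inf_cent (h.nl.norm.trans h.nV)) ((piGrp_of_isPGroup Ab2.p2
    (e ▸ b.cent_isPGroup h.syl.pi.isPGroup h.TL)).le (inf_le_inf_right _ h.gen))

theorem Su.ln (h : Su H T L V A) {F : Type} [Field F] {φ : G → Fin 2 → F} (b : FF.Bk 2 R L) (w : LW 2 F R L φ)
    (e : ⁅omegaOneCenter 2 (pCoreOf 2 L), L⁆ = V) (vr : V ≤ R) (lR : R ≤ T) : Ln L T V A R := by
  haveI := Fact.mk Ab2.p2
  have kh := h.kh b e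
  subst e
  have := w.fin
  have := Fintype.ofFinite F
  have n := w.natOn b
  have c1 := n.card_A
  rw [show R ⊓ 𝐂 _ = A ⊓ R from le_antisymm (fun r hr => mi (h.tc (lR hr.1) hr.2) hr.1)
    (le_inf inf_le_right (inf_le_left.trans h.cv)), ← card_inf_mul_relIndex A, mul_comm] at c1
  replace c1 := Nat.eq_of_mul_eq_mul_right (card_pos' _) c1
  have c2 := n.card_V
  rw [← card_inf_mul_relIndex (𝐂 R), mul_comm, inf_comm] at c2
  have key : ∀ t ∈ T, t ∈ slA _ φ → t ∈ R ⊔ A := fun t ht s => by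
    obtain ⟨m, hm⟩ := w.exists_basis h.kV.isPGroup (h.syl.pi.inf_left (K := slA _ φ)).isPGroup inf_le_right
    have fx : ∀ g ∈ T ⊓ slA _ φ, rho _ φ g • m⁻¹ • ![(1 : F), 0] = m⁻¹ • ![1, 0] := fun g hg => by
      obtain ⟨s, e⟩ := hm g hg
      rw [eq_inv_smul_iff, ← mul_smul, ← mul_smul, e, FF.upT_smul]; simp
    obtain ⟨r, hr, e⟩ := w.up' 1
    have := congrFun (fx r (mi (lR hr) (w.leB hr))) 0
    rw [e, FF.upT_smul] at this
    obtain ⟨c, ec⟩ := FF.SL2_eq_upT (by simp [smul_eq_zero_iff_eq]) (by simpa using this) (fx t (mi ht s))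
    obtain ⟨r, hr, e⟩ := w.up' c
    have m := mul_mem (inv_mem (lR hr)) ht
    exact (mul_mem_cancel_left (inv_mem (mem_sup_left hr))).1 (mem_sup_right (h.tc m (b.lc w.toLS (h.TL m)
      (mul_mem (inv_mem (w.leB hr)) s) (by rw [w.rho_mul (inv_mem (w.leB hr)) s, w.rho_inv (w.leB hr), e, ec, inv_mul_cancel]))))
  refine ⟨vr, fun r hr nr v hv c => n.mem_cent hr (mt (h.tc (lR hr)) nr) hv (by
    rw [commutatorElement_eq_one_iff_mul_comm.2 c.symm]; exact one_mem _),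
    c1.trans (Nat.eq_of_mul_eq_mul_right (card_pos' _) c2).symm, fun t ht c => key t ht (zpowers_le.1 (w.toLS.le_slA w.char
      (h.syl.pi.elt ht).zpowers.isPGroup (zpowers_le.2 (w.lin_of_fix (FF.norm_le_W 2 L (h.TL ht)) (u := ![1, 0]) (by simp)
      fun s => ?_)))), fun t ht => key t ht.1 (w.le ht.2), fun r hr => ?_, c1 ▸ w.three⟩
  · obtain ⟨r, hr, e⟩ := w.up' s
    obtain ⟨v, hv, f⟩ := w.surj ![0, 1]
    have k : φ ⁅r, v⁆ = s • ![1, 0] := by rw [w.comm_up (w.leB hr) e hv, f]; simp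
    rw [← k, w.act_eq (FF.norm_le_W 2 L (h.TL ht)).1 (FF.cm_mem (w.leB hr).1 hv), ← mem_cent.1 c _
      (commutator_comm R _ ▸ commutator_mem_commutator hr hv), mul_inv_cancel_right]
  · obtain ⟨l, hl, c⟩ := w.exists_mul b (nat_four_le n (h.syl.pi.le lR) w.three) (h.TL (lR hr)) (w.leB hr)
    exact (mul_mem_cancel_left (inv_mem (mem_sup_left hl))).1 (mem_sup_right (kh (mi (mul_mem (inv_mem (h.nl.le hl))
      (h.syl.le (lR hr))) c)))

namespace Pr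
variable (h : Pr H H' T L L' V V' A A')
include h

theorem r_of (i : A.relIndex T ≤ 2) : T ≤ V' ⊔ A := fun t ht => by
  obtain ⟨w, hw, nw⟩ := SetLike.not_le_iff_exists.1 h.nv
  by_cases c : t ∈ A
  · exact mem_sup_right c
  · exact (mul_mem_cancel_left (mem_sup_left hw)).1 (mem_sup_right (mul_of_idx i (h.b.VT hw) ht nw c))

theorem caseA (eA : cj x A = A') (eH : cj x H = H') (eL : cj x L = L') (hx : x ∈ 𝐍 T) (i : A.relIndex T ≤ 2)
    (sy : Syl 2 T (𝐍 L)) (bl : ∀ N, T ≤ N → L ≤ 𝐍 N → L ≤ N) : SectionalPRankLE 2 4 G := by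
  have r1 := h.r_of i
  have r2 := h.symm.r_of (by rwa [← eA, ← cj_of_norm hx, BG.relIndex_cj])
  obtain ⟨s, -, e, F, _, _, ρ, ψ, n⟩ := h.ab eA eH hx hx le_rfl (le_norm_self T) h.b.VT h.a.VT r1 r2 (h.a.AT.trans r2)
    (h.b.AT.trans r1) (inf_le_left.trans le_sup_left) (fun v hv w hw c => or_iff_not_imp_right.2 fun nw =>
      h.b.tc (h.a.VT hv) (mem_cent.2 fun t ht => by_cases (fun k => (mem_cent.1 (h.a.cv k) v hv).symm) fun k => by
        have := mem_cent.1 (h.a.cv (mul_of_idx i (h.b.VT hw) (h.b.VT ht) nw k)) v hv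
        rw [← mul_assoc, c, mul_assoc, mul_assoc, mul_right_inj] at this
        exact this.symm)) bl
  rw [e, sup_of_le_left h.a.AT] at n
  refine h.fin n.ea eA hx sy (fun E a => n.le_or a.le) ?_
  have c1 := n.nat.card_V'
  have c2 := Loc.card_mul_le_of_le n.ZA_le ((cj_mono x n.ZA_le).trans_eq (by rw [cj_inf, s.1, s.2, inf_comm]))
  rw [eq_bot_of_forall (H := A ⊓ 𝐂 (L ⊔ T) ⊓ cj x (A ⊓ 𝐂 (L ⊔ T))) fun z hz => h.dd (h.a.AT hz.1.1) (cent_anti le_sup_left hz.1.2)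
    (eL ▸ cj_cent x L ▸ cj_mono x (inf_le_right.trans (cent_anti le_sup_left)) hz.2), card_bot, card_cj] at c2
  rw [n.card_A, ← n.cardB, sq, mul_assoc] at c1
  replace c1 := Nat.eq_of_mul_eq_mul_left Nat.card_pos c1
  have := card_pos' (A ⊓ 𝐂 (L ⊔ T))
  rw [← n.cardA] at i
  have : ♯(A ⊓ 𝐂 (L ⊔ T)) ≤ Nat.card F := Nat.le_of_mul_le_mul_right (by rwa [mul_one, c1] at c2) this
  nlinarith

variable (p : Ln L T V A R) (p' : Ln L' T V' A' R)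
include p p'

theorem lg2 (hv : v ∈ V) (hw : w ∈ V') (c : v * w = w * v) : v ∈ A' ∨ w ∈ A := or_iff_not_imp_right.2 fun nw =>
  h.b.tc (h.a.VT hv) (cent_anti p'.vr (p.n1 w (p'.vr hw) nw v hv c))

theorem lr (lR : R ≤ T) (e : A'.relIndex R = A.relIndex R) : R ≤ V' ⊔ A := by
  obtain ⟨v, hv, nv⟩ := SetLike.not_le_iff_exists.1 h.symm.nv
  have i : (𝐂 R).relIndex V' ≤ A.relIndex V' := by
    rw [← inf_relIndex_right A]
    exact relIndex_le_of_le_left (fun w hw => p'.n1 v (p.vr hv) nv w hw.2 (mem_cent.1 (h.a.cv hw.1) v hv).symm)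
      (relIndex_ne_zero' _ _)
  refine le_sup_left.trans (eq_of_le_of_card_ge (sup_le_sup_right p'.vr A) ?_).ge
  rw [← card_mul_relIndex (le_sup_right : A ≤ R ⊔ A), ← card_mul_relIndex (le_sup_right : A ≤ V' ⊔ A),
    relIndex_sup_norm (.inl (lR.trans h.a.TA)), relIndex_sup_norm (.inl (h.b.VT.trans h.a.TA)), ← e, p'.n2]
  exact Nat.mul_le_mul_left _ i

theorem lq (lR : R ≤ T) (r2 : R ≤ V ⊔ A') : A ≤ V ⊔ A' := fun a ha => sup_le r2 le_sup_right (p'.n3 a (h.a.AT ha)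
  (cent_anti (commutator_le.2 fun w hw r hr => by
    obtain ⟨v, hv, b, hb, rfl⟩ := (mem_sup_norm (h.a.VT.trans h.b.TA)).1 (r2 hr)
    exact mem_of_eq (mul_mem (conj_mem_of_norm (h.a.TV (h.b.VT hw)) hv) (inv_mem hv)) (by
      rw [commutatorElement_def, ← mul_assoc, mul_assoc _ b, ← mem_cent.1 (h.b.cv hb) _ (inv_mem hw)]; group)) (h.a.cv ha)))

theorem caseB (eA : cj x A = A') (eH : cj x H = H') (eL : cj x L = L') (hx : x ∈ 𝐍 T) (nx : x ∈ 𝐍 R) (lR : R ≤ T)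
    (nR : T ≤ 𝐍 R) (bl : ∀ N, R ≤ N → L ≤ 𝐍 N → L ≤ N) : SectionalPRankLE 2 4 G := by
  have e : A'.relIndex R = A.relIndex R := by rw [← eA, ← cj_of_norm nx, BG.relIndex_cj, cj_of_norm nx]
  have r1 := h.lr p p' lR e
  have r2 := h.symm.lr p' p lR e.symm
  obtain ⟨s, nJ, e1, F, _, _, ρ, ψ, n⟩ := h.ab eA eH hx nx lR nR p'.vr p.vr r1 r2 (h.lq p p' lR r2) (h.symm.lq p' p lR r1)
    p.n4 (fun _ hv _ => h.lg2 p p' hv) bl
  have eX : L ⊔ (A ⊔ A') = L ⊔ A := le_antisymm (sup_le le_sup_left (e1.le.trans (sup_le p.n5 le_sup_right)))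
    (sup_le_sup_left le_sup_left L)
  rw [eX] at n
  have ab := n.ea.abel
  have nL := h.a.nAL ab
  have na : Nd F A A' (A ⊔ A') (L ⊔ A) ρ ψ := ⟨n, h.a.cA ab, norm_sup nL.le le_rfl, fun g hg e c =>
    zpowers_le.1 (h.a.hs' e.zpowers (.inl (zpowers_le.2 hg)) (zpowers_le.2 (nL.le hg)) (le_centMod.1 (zpowers_le.2
      (mem_centMod.2 ⟨h.a.nV (nL.le hg), fun k hk => h.a.AL ▸ mi (c k (mem_sup_left hk))
        (mul_mem (conj_mem_of_norm (nL.le hg) hk) (inv_mem hk))⟩))).2), by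
      rw [n.cardA, e1, relIndex_sup_norm (.inl (lR.trans h.a.TA))]; exact p.n6⟩
  have nb := na.cj x
  rw [s.1, s.2, cj_of_norm nJ] at nb
  have ca : A ⊓ 𝐂 (L ⊔ A) = ⊥ ∨ ∃ d ∈ A ⊓ 𝐂 (L ⊔ A), d ≠ 1 ∧ 𝐂₁ d ≤ 𝐍 A := or_iff_not_imp_left.2 fun c => by
    obtain ⟨d, hd, d1⟩ := exists_mem_ne_one (h.a.syl.pi.inf_cent_ne_bot h.a.kA.inf_left (h.a.TA.trans na.nD) c)
    exact ⟨d, hd.1, d1, nL ▸ h.a.cd (cent_anti le_sup_left hd.1.2) hd.2 (.mk' d1 (ab_sq n.ea hd.1.1))⟩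
  refine Bd.main ⟨na, nb, fun z hz a b => h.dd (h.a.AT hz.1) (cent_anti le_sup_left a)
    (cent_anti (eL ▸ cj_mono x le_sup_left) b), fun _ => h.a.c2, ca, ?_⟩ s nJ
  rw [← eA, ← cj_cent, ← cj_inf]
  exact ca.imp (fun c => by rw [c, cj_bot]) fun ⟨d, hd, d1, c⟩ => ⟨_, conj_mem_cj.2 hd, by simpa using d1, by
    rw [← cj_cent1, ← cj_norm]; exact cj_mono x c⟩

end Pr

end CF.Cl2
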