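/-
Pushing up with a uniqueness subgroup `H = LT`: the theorem.
-/
import Cfsg.Agent.Loc.PU7
set_option autoImplicit false
set_option linter.unusedSectionVars false

namespace CF.Cl2
open Subgroup Cfsg CF.BG CF.Sig CF.GW CF.Ab2 Equiv
open CF.FF (SD sig)
open CF.Loc (UMax IsSyl)
open scoped commutatorElement MatrixGroups

universe u
variable {G : Type u} [Group G] [Finite G]
variable {A B E H K L M N R S T V X : Subgroup G} {g k t v x : G} {m : ℕ} {ψ : G → Fin (m + 1) → ZMod 2}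

theorem isSyl_of (h : Syl 2 T H) : IsSyl 2 T H :=
  ⟨h.le, h.pi.isPGroup, fun _ k a b => (h.eq_of_le a b (piGrp_of_isPGroup Ab2.p2 k)).symm⟩

theorem fin3_mul : ∀ σ τ : Perm (Fin 3), σ 0 = 0 → τ 0 = 0 → σ ≠ 1 → τ ≠ 1 → σ * τ = 1 := by decide

namespace Su
variable (h : Su H T L (pCoreOf 2 L) A) (d : SD m T M L ψ)
include h d

theorem sy : Syl 2 T (𝐍 L) := by
  obtain ⟨P, hP, l⟩ := exists_syl_le (le_inf (h.AT.trans h.TL) h.cv) h.kA
  rw [le_antisymm ((le_inf le_rfl (hP.le.trans inf_le_right)).trans (h.pc hP.pi l (hP.le.trans inf_le_left))) l] at hP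
  refine h.syl.trans_idx h.nl.norm ?_
  rw [show 𝐍 L = 𝐍 L ⊓ 𝐂 (pCoreOf 2 L) ⊔ H from le_antisymm (fun g hg => ?_) (sup_le inf_le_left h.nl.norm),
    relIndex_sup_norm (.inr (norm_inf_cent (h.nl.norm.trans (le_norm_self _)) (h.nl.norm.trans h.nV)))]
  · exact hP.idx_of_le (h.AT.trans h.syl.le)
  obtain ⟨i, i0, -⟩ := FF.exists_third d.two 0 0
  obtain ⟨x, hx, j, -, ji, e, -⟩ := d.tp i i0
  obtain ⟨k, hk, e⟩ : ∃ k ∈ H, sig (pCoreOf 2 L) ψ k = sig (pCoreOf 2 L) ψ g :=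
    (Int.units_eq_one_or (Perm.sign (sig (pCoreOf 2 L) ψ g))).elim (fun s => let ⟨k, hk, c⟩ := (d.rng _).1 s; ⟨k, h.nl.le hk, c⟩)
      fun s => let ⟨k, hk, c⟩ := (d.rng (sig (pCoreOf 2 L) ψ g * swap i j)).1 (by simp [s, ji.symm])
        ⟨_, mul_mem (h.nl.le hk) (h.syl.le hx.1.1), by rw [d.sig_mul (d.le hk) (d.nle hx.2), c, e, mul_swap_mul_self]⟩
  have n := h.nl.norm hk
  have c := mul_mem (inv_mem n) hg
  exact (mul_mem_cancel_left (inv_mem (mem_sup_right hk))).1 (mem_sup_left (mi c ((d.sig_one_iff (d.nle c)).1 (by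
    rw [d.sig_mul (d.nle (inv_mem n)) (d.nle hg), d.sig_inv (d.nle n), e, inv_mul_cancel]))))

end Su

theorem Su.idx {ψ : G → Fin (2 + 1) → ZMod 2} (h : Su H T L (pCoreOf 2 L) A) (d : SD 2 T M L ψ) : A.relIndex T ≤ 2 :=
  have k : ∀ t ∈ T, sig (pCoreOf 2 L) ψ t = 1 ↔ t ∈ A := fun t ht =>
    (d.sig_one_iff (d.nle (h.TL ht))).trans ⟨h.tc ht, fun c => h.cv c⟩
  idx_le_two fun a ha b hb na nb => (k _ (mul_mem ha hb)).1 ((d.sig_mul (d.nle (h.TL ha)) (d.nle (h.TL hb))).trans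
    (fin3_mul _ _ (d.t0 a (mi ha (h.TL ha))) (d.t0 b (mi hb (h.TL hb))) (mt (k a ha).1 na) (mt (k b hb).1 nb)))

theorem Su.pm {ψ : G → Fin (4 + 1) → ZMod 2} (h : Su H T L (pCoreOf 2 L) A) (d : SD 4 T M L ψ)
    (kh : H ⊓ 𝐂 (pCoreOf 2 L) ≤ A) : ∃ f ψ, Pm H T L (pCoreOf 2 L) A f ψ := by
  obtain ⟨x, hx, j, j0, j1, e, -⟩ := d.tp 1 (by decide)
  have n := h.nl.norm.trans d.nle
  have s : ∀ z : Fin 5 → ZMod 2, ∑ i, z (swap 2 j i) = ∑ i, z i := fun z => Equiv.sum_comp _ z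
  refine ⟨fun g => swap 2 j * sig (pCoreOf 2 L) ψ g * (swap 2 j)⁻¹, fun v i => ψ v (swap 2 j i), Pm0.pm ⟨h, fun g hg k hk => ?_,
    fun v hv w hw => by rw [d.mul v hv w hw]; rfl, fun v hv w hw c => d.inj hv hw (funext fun i => ?_),
    fun v hv => (s _).trans (d.sum v hv), fun z hz => ?_, fun g hg v hv i => ?_, fun g hg => conj_eq_one_iff.trans
      ((d.sig_one_iff (n hg)).trans ⟨fun c => kh (mi hg c), fun c => h.cv c⟩), fun σ => ?_⟩ (fun t ht => ?_) hx.1.1 ?_⟩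
  · rw [d.sig_mul (n hg) (n hk)]; group
  · simpa using congrFun c (swap 2 j i)
  · obtain ⟨v, hv, c⟩ := d.surj _ ((s z).trans hz)
    exact ⟨v, hv, funext fun i => by simp [c]⟩
  · simp [FF.sig_spec (n hg) hv]
  · refine Iff.trans (by rw [Perm.mem_alternatingGroup, map_mul, map_mul, mul_right_comm, ← map_mul]; simp) ((d.rng ((swap 2 j)⁻¹ * σ * swap 2 j)).trans (exists_congr fun g => and_congr_right fun _ => ?_))
    rw [mul_inv_eq_iff_eq_mul, mul_assoc, eq_inv_mul_iff_mul_eq]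
  · have : swap 2 j 0 = 0 := swap_apply_of_ne_of_ne (by decide) j0.symm
    simp [this, d.t0 t (mi ht (h.TL ht))]
  · rw [e, ← swap_apply_apply, swap_apply_right, swap_apply_of_ne_of_ne (by decide) j1.symm]

theorem Su0.main (h : Su0 H T L V A) (res : pResidualOf 2 H = L) (u : UMax (T ⊓ L) M L)
    (deg : ∀ m, 6 ≤ m → ¬ Nonempty (L ⧸ pCore 2 L ≃* alternatingGroup (Fin (m + 1)))) :
    𝐍 T ≤ 𝐍 L ∨ SectionalPRankLE 2 4 G := or_iff_not_imp_left.2 fun c => by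
  haveI := Fact.mk Ab2.p2
  obtain ⟨x, hx, nx⟩ := SetLike.not_le_iff_exists.1 c
  have nM : T ≤ 𝐍 M := fun t ht => Loc.cj_eq_self_iff.1 (by
    have := u.cj t
    rw [Loc.cj_eq_self (h.TL ht), Loc.cj_eq_self (norm_inf (le_norm_self T) h.TL ht)] at this
    exact this.unique u)
  have key : ∀ C, C ≤ T → C ≠ ⊥ → 𝐍 T ≤ 𝐍 C → ∀ X, T ≤ X → X ≤ H ⊓ 𝐍 C → X ≤ M ⊔ T := fun C l n k X a b y hy => by
    obtain ⟨l', hl, t, ht, rfl⟩ := (mem_sup_norm' h.TL).1 (h.gen (b hy).1)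
    refine mul_mem_sup (u.le_of_ne (inf_le_inf_right L a) inf_le_right (fun e => n ?_)
      (mi ((mul_mem_cancel_right (a ht)).1 hy) hl)) ht
    have := h.nH ((inf_eq_right.1 e).trans (b.trans inf_le_right)) ((le_norm_self T).trans k)
    exact h.nc hx nx (h.syl.pi.le l) this (cj_of_norm (k hx) ▸ cj_norm_iff.2 this)
  have nl : ¬ L ≤ M ⊔ T := fun e => u.lt.not_ge fun y hy => by
    obtain ⟨a, ha, t, ht, rfl⟩ := (mem_sup_norm' nM).1 (e hy)
    exact mul_mem ha (u.le (mi ht ((mul_mem_cancel_left (u.lt.le ha)).1 hy)))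
  have nB := FF.norm_baumann 2 T
  have lB := FF.baumann_le 2 T
  obtain ⟨E, s, e0, D⟩ := FF.mainP 2 H T (M ⊔ T) ⟨Loc.IsCharP.of_pCoreOf_le (L := 𝐍 L) (by
      rw [Loc.IsCharP, core_eq]; exact h.cN) (core_eq (𝐍 L) ▸ h.O_le.trans (h.AT.trans h.syl.le)) h.nl.norm, isSyl_of h.syl,
    le_sup_right, key _ (Loc.omegaOneCenter_le 2 T) (Loc.omegaOneCenter_ne_bot h.syl.pi.isPGroup
      (ne_bot_mono h.O_ne (h.O_le.trans h.AT))) (Loc.normalizer_le_normalizer_omegaOneCenter 2 T) _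
      (le_inf h.syl.le (Loc.le_centralizer_omegaOneCenter 2 T)) (inf_le_inf_left H (cent_le_norm _)),
    fun C l n c => have k := nB.trans (FF.norm_of_char l c)
      key C (l.trans lB) n k _ (le_inf h.syl.le ((le_norm_self T).trans k)) le_rfl⟩ fun e => nl (h.nl.le.trans e)
  obtain rfl : E = L := by_contra fun e => by
    obtain ⟨N, a, b, n⟩ := (s.sn.mono (s.res ▸ res ▸ Loc.pResidualOf_mono s.le) h.nl.le).exists_normal e
    exact (u.le_or_le h.syl.pi.inf_left.isPGroup b.le n).elim (fun k => b.not_ge (by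
      rwa [← res, Loc.pResidualOf_pResidualOf, res] at k)) fun k => e0 (a.trans (k.trans le_sup_left))
  have eW := s.W_eq s.core_eq
  obtain rfl : pCoreOf 2 E = V := (core_eq E).trans h.eV
  have su : Su H T E _ A := ⟨h, .of_isEA Ab2.p2 (eW ▸ FF.W_ea 2 E), eW ▸ h.eA ▸ core_eq H ▸ s.core_cent,
    (eW ▸ s.inf_cent :).le, fun e => s.W_nt (by rw [eW, e]; exact bot_le)⟩
  have r := su.pr hx nx
  rcases D.kind with ⟨F, _, φ, l⟩ | ⟨-, m, ψ, d⟩
  · obtain ⟨φ, -, w⟩ := s.toBx.exists_lw' l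
    have p := su.ln s.toBk w eW (D.core_le_B s) lB
    exact r.caseB p (p.cj hx (nB hx)) rfl rfl rfl hx (nB hx) lB ((le_norm_self T).trans nB) fun _ => s.le_of_norm
  obtain rfl | rfl : m = 2 ∨ m = 4 := by
    have := mt (deg m · d.equiv) not_false
    have := d.two
    have := Nat.even_iff.1 d.even
    omega
  · exact r.caseA rfl rfl rfl hx (su.idx d) (su.sy d) fun _ a => s.le_of_norm (lB.trans a)
  · obtain ⟨f, ψ, p⟩ := su.pm d (su.kh s.toBk eW)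
    exact p.caseC hx nx (su.sy d)

theorem umax_of (S : Sylow 2 G) (h : Nonempty (G ⧸ pCore 2 G ≃* Multiplicative (ZMod 3)) ∨
    ∃ n : ℕ, 1 ≤ n ∧ Nonempty (G ⧸ pCore 2 G ≃* SL(2, GaloisField 2 n))) : ∃ M, UMax (S : Subgroup G) M ⊤ := by
  haveI := Fact.mk Ab2.p2
  have l : pCore 2 G ≤ S := Loc.pCore_le_sylow S
  rcases h with ⟨⟨e⟩⟩ | ⟨n, hn, ⟨e⟩⟩
  · have i : (pCore 2 G).index = 3 := by rw [index_eq_card, Nat.card_congr e.toEquiv]; simp
    have k : ∀ X, pCore 2 G ≤ X → X < ⊤ → X ≤ pCore 2 G := fun X a b => by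
      have := relIndex_mul_index a
      rw [((Nat.dvd_prime Nat.prime_three).1 (i ▸ index_dvd_of_le a)).resolve_left (mt index_eq_one.1 b.ne), i] at this
      exact relIndex_eq_one.1 (by omega)
    refine ⟨S, le_rfl, lt_top_iff_ne_top.2 fun c => ?_, fun X a b => (k X (l.trans a) b).trans l⟩
    obtain ⟨j, hj⟩ := ((c ▸ S.isPGroup' : IsPGroup 2 (⊤ : Subgroup G)).of_equiv topEquiv).index (pCore 2 G)
    exact absurd (Nat.prime_three.pow_eq_iff.1 (i.symm.trans hj).symm).1 (by decide)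
  · obtain ⟨e'⟩ := FF.SL2_equiv_PSL2 (F := GaloisField 2 n) CharTwo.two_eq_zero
    exact FF.exists_uMax_of_PSL (GaloisField.card 2 n (by omega)) (Loc.isSyl_top S)
      ((e.trans e').toMonoidHom.comp (QuotientGroup.mk' _)) ((e.trans e').surjective.comp (QuotientGroup.mk'_surjective _))
      fun x hx => l ((QuotientGroup.eq_one_iff x).1 ((e.trans e').injective (hx.trans (map_one _).symm)))

end CF.Cl2
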