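import Cfsg.Agent.Loc.GC8
import Cfsg.Agent.Loc.PU8
import Cfsg.Agent.GW.Cent4

/-! Global `C*(G,T)`: two rank one groups over `J = AB`. -/

set_option autoImplicit false
set_option linter.unusedSectionVars false

namespace CF.Cl2
open Subgroup Cfsg CF.BG CF.Sig CF.GW CF.Ab2
open CF.FF (NatOn IsB)
open CF.Loc (IsSyl IsCharP)
open CF.GC (LC Hn)
open scoped commutatorElement MatrixGroups

universe u
variable {G : Type u} [Group G] [Finite G]
variable {A B D E H J K L M N P Q R S T U V W X Y Z : Subgroup G} {a b d e f g k l n s t u v w x y z : G}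
variable {F : Type} [Field F] [Fintype F] {ρ ρ' : G → SL(2, F)} {ψ ψ' : G → Fin 2 → F}

theorem lc_c1 (h : LC G) (i : Iv z) : IsCharP 2 (𝐂₁ z) :=
  cent_zpowers z ▸ h.chC i.piGrp.isPGroup (by simpa using i.ne_one)

theorem Nd.le_norm (h : Nd F A B J L ρ ψ) (c : IsCharP 2 Y) (l : L ≤ Y) (b : IsB 2 J Y) : Y ≤ 𝐍 A := by
  have nQ := Loc.le_normalizer_pCoreOf 2 Y
  have kQ := Loc.isPGroup_pCoreOf 2 Y
  have nJ := b.le_norm kQ ((h.sL.trans l).trans nQ) (Loc.pCoreOf_le 2 Y)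
  have k2 := piGrp_of_isPGroup Ab2.p2 kQ
  unfold IsCharP at c
  generalize pCoreOf 2 Y = Q at *
  have o : Q ⊓ L ≤ A := h.core ▸ le_O ⟨inf_le_right, norm_inf (l.trans nQ) (le_norm_self L)⟩ k2.inf_left
  have nA : Q ≤ 𝐍 A := norm_of_comm_le' ((le_inf (comm_le_left ((h.aL.trans l).trans nQ))
    (((commutator_mono le_rfl h.la).trans (comm_le_right nJ)).trans h.sL)).trans o)
  have QA : Q ≤ A := fun x hx => h.fa x (nA hx) (k2.elt hx) fun y hy =>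
    (le_inf (comm_le_left (l.trans nQ)) (comm_le_right (nA.trans h.nA))).trans o (commutator_mem_commutator hx hy)
  rwa [← le_antisymm QA ((le_inf (h.aL.trans l) (h.ea.abel.trans (cent_anti QA))).trans c)]

/-- one of the rank one groups -/
structure D1 (F : Type) [Field F] (A B J L : Subgroup G) (ρ : G → SL(2, F)) (ψ : G → Fin 2 → F) : Prop
    extends Nt F L A B J L ρ ψ where
  lc : LC G
  ia : ∀ Y, IsCharP 2 Y → L ≤ Y → IsB 2 J Y
  hn : Hn A J L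

namespace D1
variable (h : D1 F A B J L ρ ψ)
include h

theorem cAB : ♯A = ♯B := by rw [h.card_A, h.card_B, ← h.cardA, ← h.cardB]
theorem cZ0 : ♯(A ⊓ B) = Nat.card F * ♯(A ⊓ 𝐂 L) := by
  have := h.nat.card_V'
  rw [h.card_A, ← h.cardB, sq, mul_assoc] at this
  exact Nat.eq_of_mul_eq_mul_left Nat.card_pos this
theorem cJ : ♯J = Nat.card F * (Nat.card F * ♯(A ⊓ B)) := by
  rw [← card_mul_relIndex h.la, ← h.cardA, h.card_A, ← h.cardB, mul_comm]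
theorem om : omegaOneCenter 2 (thompsonSubgroupOf 2 J) ≤ A ⊓ B := le_inf
  (FF.omegaJ_le ⟨h.la, h.ea.isEA, fun E l e => (h.le_or' l (.of_isEA Ab2.p2 e)).elim card_le fun k => h.cAB ▸ card_le k⟩)
  (FF.omegaJ_le ⟨h.lb, h.eb.isEA, fun E l e => (h.le_or' l (.of_isEA Ab2.p2 e)).elim (fun k => h.cAB ▸ card_le k) card_le⟩)
theorem ne : A ≠ ⊥ := ne_bot_mono h.Z_ne inf_le_left
theorem isA : IsB 2 J (𝐍 A) := h.ia _ (h.lc A h.ea.pi.isPGroup h.ne) h.lN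
theorem nA' : J ≤ 𝐍 A := h.toNt.toAB.nA

theorem cA' : 𝐂 A ≤ A := by
  have c := h.lc.chC h.ea.pi.isPGroup h.ne
  have kQ := Loc.isPGroup_pCoreOf 2 (𝐂 A)
  have l := Loc.pCoreOf_le 2 (𝐂 A)
  have nQ := h.nA'.trans ((norm_le_norm_cent A).trans (Loc.normalizer_le_normalizer_pCoreOf 2 _))
  unfold IsCharP at c
  generalize pCoreOf 2 (𝐂 A) = Q at *
  have : Q ≤ A := fun x hx => h.mem_of_cent (GC.isB_cent h.isA (Loc.isPGroup_sup' h.syl.pi.isPGroup kQ nQ) le_sup_left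
    (sup_le h.nA' (l.trans (cent_le_norm A))) (h.om.trans inf_le_left) (mi (mem_sup_right hx) (l hx))) (l hx)
  exact ((le_inf le_rfl (cent_anti this)).trans c).trans this

theorem nP (q : 2 < Nat.card F) : 𝐍 A ≤ 𝐍 L := GC.norm_of_nat h.nat q h.ea.isEA h.cA' h.la h.ker h.hn

theorem nB' (hg : g ∈ 𝐍 J) (n : g ∈ 𝐍 A) : g ∈ 𝐍 B := (h.le_or' (cj_le_of_norm hg h.lb) (h.eb.cj g)).elim
  (fun l => (h.nba ((cj_le_iff.1 l).trans (cj_of_norm (inv_mem n)).le)).elim) mem_norm_of_cj_le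

theorem sw (hg : g ∈ 𝐍 J) (n : g ∉ 𝐍 A) : Sw A B g :=
  have e := eq_of_le_of_card_ge ((h.le_or' (cj_le_of_norm hg h.la) (h.ea.cj g)).resolve_left (mt mem_norm_of_cj_le n))
    (by simp [h.cAB])
  ⟨e, eq_of_le_of_card_ge ((h.le_or' (cj_le_of_norm hg h.lb) (h.eb.cj g)).resolve_right fun l =>
    h.nba (cj_le_cj.1 (l.trans e.ge))) (by simp [h.cAB])⟩

theorem triv (k : P2 R) (l : A ≤ R) (n : R ≤ 𝐍 A) (c : ⁅R, L⁆ ≤ A) : R ≤ 𝐂 ⁅L, A⁆ := by
  have nR : L ≤ 𝐍 R := norm_of_comm_le (c.trans l)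
  have nU := norm_commutator h.lN nR
  have lU := comm_le_left n
  obtain ⟨w, hw, w0⟩ := h.nat.exists_w
  haveI := Fact.mk Ab2.p2
  have : ⁅A, R⁆ ≤ B := by_contra fun e => h.nab ((Loc.le_of_le_commutator_sup k.isPGroup l le_rfl (norm_inf n fun g hg =>
    norm_le_norm_cent L (mem_norm_of fun y hy => mem_of_eq (mul_mem (h.aL (c (commutator_mem_commutator hg hy))) hy) (by
      rw [commutatorElement_def]; group))) (h.cover lU nU e)).trans (h.ZA_le.trans inf_le_right))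
  exact cent_symm (commutator_eq_bot_iff_le_centralizer.1 (commutator_commutator_eq_bot_of_rotate
    (commutator_eq_bot_iff_le_centralizer.2 fun z hz => h.opp hw (h.lN hw) (mt (h.norm_iff hw).1 w0) (mi (lU hz) (this hz))
      (this (conj_mem_of_norm (nU hw) hz))) (commutator_eq_bot_iff_le_centralizer.2 (c.trans h.ea.abel))))

end D1

structure Dv (F : Type) [Field F] (T A B J L M : Subgroup G) (ρ : G → SL(2, F)) (ψ : G → Fin 2 → F)
    (ρ' : G → SL(2, F)) (ψ' : G → Fin 2 → F) : Prop where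
  na : D1 F A B J L ρ ψ
  nb : D1 F B A J M ρ' ψ'
  dd : ∀ z ∈ A ⊓ B, z ∈ 𝐂 L → z ∈ 𝐂 M → z = 1
  syl : Syl 2 T ⊤
  JT : J ≤ T

namespace Dv
variable (h : Dv F T A B J L M ρ ψ ρ' ψ')
include h

theorem symm : Dv F T B A J M L ρ' ψ' ρ ψ := ⟨h.nb, h.na, fun x a b c => h.dd x (mi a.2 a.1) c b, h.syl, h.JT⟩

theorem cD : ♯(A ⊓ 𝐂 L) ≤ Nat.card F := by
  have := card_sup_mul_card_inf (H := A ⊓ 𝐂 L) (K := B ⊓ 𝐂 M) (.inl ((h.na.ZA_le.trans inf_le_right).trans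
    ((h.nb.ea.abel.trans (cent_anti inf_le_left)).trans (cent_le_norm _))))
  rw [eq_bot_of_forall fun z (hz : z ∈ A ⊓ 𝐂 L ⊓ (B ⊓ 𝐂 M)) => h.dd z (mi hz.1.1 hz.2.1) hz.1.2 hz.2.2, card_bot, mul_one] at this
  exact Nat.le_of_mul_le_mul_right (this.ge.trans ((card_le (sup_le (h.na.ZA_le.trans (inf_comm A B).le) h.nb.ZA_le)).trans
    h.nb.cZ0.le)) (card_pos' _)

variable (q : 2 < Nat.card F)
include q

theorem nd : Nd F A B J L ρ ψ := ⟨h.na.toNt, h.na.cA', h.na.nP q, fun g hg e c => by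
  have n : A ⊔ zpowers g ≤ 𝐍 A := sup_le (le_norm_self A) (zpowers_le.2 hg)
  have t := h.na.triv (h.na.ea.pi.sup e.zpowers (.inr (zpowers_le.2 hg))) le_sup_left n (le_centMod.1 (sup_le
    (le_centMod.2 ⟨le_norm_self A, comm_le_left h.na.lN⟩) (zpowers_le.2 ⟨hg, c⟩))).2 (mem_sup_right (mem_zpowers g))
  have gB := h.na.nB' (mem_norm_of fun s hs => mem_of_eq (mul_mem (h.na.la (c s (h.na.sL hs))) hs) (by
    rw [commutatorElement_def]; group)) hg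
  have n1 := norm_inf_cent le_rfl (h.na.nP q) hg
  have n2 := norm_inf_cent le_rfl (h.nb.nP q) gB
  refine h.na.cA' (cent_anti h.na.nat.le_comm_sup ((cent_sup _ _).ge (mi (commutator_comm L A ▸ t) (mem_cent.2 fun d hd => ?_))))
  obtain ⟨u, hu, v, hv, rfl⟩ := (mem_sup_norm ((comm_le_left h.nb.nA').trans ((h.nb.ea.abel.trans (cent_anti inf_le_left)).trans
    (cent_le_norm _)))).1 ((h.nb.inf_centS.symm.trans h.nb.nat.cent_eq).le (mi (h.na.ZA_le hd).2 hd.1))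
  have m := mul_mem (conj_mem_of_norm n1 hd) (inv_mem hd)
  have m' := mul_mem (conj_mem_of_norm n2 hv) (inv_mem hv)
  have l : ⁅B, J⁆ ≤ ⁅L, A⁆ := commutator_le.2 fun b hb s hs => by
    obtain ⟨b', hb', a, ha, rfl⟩ := h.nb.mul s hs
    rw [cm_r (h.nb.cma hb' (h.na.comm_mem (h.na.lb hb) ha).2), cm1 (h.nb.cma hb hb'), one_mul]
    exact commutator_mem_commutator (h.na.sL (h.na.lb hb)) ha
  have := h.dd _ (h.na.ZA_le m) m.2 (mem_of_eq (conj_mem_of_norm (norm_le_norm_cent M (le_norm_self M (h.nb.aL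
    (comm_le_left h.nb.nA' hu)))) m'.2) (by rw [← mul_assoc g, ← mem_cent.1 t u (l hu)]; group))
  exact (mul_inv_eq_iff_eq_mul.1 (mul_inv_eq_one.1 this)).symm, q⟩

theorem ca : A ⊓ 𝐂 L = ⊥ ∨ ∃ d ∈ A ⊓ 𝐂 L, d ≠ 1 ∧ 𝐂₁ d ≤ 𝐍 A := or_iff_not_imp_left.2 fun c =>
  let ⟨d, hd, d1⟩ := exists_mem_ne_one c
  have i := lc_c1 h.na.lc (ab_iv h.na.ea hd.1 d1)
  ⟨d, hd, d1, (h.nd q).le_norm i (le_cent1_iff.2 hd.2) (h.na.ia _ i (le_cent1_iff.2 hd.2))⟩

theorem bd : Bd F A B J L M ρ ψ ρ' ψ' :=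
  ⟨h.nd q, h.symm.nd q, h.dd, fun z i => core_eq (𝐂₁ z) ▸ lc_c1 h.na.lc i, h.ca q, h.symm.ca q⟩

end Dv

end CF.Cl2
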