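import Cfsg.Agent.Loc.GC11
import Cfsg.Agent.Loc.AB10
import Cfsg.Agent.NC.J
import Cfsg.Agent.W2.JH

/-! Global `C*(G,T)`, identification: two rank one groups over `J = AB`, `q > 2`. -/

set_option autoImplicit false
set_option linter.unusedSectionVars false

namespace CF.Cl2
open Subgroup Cfsg CF.BG CF.Sig CF.GW CF.Ab2
open CF.FF (NatOn IsB)
open CF.Loc (IsSyl IsCharP)
open CF.GC (LC Hn)
open scoped commutatorElement MatrixGroups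

universe u
variable {G : Type u} [Group G] [Finite G]
variable {A B D E H J K L M N P Q R S T U V W X Y Z : Subgroup G} {a b d e f g k l n s t u v w x y z : G}
variable {F : Type} [Field F] [Fintype F] {ρ ρ' : G → SL(2, F)} {ψ ψ' : G → Fin 2 → F}

theorem lc_cp (h : LC G) (i : Iv z) : Sig.CharP 2 (𝐂₁ z) := by
  have := lc_c1 h i
  unfold IsCharP at this
  rwa [core_eq] at this

theorem der_of_idx (i : J.relIndex S ≤ 2) : ⁅S, S⁆ ≤ J := commutator_le.2 fun a ha b hb => by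
  rw [commutatorElement_def, mul_assoc]
  have k := fun {a b} => mul_of_idx (a := a) (b := b) i
  by_cases p : a ∈ J <;> by_cases q : b ∈ J
  · exact mul_mem (mul_mem p q) (mul_mem (inv_mem p) (inv_mem q))
  · exact k (mul_mem ha hb) (mul_mem (inv_mem ha) (inv_mem hb)) (by rwa [mul_mem_cancel_left p])
      (by rwa [mul_mem_cancel_left (inv_mem p), inv_mem_iff])
  · exact k (mul_mem ha hb) (mul_mem (inv_mem ha) (inv_mem hb)) (by rwa [mul_mem_cancel_right q])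
      (by rwa [mul_mem_cancel_right (inv_mem q), inv_mem_iff])
  · exact mul_mem (k ha hb p q) (k (inv_mem ha) (inv_mem hb) (mt inv_mem_iff.1 p) (mt inv_mem_iff.1 q))

theorem noE8 [IsSimpleGroup G] (hG : ¬ IsMulCommutative G) (lc : LC G) (hT : Syl 2 T ⊤) (ne : MW.NE T) (e : Abelem 2 A)
    (l : A ≤ T) (c : 4 < ♯A) : ♯T = 128 ∧ ∃ z ∈ T ⊓ 𝐂 T, J23.Hyp z := by
  haveI := Fact.mk Ab2.p2
  have r : 2 < BG.pRank 2 T := by_contra fun r => c.not_ge (card_le_sq e Ab2.p2 l (not_lt.1 r))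
  obtain ⟨z, u, H, x, hx, xu, m⟩ := NC.exN0 hT ne r
  have k : ∀ w ∈ V4 z u, w ≠ 1 → PLay 2 (𝐂₁ w) = ⊥ := fun w hw w1 => (lc_cp lc (H.f.iv_of_mem hw w1)).PLay Ab2.p2
  obtain ⟨c1, c2⟩ := H.fused (ns_top hG) hx xu m k
  obtain ⟨S, rfl⟩ := hT.exists_sylow_top
  obtain ⟨P, ⟨e⟩⟩ := (NC.fused_end S H (ns_top hG) r c1 c2).resolve_right fun o => o.2 ((lc_cp lc H.f.l).PLay Ab2.p2)
  obtain ⟨φ, h, f⟩ := W2.J.exists_sm S e
  rw [← f]
  refine ⟨(Nat.card_congr (MonoidHom.ofInjective h.inj).toEquiv).symm.trans Cod.El.card, _, mi ⟨_, rfl⟩ (mem_cent.2 ?_), W2.J.hyp h⟩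
  rintro _ ⟨a, rfl⟩
  exact mem_cent1.1 (W2.J.mem_cz φ a)

theorem lq_res' (l : LX.LQ Q z) (h : Q ≤ K) : LX.LQ (Q.subgroupOf K) ⟨z, h l.mem⟩ := by
  have c : ∀ x : K, x ∈ 𝐂 (Q.subgroupOf K) → x.1 ∈ 𝐂 Q := fun x k y hy => congrArg Subtype.val (k ⟨y, h hy⟩ hy)
  have t : ∀ x ∈ Q.subgroupOf K, x ∈ 𝐂 (Q.subgroupOf K) → x = 1 ∨ x = ⟨z, h l.mem⟩ := fun x _ k =>
    (l.cent_cases (c x k)).imp Subtype.ext Subtype.ext
  refine ⟨⟨⟨l.mem, (orderOf_mk _ _).trans l.ord, fun y hy => Subtype.ext (l.cent y hy), fun x hx => (l.sq _ hx).imp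
    Subtype.ext Subtype.ext, fun x hx k _ => t x hx k⟩, t, fun e => l.nab fun x hx => ?_⟩, fun x k => l.cen (c x k),
    fun x k => mem_norm_of fun y hy => conj_mem_of_norm (H := Q) (l.nor' (congrArg Subtype.val (mem_cent1.1 k))) hy⟩
  obtain ⟨n, hn⟩ := e (show ⟨x, h hx⟩ ∈ Q.subgroupOf K from hx)
  exact ⟨n, congrArg Subtype.val hn⟩

theorem hyp_card (h : J23.Hyp z) : Nat.card G = 604800 ∨ Nat.card G = 50232960 :=
  have := Comp.J3.simpleP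
  (h.equiv_or J23.mod0).imp (fun ⟨f, _⟩ => (Nat.card_congr (Comp.J2.eqv.trans f).toEquiv).symm.trans Comp.J2.card)
    fun ⟨f⟩ => (Nat.card_congr f.toEquiv).symm.trans Comp.J3.cardP

theorem hyp_false (h : J23.Hyp z) (hT : Syl 2 T ⊤) (hz : z ∈ T ⊓ 𝐂 T) (y : Y ≠ ⊤) (c : 𝐂 (omegaOneCenter 2 T) ≤ Y) (hk : k ∈ Y)
    (n : k * z * k⁻¹ ≠ z) (m : k * z * k⁻¹ * z = z * (k * z * k⁻¹)) : False := by
  obtain ⟨Q, l, cQ⟩ := h.ex
  have QC : Q ≤ 𝐂₁ z := le_cent1_iff.2 l.cent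
  have QT : Q ≤ T := (hT.of_le (le_cent1_iff.2 hz.2) le_top).le_of_normal ⟨QC, l.nor⟩
    (piGrp_of_isPGroup Ab2.p2 (IsPGroup.of_card (n := 5) cQ))
  have cz : 𝐂₁ z ≤ Y := fun g hg => c (mem_cent.2 fun w hw => by
    rcases l.cent_cases (cent_anti QT (Loc.omegaOneCenter_le_centralizer 2 T hw)) with rfl | rfl
    exacts [by simp, (mem_cent1.1 hg).symm])
  have QY := QC.trans cz
  have c1 := hyp_card (G := Y) (z := ⟨z, QY l.mem⟩) ⟨⟨_, lq_res' l QY, (CF.Solv.card_subgroupOf_of_le QY).trans cQ⟩, by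
    rw [← h.card, ← CF.Solv.card_subgroupOf_of_le cz]
    congr 2
    ext g
    simp only [mem_centralizer_singleton_iff, mem_subgroupOf]
    exact ⟨fun h => congrArg Subtype.val h, fun h => Subtype.ext h⟩,
    ⟨k, hk⟩, fun e => n (congrArg Subtype.val e), Subtype.ext m⟩
  have c2 := hyp_card h
  have c3 := Y.card_subgroup_dvd_card
  have c4 : ♯Y ≠ Nat.card G := mt (card_eq_iff_eq_top Y).1 y
  generalize ♯Y = m at c1 c3 c4
  generalize Nat.card G = n at c2 c3 c4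
  rcases c1 with rfl | rfl <;> rcases c2 with rfl | rfl
  exacts [c4 rfl, by norm_num at c3, by norm_num at c3, c4 rfl]

namespace Bd
variable (h : Bd F A B J L M ρ ψ ρ' ψ') (q : 4 < ♯(A ⊓ B))
include h q

theorem q5 (n1 : A ⊓ 𝐂 L = ⊥) : 4 < Nat.card F := (h.bk n1).na.cZ0 ▸ q

theorem ns5 : 𝐍 J ≤ 𝐍 A ⊓ 𝐍 B := fun x nx => (h.perm nx).resolve_right fun s => by
  refine h.false (fun z hz a b => ?_) q s nx
  by_cases n1 : A ⊓ 𝐂 L = ⊥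
  · exact (h.bk n1).cent (h.q5 q n1) hz fun e => a (e ▸ one_mem _)
  · exact h.cent n1 s nx hz a b

theorem hc5 (z : G) (hz : z ∈ A ⊓ B) (zL : z ∉ 𝐂 L) (zM : z ∉ 𝐂 M) : 𝐂₁ z ≤ 𝐍 J := by
  by_cases n1 : A ⊓ 𝐂 L = ⊥
  · exact (h.bk n1).cent (h.q5 q n1) hz fun e => zL (e ▸ one_mem _)
  obtain ⟨a', ha', b', hb', a1, b1, c⟩ := h.hc0 (h.ns5 q) n1
  obtain ⟨a, ha, b, hb, rfl⟩ := h.spl n1 hz
  obtain ⟨k, hk, rfl⟩ := h.trD ha' a1 ha fun e => zM (by simpa [e] using hb.2)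
  obtain ⟨l, hl, rfl⟩ := h.symm.trD hb' b1 hb fun e => zL (by simpa [e] using ha.2)
  rw [show k * a' * k⁻¹ * (l * b' * l⁻¹) = l * k * (a' * b') * (l * k)⁻¹ by
    rw [cjm, ← conj_mul (b := k), mem_cent.1 hb'.2 k hk.1, mul_inv_cancel_right, ← conj_mul (b := l), mem_cent.1 ha.2 l hl.1,
      mul_inv_cancel_right], ← cj_cent1]
  exact cj_le_of_mem (mul_mem hl.2 hk.2) c

theorem sc5 (hx : x ∈ J) (n : g * x * g⁻¹ ∈ 𝐍 J) : g * x * g⁻¹ ∈ J := by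
  have hc := h.hc5 q
  have ns := h.ns5 q
  by_cases e : x * x = 1
  · exact h.sc2 hc q hx e n
  have e2 := (h.na.syl.pi.elt hx).conj g
  obtain ⟨a, ha, b, hb, rfl⟩ := h.na.mul x hx
  have na : a ∉ B := fun c => e (h.na.sqb (mul_mem c hb))
  have nb : b ∉ A := fun c => e (h.na.sqa (mul_mem ha c))
  have f : a * b * (a * b) = ⁅a, b⁆ := by rw [commutatorElement_def, ab_inv h.na.ea ha, ab_inv h.na.eb hb]; group
  have m := h.na.comm_le (commutator_mem_commutator ha hb)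
  have c := hc _ m (fun c => h.na.comm_not (h.na.lb hb) nb ha na (commutatorElement_inv a b ▸ inv_mem c))
    (h.nb.comm_not (h.na.la ha) na hb nb)
  have o : ∀ U, Abel U → g * ⁅a, b⁆ * g⁻¹ ∈ U → cj g⁻¹ U ≤ 𝐍 J := fun U k i =>
    le_trans (cj_le_iff.2 (by rw [inv_inv, cj_cent1]; exact k.trans (cent_le_cent1 i))) c
  rcases h.na.inv _ (h.sc1 hc q m (by rw [← f, ← conj_mul]; exact mul_mem n n)) (sq_conj (h.na.sqa m.1) g) with k | k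
  · exact h.na.mem2 (conj_mem_of_norm (h.na.nA (inv_mem_iff.1 (h.wc ns (o A h.na.ea.abel k)))) (h.na.sL hx)) n e2
  · exact h.nb.mem2 (conj_mem_of_norm (h.nb.nA (inv_mem_iff.1 (h.symm.wc (inf_comm (𝐍 A) _ ▸ ns) (o B h.nb.ea.abel k))))
      (h.nb.sL hx)) n e2

theorem syl5 (r : pResidual 2 G = ⊤) : Syl 2 J ⊤ := by
  obtain ⟨S, hS⟩ := BG.exists_syl 2 (𝐍 J)
  have l : ⊤ ⊓ 𝐍 J ≤ 𝐍 A ⊓ 𝐍 B := inf_le_right.trans (h.ns5 q)
  have f := (le_inf le_rfl (le_der_of_res r hS.pi)).trans ((SC2.foc (h.syl hS) (h.JS hS) fun x hx g _ m =>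
    h.sc5 q hx (hS.le m)).trans (sup_le h.na.J_lin ((commutator_mono l l).trans h.na.der_lin)))
  exact le_antisymm (fun x hx => h.na.lin (f hx) (hS.pi.elt hx)) (h.JS hS) ▸ h.syl hS

end Bd

namespace Bk
variable (h : Bk F A B J L M ρ ψ ρ' ψ')
include h

theorem exF (q : Nat.card F = 4) (hx : x ∈ 𝐍 A ⊓ 𝐍 B) (e : E2 x) (n : x ∉ J) : ∃ t ∈ 𝐍 A ⊓ 𝐍 B, t ∉ J ∧ t * t = 1 := by
  have sq : ∀ a ∈ 𝐍 A ⊓ 𝐍 B, a * a ∈ Lin A B ψ := fun a ha => by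
    obtain ⟨σ, s⟩ := h.na.sl ha
    have : σ * σ = 1 := RingEquiv.ext (sq4 (by simpa using q) (map_add σ) (by simp) one_ne_zero (map_one σ))
    exact show Sl A B ψ _ 1 from this ▸ s.mul s
  obtain ⟨τ, t0, t1⟩ := exists_ne01 h.na.q
  obtain ⟨k, hk, f⟩ := h.na.tor t0
  obtain ⟨u, v, hu, hv, eu, ev, e'⟩ := exists_piPart {2} k
  have v1 : v ≠ 1 := fun c => by
    obtain ⟨z, hz, ez⟩ := h.na.exZ0 1
    have := f z hz
    rw [← h.na.cz (h.na.mem2 hk.1 hk.2 (by rwa [← e', c, mul_one])) hz, mul_inv_cancel_right, ez, mul_one] at this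
    exact t1 this.symm
  obtain ⟨p, pp, dp⟩ := Nat.exists_prime_and_dvd (mt orderOf_eq_one_iff.1 v1)
  obtain ⟨r, hr, er⟩ := BG.exists_mem_orderOf_eq (H := zpowers v) pp (by rwa [Nat.card_zpowers])
  have rL := zpowers_le.2 (zpowers_le.2 hk hv) hr
  have pr : PiElt {p} r := piElt_of_pow_eq_one pp (er ▸ pow_orderOf_eq_one r)
  obtain ⟨P, hP, l⟩ := exists_syl_le (zpowers_le.2 rL) pr.zpowers
  have o : Od P := hP.pi.of_single' (ev p pp dp)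
  obtain ⟨a, ha, b, hb, rfl⟩ := hP.syl_frattini ⟨fun _ => h.LB, norm_inf (inf_le_left.trans h.na.nA)
    (le_trans (fun _ => h.na.nJ') (norm_le_norm_norm J))⟩ hx
  obtain ⟨t, w, ht, hw, et, ew, rfl⟩ := exists_piPart {2} b
  have tn := zpowers_le.2 hb ht
  have wn := zpowers_le.2 hb hw
  have tl : t ∉ Lin A B ψ := fun c => n (h.lin (mul_mem (h.na.le_lin ha) (mul_mem c (sq_mem_of_odd ew (sq w wn.1)))) e)
  refine ⟨t, tn.1, fun c => tl (h.na.J_lin c), ?_⟩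
  have c := h.lin (sq t tn.1) (et.mul et rfl)
  have r1 : r ≠ 1 := fun c => pp.one_lt.ne (by rw [← er, c, orderOf_one])
  have m := l (mem_zpowers r)
  have := h.na.cen_tor (h.nZ rL.2) rL.1 (fun k => r1
    ((h.na.syl.pi.elt (h.na.memJ rL.1 ((h.na.nJ rL.1).1 rL.2) k)).eq_one (o.elt m))) c (by
      have := eq_one_of_mem_bot (h.na.syl.pi.inf_eq_bot o) (mi (mul_mem (conj_mem_of_norm rL.2 c) (inv_mem c))
        (mem_of_eq (mul_mem m (conj_mem_of_norm (mul_mem tn.2 tn.2) (inv_mem m))) (by group)))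
      rwa [mul_inv_eq_one, mul_inv_eq_iff_eq_mul] at this)
  exact h.na.ia _ this.1 this.2

theorem derR (q : Nat.card F = 4) (hS : Syl 2 S (𝐍 J)) (l : S ≤ 𝐍 A ⊓ 𝐍 B) (hz : z ∈ A ⊓ B) (z1 : z ≠ 1) (c : S ≤ 𝐂₁ z) :
    ⁅S, S⁆ ≤ 𝐎 {2} (𝐂₁ z) := by
  have c2 := h.c2 z (ab_iv h.na.ea hz.1 z1)
  have QS := ((h.syl hS).of_le c le_top).O_le
  have nQ := (O_normal {2} (𝐂₁ z)).norm
  have kQ := O_pi {2} (𝐂₁ z)
  have JH := (h.JS hS).trans c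
  have i := h.idx4 q hS.pi l
  have fin : 𝐂₁ z ≤ 𝐍 J → ⁅S, S⁆ ≤ 𝐎 {2} (𝐂₁ z) := fun n => (der_of_idx i).trans (le_O ⟨JH, n⟩ h.na.syl.pi)
  set Q := 𝐎 {2} (𝐂₁ z)
  have QN := QS.trans hS.le
  by_cases k : Q ≤ J
  · refine fin ?_
    by_cases a : Q ≤ A
    · exact h.nJA hz z1 (nQ.trans (le_of_eq (congrArg (fun X => 𝐍 X) (le_antisymm a fun x hx =>
        c2 (mi (JH (h.na.la hx)) (cent_anti a (h.na.ea.abel hx)))))))
    by_cases b : Q ≤ B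
    · exact h.symm.nJA (mi hz.2 hz.1) z1 (nQ.trans (le_of_eq (congrArg (fun X => 𝐍 X) (le_antisymm b fun x hx =>
        c2 (mi (JH (h.na.lb hx)) (cent_anti b (h.na.eb.abel hx)))))))
    obtain ⟨u, hu, nu⟩ := SetLike.not_le_iff_exists.1 a
    obtain ⟨v, hv, nv⟩ := SetLike.not_le_iff_exists.1 b
    refine fun g hg => h.nJ_of ((cj_le_of_norm (nQ hg) (chain c2 (fun g hg => mem_norm_of fun x hx => ?_)
      h.na.ea.pi.inf_left JH h.na.cZ (inf_le_left.trans k) h.der QN)).trans QN)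
    have m := cent_anti k (cent_symm h.na.cZ hx)
    have m' := conj_mem_of_norm (nQ hg) (c2 (mi (JH (h.na.la hx.1)) m))
    have m := mem_cent.1 (conj_mem_of_norm (norm_le_norm_cent Q (nQ hg)) m)
    exact (h.na.inv _ (k m') (sq_conj (h.na.sqa hx.1) g)).elim (fun o => mi o (h.na.memB (k hu) nu o (m u hu).symm))
      fun o => mi (h.nb.memB (k hv) nv o (m v hv).symm) o
  obtain ⟨y, hy, ny⟩ := SetLike.not_le_iff_exists.1 k
  have yN := l (QS hy)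
  obtain ⟨a, ha, na⟩ : ∃ a ∈ A, y * a * y⁻¹ * a⁻¹ ∉ B := by simpa using mt (h.b3 yN (kQ.elt hy)) ny
  have m : y * a * y⁻¹ * a⁻¹ ∈ Q := mem_of_eq (mul_mem hy (conj_mem_of_norm (nQ (JH (h.na.la ha))) (inv_mem hy))) (by group)
  have ZQ : A ⊓ B ≤ Q := fun x hx => by
    obtain ⟨b, hb, rfl⟩ := h.na.surj (mul_mem (conj_mem_of_norm yN.1 ha) (inv_mem ha)) na hx
    exact mul_mem (conj_mem_of_norm (nQ (JH (h.na.lb hb))) m) (inv_mem m)
  have e : S ≤ J ⊔ Q := fun s hs => by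
    by_cases o : s ∈ J
    · exact mem_sup_left o
    exact (mul_mem_cancel_right (mem_sup_right hy)).1 (mem_sup_left (mul_of_idx i hs (QS hy) o ny))
  have nJ := JH.trans nQ
  exact (commutator_mono e e).trans (comm_sup_le (comm_sup_le' (h.der.trans ZQ) (comm_le_right nJ) nJ (le_norm_self Q))
    (comm_le_left (sup_le nJ (le_norm_self Q))) nJ (le_norm_self Q))

theorem fld (i2 : ∀ H : Subgroup G, H.index ≠ 2) (q : Nat.card F = 4) (b : Bd F A B J L M ρ ψ ρ' ψ') (ns : 𝐍 J ≤ 𝐍 A ⊓ 𝐍 B) :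
    Syl 2 J ⊤ := by
  obtain ⟨S, hS⟩ := BG.exists_syl 2 (𝐍 J)
  refine le_antisymm (fun x hx => by_contra fun nx => ?_) (h.JS hS) ▸ h.syl hS
  obtain ⟨t, ht, nt, t2⟩ := h.exF q (ns (hS.le hx)) (hS.pi.elt hx) nx
  have l := hS.le.trans ns
  obtain ⟨z, hz, z1⟩ := exists_mem_ne_one (hS.pi.inf_cent_ne_bot h.na.ea.pi.inf_left (hS.le.trans h.nZ) h.na.Z_ne)
  have t1 : t ≠ 1 := fun e => nt (e ▸ one_mem _)
  obtain ⟨g, e⟩ : ∃ g, g * t * g⁻¹ = z := by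
    obtain ⟨g, m⟩ := ZD.thompson i2 (h.syl hS) (X := J) (by
      have := h.idx4 q hS.pi l
      have := one_lt_relIndex fun e : S ≤ J => nx (e hx)
      rw [show J.relIndex S = 2 by omega]) ⟨t1, t2⟩
    obtain ⟨g, m⟩ : ∃ g, g * t * g⁻¹ ∈ A ⊓ B := by
      rcases h.na.inv _ m (sq_conj t2 g) with k | k
      · obtain ⟨l, -, m⟩ := h.na.conjZ k
        exact ⟨l * g, cjm l g t ▸ m⟩
      · obtain ⟨l, -, m⟩ := h.nb.conjZ k
        exact ⟨l * g, cjm l g t ▸ mi m.2 m.1⟩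
    have m1 : g * t * g⁻¹ ≠ 1 := by simpa using t1
    obtain ⟨k, hk, e, -⟩ := h.na.diag (div_ne_zero (h.na.ne0 hz.1 z1) (h.na.ne0 m m1))
    exact ⟨k * g, (cjm k g t).trans (h.na.ext0 (conj_mem_of_norm (h.nZ hk.2) m) hz.1 (by
      rw [h.na.ψ0cj hk.1 m, e, div_mul_cancel₀ _ (h.na.ne0 m m1)]))⟩
  have c := le_cent1_iff.2 hz.2
  have ht' := mi ht.2 ht.1
  obtain ⟨a, ha, na, ca⟩ := b.na.exC ht t2 nt
  obtain ⟨d, hd, nd, cd⟩ := b.nb.exC ht' t2 nt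
  have aJ := h.na.la ha
  have dJ := h.na.lb hd
  have m := h.na.comm_mem dJ ha
  obtain ⟨k, hk, o⟩ := ((h.syl hS).of_le c le_top).syl_cj_le (by rw [← e, ← cj_cent1]; exact cj_mono g inf_le_right)
    ((h.na.syl.pi.inf_left (K := 𝐂₁ t)).cj g)
  have uQ : ⁅d, a⁆ ∈ 𝐎 {2} (𝐂₁ t) := by
    have := h.derR q hS l hz.1 z1 c (commutator_mem_commutator (o (conj_mem_cj.2 (conj_mem_cj.2 (mi dJ cd))))
      (o (conj_mem_cj.2 (conj_mem_cj.2 (mi aJ ca)))))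
    rw [← conjugate_commutatorElement, ← conjugate_commutatorElement, ← cj_of_norm ((O_normal _ _).norm hk), conj_mem_cj, ← e,
      ← cj_cent1, ← cj_O, conj_mem_cj] at this
    exact this
  have nQ := (O_normal {2} (𝐂₁ t)).norm
  have kQ := O_pi {2} (𝐂₁ t)
  generalize 𝐎 {2} (𝐂₁ t) = Q at uQ nQ kQ
  obtain ⟨l, hl, nl, cl⟩ := b.exL ht t2 nt
  obtain ⟨r, hr, nr, cr⟩ := b.symm.exL ht' t2 nt
  have rB := h.nb.cA hr m.2
  have rA : r * ⁅d, a⁆ * r⁻¹ ∉ A := fun c => b.nb.comm_not aJ na hd nd (commutatorElement_inv d a ▸ inv_mem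
    (h.nb.opp hr (h.nb.lN hr) (fun c => nr ((h.nb.nJ hr).2 ((h.nb.norm_iff hr).1 c))) (mi m.2 m.1) c))
  have rQ := mi (conj_mem_of_norm (nQ cr) uQ) (h.na.sL (h.na.lb rB))
  obtain ⟨j, hj, o⟩ := h.na.syl.syl_cj_le (inf_le_right : Q ⊓ L ≤ L) kQ.inf_left
  have jN : j ∈ 𝐍 J := by_contra fun c => rA (b.na.ti hj c (h.na.lb rB) (o (conj_mem_cj.2 rQ)))
  exact rA (b.na.ti hl nl (h.na.lb rB) ((cj_le_iff.1 o).trans (cj_of_norm (inv_mem jN)).le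
    (mi (conj_mem_of_norm (nQ cl) rQ.1) (cmem hl rQ.2))))

theorem swp [IsSimpleGroup G] (hG : ¬ IsMulCommutative G) (lc : LC G) (q : Nat.card F = 4) (b : Bd F A B J L M ρ ψ ρ' ψ')
    (hT : Syl 2 T ⊤) (JT : J ≤ T) (y : Y ≠ ⊤) (c : 𝐂 (omegaOneCenter 2 T) ≤ Y) (n : 𝐍 J ≤ Y) : 𝐍 J ≤ 𝐍 A ⊓ 𝐍 B := fun x nx =>
  (h.perm nx).resolve_right fun s => by
  obtain ⟨g, o⟩ := b.exJ hT.pi
  have TN : T ≤ 𝐍 J := (cj_le_iff.1 o).trans (cj_of_mem (inv_mem (h.nJ_of ((cj_mono g JT).trans o)))).le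
  have hS := hT.of_le TN le_top
  obtain ⟨u, hu, eu, s⟩ := s.two
  have uN := zpowers_le.2 nx hu
  obtain ⟨k, hk, o⟩ := hS.syl_cj_le (zpowers_le.2 uN) eu.zpowers
  have s' := h.sw (cmem hk uN) fun c => h.nsw s (mem_of_eq (conj_mem_of_norm' (h.nB hk) c) (by group) : u ∈ 𝐍 A ⊓ 𝐍 B).1
  obtain ⟨-, z, hz, H⟩ := noE8 hG lc hT (fun E n e => (card_le (h.ne hS (o (conj_mem_cj.2 (mem_zpowers u))) s' n e)).trans
    (h.na.cZ0.trans q).le) h.na.ea (h.na.la.trans JT) (by rw [h.na.cA0, q]; decide)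
  have zZ := h.cJ (cent_anti JT hz.2)
  have z0 := h.na.ne0 zZ (Iv.ne_one H.ex.choose_spec.1.ord)
  obtain ⟨t, t0, t1⟩ := exists_ne01 h.na.q
  obtain ⟨k, hk, f⟩ := h.na.tor t0
  exact hyp_false H hT hz y c (n hk.2) (fun e => t1 ((mul_eq_right₀ z0).1 (by rw [← f z zZ, e])))
    (h.na.cma (h.na.cA hk.1 zZ.1) zZ.1)

end Bk

theorem Dv.big [IsSimpleGroup G] (h : Dv F T A B J L M ρ ψ ρ' ψ') (hG : ¬ IsMulCommutative G) (r : pResidual 2 G = ⊤)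
    (q : 2 < Nat.card F) (y : Y ≠ ⊤) (c : 𝐂 (omegaOneCenter 2 T) ≤ Y) (n : 𝐍 J ≤ Y) : Tg (Nat.card F) G := by
  have b := h.bd q
  have s : Syl 2 J ⊤ := by
    by_cases z : 4 < ♯(A ⊓ B)
    · exact b.syl5 z r
    have n1 : A ⊓ 𝐂 L = ⊥ := by_contra fun n1 => z (by nlinarith [b.na.cC, b.cardD n1, b.na.q4])
    have k := b.bk n1
    have q4 : Nat.card F = 4 := le_antisymm (k.na.cZ0 ▸ not_lt.1 z) b.na.q4
    exact k.fld (ns_top hG).index_ne q4 b (k.swp hG h.na.lc q4 b h.syl h.JT y c n)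
  exact h.na.cardA ▸ AB.simple { h.na.toAB with syl := s } (h.na.cardA ▸ q)

end CF.Cl2
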