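import Cfsg.Agent.Loc.GD2

/-! Global `C*(G,T)`, identification: Sylow subgroups of type `D₈ ≀ 2`. -/

set_option autoImplicit false
set_option linter.unusedSectionVars false

namespace CF.GC

open Cfsg Subgroup CF.Loc CF.FF Equiv
open CF.PLocal (maxAb thompson_le le_thompson upT)
open scoped commutatorElement MatrixGroups

universe u
variable {G : Type u} [Group G] {A B C D E E' H K L M N P Q R S T U V W X Y Z : Subgroup G} {a b c d e g k q r s t u v w x y z : G}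

theorem zp2 (h : c * c ∈ K) (n : c ∈ 𝐍(K)) (hb : b ∈ K ⊔ zpowers c) : b ∈ K ∨ b * c ∈ K := by
  obtain ⟨k, hk, _, ⟨m, rfl⟩, rfl⟩ := (mem_sup_of_le_normalizer (zpowers_le.2 n)).1 hb
  obtain ⟨j, rfl | rfl⟩ := Int.even_or_odd' m
  · exact .inl (mul_mem hk (show c ^ (2 * j) ∈ K by rw [zpow_mul, zpow_two]; exact zpow_mem h j))
  · refine .inr (mul_assoc k _ c ▸ mul_mem hk ?_)
    have := zpow_mem h (j + 1)
    rwa [← zpow_two, ← zpow_mul, show 2 * (j + 1) = 2 * j + 1 + 1 by ring, zpow_add_one] at this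

theorem ea_zp (h : t * t = 1) : IsElementaryAbelian 2 (zpowers t) :=
  ea_of_sq fun q hq => by rcases eq_or_of_mem_zpowers h hq with rfl | rfl; exacts [mul_one 1, h]

theorem cent_zp : g ∈ 𝐂(zpowers t) ↔ g * t = t * g := mem_cent_zp.trans mul_inv_eq_iff_eq_mul

theorem dvm (e : b * b = 1) (i : a * c ∈ U) (j : b * c ∈ U) : a * b ∈ U := by
  simpa [inv_eq_of_mul_eq_one_right e] using mul_mem i (inv_mem j)

variable [Finite G]

theorem free_conj (e : IsElementaryAbelian 2 U) (n : c ∈ 𝐍(U)) (c2 : c * c = 1)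
    (k : Nat.card ↥(U ⊓ 𝐂(zpowers c)) * Nat.card ↥(U ⊓ 𝐂(zpowers c)) ≤ Nat.card U) (hs : s * c ∈ U) (s2 : s * s = 1) :
    ∃ w ∈ U, w * c * w⁻¹ = s := by
  have ab := isElemAb_le_centralizer e
  let f : U →* G := MonoidHom.mk' (fun w => ⁅(w : G), c⁆) fun v w => by
    rw [coe_mul, cml, conj_eq_of_mem_centralizer (ab v.2) (cm_mem' w.2 n), ab (cm_mem' v.2 n) _ (cm_mem' w.2 n)]
  have l : f.range ≤ U ⊓ 𝐂(zpowers c) := by
    rintro _ ⟨w, rfl⟩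
    refine ⟨cm_mem' w.2 n, cent_zp.2 ?_⟩
    have := cm_fix (b := c) (w := w) (by rw [c2]; simp) (mul_self_of_elemAb e (cm_mem n w.2))
    show ⁅(w : G), c⁆ * c = c * ⁅(w : G), c⁆
    rw [← commutatorElement_inv c, inv_eq_of_mul_eq_one_right (mul_self_of_elemAb e (cm_mem n w.2)), mul_inv_eq_iff_eq_mul.1 this]
  have c1 : Nat.card f.ker ≤ Nat.card ↥(U ⊓ 𝐂(zpowers c)) := Nat.card_le_card_of_injective
    (fun w => ⟨w.1, w.1.2, cent_zp.2 (commutatorElement_eq_one_iff_mul_comm.1 w.2)⟩) fun v w z =>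
      Subtype.ext (Subtype.ext (congrArg Subtype.val z :))
  have c3 := f.ker.card_mul_index
  rw [index_ker] at c3
  have : f.range = U ⊓ 𝐂(zpowers c) := eq_of_le_of_card_le l (Nat.le_of_mul_le_mul_left
    (k.trans (c3.ge.trans (Nat.mul_le_mul_right _ c1))) Nat.card_pos)
  have m : c * s = s * c := by
    rw [← inv_eq_of_mul_eq_one_right (mul_self_of_elemAb e hs), mul_inv_rev, inv_eq_of_mul_eq_one_right c2,
      inv_eq_of_mul_eq_one_right s2]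
  obtain ⟨w, z⟩ := this.ge ⟨hs, cent_zp.2 (by rw [← mul_assoc, m])⟩
  exact ⟨w, w.2, mul_right_cancel (b := c⁻¹) (z.trans (by rw [inv_eq_of_mul_eq_one_right c2]))⟩

structure DW (T M U L : Subgroup G) (x r y s : G) : Prop extends C2 T M U L where
  q : Nat.card ↥(T ⊓ 𝐂(U)) ≤ 16
  xB : x ∈ 𝐁[2](T)
  yB : y ∈ 𝐁[2](T)
  rU : r ∈ U ⊓ 𝐂(𝐁[2](T))
  sU : s ∈ U ⊓ 𝐂(𝐁[2](T))
  rs : r ≠ s
  cx : ⁅𝐁[2](T), zpowers x⁆ ≤ zpowers r
  cy : ⁅𝐁[2](T), zpowers y⁆ ≤ zpowers s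
  vx : ∃ v ∈ U, x * v = v * x ∧ y * v ≠ v * y
  vy : ∃ v ∈ U, y * v = v * y ∧ x * v ≠ v * x
  gen : ∀ b ∈ 𝐁[2](T), b ∈ 𝐂(U) ∨ b * x ∈ 𝐂(U) ∨ b * y ∈ 𝐂(U) ∨ b * (x * y) ∈ 𝐂(U)
  kx : ∃ k ∈ L, k ∉ M ∧ ⁅x, k⁆ ∈ 𝐂(U)
  ky : ∃ k ∈ L, k ∉ M ∧ ⁅y, k⁆ ∈ 𝐂(U)

namespace DW
variable (h : DW T M U L x r y s)
include h

theorem cmx (hb : b ∈ 𝐁[2](T)) : ⁅x, b⁆ = 1 ∨ ⁅x, b⁆ = r := eq_or_of_mem_zpowers (h.sq h.rU.1) (comm_mem_zp h.cx hb)
theorem cmy (hb : b ∈ 𝐁[2](T)) : ⁅y, b⁆ = 1 ∨ ⁅y, b⁆ = s := eq_or_of_mem_zpowers (h.sq h.sU.1) (comm_mem_zp h.cy hb)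

theorem xy : x * y = y * x := commutatorElement_eq_one_iff_mul_comm.1 (by_contra fun c => by
  have e := (h.cmx h.yB).resolve_left c
  rcases h.cmy h.xB with z | z <;> rw [← commutatorElement_inv] at z
  · exact c (inv_eq_one.1 z)
  · exact h.rs (by rw [← z, e, inv_eq_of_mul_eq_one_right (h.sq h.rU.1)]))

theorem symm : DW T M U L y s x r := ⟨h.toC2, h.q, h.yB, h.xB, h.sU, h.rU, h.rs.symm, h.cy, h.cx, h.vy, h.vx,
  fun b hb => by have := h.gen b hb; rw [h.xy] at this; tauto, h.ky, h.kx⟩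

theorem xC : x ∉ 𝐂(U) := fun c => let ⟨v, hv, _, e⟩ := h.vy; e (c v hv).symm
theorem r1 : r ≠ 1 := fun c => let ⟨_, hv, _, e⟩ := h.vy
  e (commutatorElement_eq_one_iff_mul_comm.1 ((h.cmx (h.UB hv)).elim id fun z => z.trans c))
theorem nB' : 𝐁[2](T) ≤ 𝐍(U) := h.BL.trans h.nU

theorem cB (hv : v ∈ U) (a : x * v = v * x) (b : y * v = v * y) : v ∈ 𝐂(𝐁[2](T)) := fun g hg => by
  have k : ∀ c, c * v = v * c → g * c ∈ 𝐂(U) → g * v = v * g := fun c e z => mul_right_cancel (b := c) (by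
    rw [mul_assoc, ← e, ← mul_assoc, ← z v hv, mul_assoc])
  rcases h.gen g hg with z | z | z | z
  exacts [(z v hv).symm, k x a z, k y b z, k _ (by rw [mul_assoc, b, ← mul_assoc, a, mul_assoc]) z]

theorem cxy (hv : v ∈ U) (e : x * y * v = v * (x * y)) : v ∈ 𝐂(𝐁[2](T)) := by
  have z := cm_one e
  rw [cml] at z
  rcases h.cmx (h.UB hv) with a | a <;> rcases h.cmy (h.UB hv) with b | b
  · exact h.cB hv (commutatorElement_eq_one_iff_mul_comm.1 a) (commutatorElement_eq_one_iff_mul_comm.1 b)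
  · exact (h.symm.r1 (by simpa [a, b] using z)).elim
  · exact (h.r1 (by simpa [a, b] using z)).elim
  · rw [a, b, h.sU.2 x h.xB, mul_inv_cancel_right] at z
    exact (h.rs ((eq_inv_of_mul_eq_one_right z).trans (inv_eq_of_mul_eq_one_right (h.sq h.sU.1)))).elim

theorem c4 : 4 * Nat.card ↥(U ⊓ 𝐂(𝐁[2](T))) ≤ Nat.card U := by
  obtain ⟨v, hv, a, b⟩ := h.vx
  obtain ⟨w, hw, -, c⟩ := h.vy
  have a1 := Cl2.two_mul_le (inf_le_inf_left U (centralizer_anti (zpowers_le.2 h.xB)))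
    fun z => b ((z ⟨hv, cent_zp.2 a.symm⟩).2 y h.yB)
  have a2 := Cl2.two_mul_le (inf_le_left : U ⊓ 𝐂(zpowers x) ≤ U) fun z => c (cent_zp.1 (z hw).2).symm
  omega

theorem eQ : T ⊓ 𝐂(U) = U := by
  have f : GW.FP r s := ⟨.mk' h.r1 (h.sq h.rU.1), .mk' h.symm.r1 (h.sq h.sU.1), h.ab h.sU.1 r h.rU.1, h.rs⟩
  have := card_le_card_of_le (GW.V4_le.2 ⟨h.rU, h.sU⟩)
  have := h.c4
  have := h.q
  exact (eq_of_le_of_card_le (le_inf h.UT h.ab) (by rw [f.card] at *; omega)).symm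

theorem c16 : Nat.card U ≤ 16 := h.eQ ▸ h.q

theorem CU : 𝐂(U) ≤ U :=
  have l : 𝐎[2](𝐂(U)) ≤ U := (le_inf (h.gs.syl.le_of_le_normalizer (isPGroup_pCoreOf 2 _) le_top ((h.TL.trans h.nU).trans
    ((normalizer_le_normalizer_centralizer U).trans (normalizer_le_normalizer_pCoreOf 2 _)))) (pCoreOf_le 2 _)).trans h.eQ.le
  ((le_inf le_rfl (centralizer_anti l)).trans (h.gs.lc.chC h.pU h.ne)).trans l

theorem gen' (hb : b ∈ 𝐁[2](T)) : b ∈ U ∨ b * x ∈ U ∨ b * y ∈ U ∨ b * (x * y) ∈ U :=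
  (h.gen b hb).imp (h.CU ·) (.imp (h.CU ·) (.imp (h.CU ·) (h.CU ·)))

theorem der : ⁅𝐁[2](T), 𝐁[2](T)⁆ ≤ U ⊓ 𝐂(𝐁[2](T)) := by
  have l : 𝐁[2](T) ≤ U ⊔ zpowers x ⊔ zpowers y := fun b hb => by
    have mx : x ∈ U ⊔ zpowers x ⊔ zpowers y := mem_sup_left (mem_sup_right (mem_zpowers x))
    have my : y ∈ U ⊔ zpowers x ⊔ zpowers y := mem_sup_right (mem_zpowers y)
    have k : ∀ c ∈ U ⊔ zpowers x ⊔ zpowers y, b * c ∈ U → b ∈ U ⊔ zpowers x ⊔ zpowers y := fun c a e =>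
      (mul_mem_cancel_right a).1 (mem_sup_left (mem_sup_left e))
    rcases h.gen' hb with z | z | z | z
    exacts [mem_sup_left (mem_sup_left z), k x mx z, k y my z, k _ (mul_mem mx my) z]
  have n : ∀ {X}, X ≤ 𝐁[2](T) → X ≤ 𝐍(U ⊓ 𝐂(𝐁[2](T))) := fun a => a.trans
    ((le_centralizer_comm.1 inf_le_right).trans (centralizer_le_normalizer _))
  have x1 := zpowers_le.2 h.xB
  have y1 := zpowers_le.2 h.yB
  have x2 := h.cx.trans (zpowers_le.2 h.rU)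
  have y2 := h.cy.trans (zpowers_le.2 h.sU)
  refine (commutator_mono le_rfl l).trans (commutator_sup_right_le (n (sup_le h.UB x1)) (n y1)
    (commutator_sup_right_le (n h.UB) (n x1) ((commutator_mono l le_rfl).trans (commutator_sup_left_le (n (sup_le h.UB x1)) (n y1)
      (commutator_sup_left_le (n h.UB) (n x1) (comm_le_of_cent h.ab) ?_) ?_)) x2) y2) <;> rw [commutator_comm]
  exacts [(commutator_mono h.UB le_rfl).trans x2, (commutator_mono h.UB le_rfl).trans y2]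

theorem sqB (hb : b ∈ 𝐁[2](T)) : b * b ∈ U := h.CU (mem_centralizer_of_conj_eq fun v hv => by
  have m := h.der (commutator_mem_commutator hb (h.UB hv))
  rw [Cl2.cjm, comm_conj_eq b v, ← conj_mul, m.2 b hb, mul_inv_cancel_right, comm_conj_eq b v, ← mul_assoc, h.sq m.1, one_mul])

theorem cU' (hv : v ∈ U) (ha : a * c ∈ U) (e : a * v = v * a) : c * v = v * c := mul_left_cancel (a := a) (by
  rw [← mul_assoc, ← h.ab ha v hv, ← mul_assoc, ← mul_assoc, e])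

theorem cardA (l : A ≤ 𝐁[2](T)) (e : IsElementaryAbelian 2 A) : Nat.card A ≤ Nat.card U := by
  have ab := isElemAb_le_centralizer e
  have sq := fun {a} (ha : a ∈ A) => inv_eq_of_mul_eq_one_right (mul_self_of_elemAb e ha)
  have dv : ∀ a ∈ A, ∀ b ∈ A, ∀ c, a * c ∈ U → b * c ∈ U → a * b ∈ U := fun a ha b hb c i j =>
    dvm (mul_self_of_elemAb e hb) i j
  by_cases c : A ≤ U
  · exact card_le_card_of_le c
  by_cases i : U.relIndex A ≤ 2
  · exact (Cl2.card_le_mul i le_rfl).trans (Cl2.two_mul_le inf_le_left fun z =>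
      c ((ab.trans (centralizer_anti (z.trans inf_le_right))).trans h.CU))
  have i4 : U.relIndex A ≤ Nat.card (Fin 4) := by
    have : ∀ a : A, ∃ i : Fin 4, a * ![1, x, y, x * y] i ∈ U := fun a => by
      rcases h.gen' (l a.2) with z | z | z | z
      exacts [⟨0, by simpa using z⟩, ⟨1, z⟩, ⟨2, z⟩, ⟨3, z⟩]
    choose f hf using this
    exact idx_le_of_fun f fun a b z => by
      rw [coe_mul, coe_inv, sq a.2]; exact dv a a.2 b b.2 _ (hf a) (z ▸ hf b)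
  obtain ⟨a, ha, b, hb, a0, b0, m⟩ : ∃ a ∈ A, ∃ b ∈ A, a ∉ U ∧ b ∉ U ∧ a * b ∉ U := by
    by_contra! z; exact i (Cl2.idx_le_two z)
  refine (Cl2.card_le_mul (i4.trans (by simp)) fun v hv => (⟨hv.1, ?_⟩ : v ∈ U ⊓ 𝐂(𝐁[2](T)))).trans h.c4
  have k : ∀ a ∈ A, ∀ c, a * c ∈ U → c * v = v * c := fun a ha c z => h.cU' hv.1 z (ab hv.2 a ha)
  rcases (h.gen' (l ha)).resolve_left a0 with p | p | p <;> rcases (h.gen' (l hb)).resolve_left b0 with q | q | q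
  exacts [(m (dv a ha b hb _ p q)).elim, h.cB hv.1 (k a ha _ p) (k b hb _ q), h.cxy hv.1 (k b hb _ q),
    h.cB hv.1 (k b hb _ q) (k a ha _ p), (m (dv a ha b hb _ p q)).elim, h.cxy hv.1 (k b hb _ q), h.cxy hv.1 (k a ha _ p),
    h.cxy hv.1 (k a ha _ p), h.cxy hv.1 (k a ha _ p)]

omit h in
theorem AB (hA : A ∈ maxAb 2 T) : A ≤ 𝐁[2](T) := (le_thompson hA).trans (thompson_le_baumann 2 T)

theorem max : U ∈ maxAb 2 T := let ⟨_, hA⟩ := PLocal.maxAb_nonempty 2 T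
  PLocal.mem_maxAb_of_card_le hA h.UT h.ea (h.cardA (AB hA) hA.2.1)

theorem nA (hA : A ∈ maxAb 2 T) : 𝐁[2](T) ≤ 𝐍(A) := le_normalizer_of_commutator_le le_rfl
  (((commutator_mono (AB hA) le_rfl).trans h.der).trans ((le_omegaJ (isElemAb_of_le h.ea inf_le_left) (inf_le_left.trans h.UT)
    (inf_le_right.trans (centralizer_anti (thompson_le_baumann 2 T)))).trans (omegaJ_le hA)))

theorem exT0 : ∃ t, t * t = 1 ∧ (t * x ∈ U ∨ t * y ∈ U) := by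
  obtain ⟨A, hA, c⟩ : ∃ A ∈ maxAb 2 T, ¬ A ≤ U := by_contra fun z => by
    push Not at z
    exact h.xC (centralizer_anti (le_omegaJ h.ea h.UT (h.ab.trans (centralizer_anti (PLocal.thompson_le_iff.2 z)))) h.xB.2)
  by_contra! z
  have e := hA.2.1
  have k : ∀ a ∈ A, a ∉ U → a * (x * y) ∈ U := fun a ha a0 => by
    have := z a (mul_self_of_elemAb e ha)
    have := h.gen' (AB hA ha)
    tauto
  obtain ⟨a, ha, a0⟩ := SetLike.not_le_iff_exists.1 c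
  have c1 := Cl2.card_le_mul (U := U ⊓ 𝐂(𝐁[2](T))) (Cl2.idx_le_two fun a ha b hb a0 b0 =>
    dvm (mul_self_of_elemAb e hb) (k a ha a0) (k b hb b0))
    fun v hv => ⟨hv.1, h.cxy hv.1 (h.cU' hv.1 (k a ha a0) (isElemAb_le_centralizer e hv.2 a ha))⟩
  have c2 := hA.2.2 U h.UT h.ea
  have c3 := h.c4
  have : 0 < Nat.card U := Nat.card_pos
  omega

theorem notcj (t2 : t * t = 1) (tx : t * x ∈ U) (g : G) : g * t * g⁻¹ ∉ U := fun hg => by
  have tB : t ∈ 𝐁[2](T) := (mul_mem_cancel_right h.xB).1 (h.UB tx)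
  have tU : t ∉ U := fun c => h.xC (h.ab ((mul_mem_cancel_left c).1 tx))
  have ti := inv_eq_of_mul_eq_one_right t2
  have xt : x⁻¹ * t ∈ U := by
    convert mul_mem (conj_mem_of_mem_normalizer' (h.nB' h.xB) tx) (inv_mem (h.sqB h.xB)) using 1; group
  have ea : IsElementaryAbelian 2 (U ⊓ 𝐂(zpowers t) ⊔ zpowers t) := isElemAb_sup (isElemAb_of_le h.ea inf_le_left) (ea_zp t2) inf_le_right
  have mx : U ⊓ 𝐂(zpowers t) ⊔ zpowers t ∈ maxAb 2 T := PLocal.mem_maxAb_of_card_le h.max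
    (sup_le (inf_le_left.trans h.UT) (zpowers_le.2 (h.gs.BT tB))) ea ((card_le_two_mul inf_le_left fun a ha b hb a0 b0 => by
      have k : ∀ a ∈ U, a ∉ U ⊓ 𝐂(zpowers t) → x * a * x⁻¹ = r * a := fun a ha a0 => by
        rw [comm_conj_eq, (h.cmx (h.UB ha)).resolve_left fun z => a0 ⟨ha, cent_zp.2 (h.cU' (a := x⁻¹) (c := t) ha xt
          (Commute.inv_left (commutatorElement_eq_one_iff_mul_comm.1 z))).symm⟩]
      have m := mul_mem (inv_mem ha) hb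
      refine ⟨m, cent_zp.2 (h.cU' m xt
        (Commute.inv_left (mul_inv_eq_iff_eq_mul.1 ?_))).symm⟩
      rw [← conj_mul, k b hb b0, ← conj_inv, k a ha a0]; group).trans (Cl2.two_mul_le le_sup_left fun z =>
        tU (z (mem_sup_right (mem_zpowers t))).1))
  obtain ⟨k, hk, k0, kc⟩ := h.kx
  have nk := h.nU hk
  have m : k * t * k⁻¹ * t ∈ U := by
    convert mul_mem (mul_mem (conj_mem_of_mem_normalizer nk tx) (conj_mem_of_mem_normalizer' (h.nB' h.xB) (h.CU kc))) xt using 1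
    rw [commutatorElement_def]; group
  have mt' : k * t * k⁻¹ * t * t = t * (k * t * k⁻¹ * t) := by
    conv_rhs => rw [← inv_eq_of_mul_eq_one_right (h.sq m), mul_inv_rev, ti, ← mul_assoc, t2, one_mul, conj_inv, ti]
    rw [mul_assoc _ t, t2, mul_one]
  have kA : k ∈ 𝐍(U ⊓ 𝐂(zpowers t) ⊔ zpowers t) := mem_normalizer_of_cj_le (by
    rw [cj_sup, cj_zpowers]
    refine sup_le (le_sup_of_le_left (cj_le_iff_forall.2 fun v hv => ?_)) (zpowers_le.2 ?_)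
    · have v1 := conj_mem_of_mem_normalizer nk hv.1
      exact ⟨v1, cent_zp.2 (h.cU' v1 m (by rw [conj_mul, conj_mul, cent_zp.1 hv.2])).symm⟩
    · simpa [mul_assoc, t2] using mul_mem (mem_sup_left (⟨m, cent_zp.2 mt'⟩ : _ ∈ U ⊓ 𝐂(zpowers t)))
        (mem_sup_right (S := U ⊓ 𝐂(zpowers t)) (mem_zpowers t)))
  have AC : U ⊓ 𝐂(zpowers t) ⊔ zpowers t ≤ 𝐂(zpowers t) := sup_le inf_le_right (isElemAb_le_centralizer (ea_zp t2))
  have A0 : U ⊓ 𝐂(zpowers t) ⊔ zpowers t ≠ ⊥ := fun z => tU (mem_bot.1 (z.le (mem_sup_right (mem_zpowers t))) ▸ one_mem _)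
  generalize U ⊓ 𝐂(zpowers t) ⊔ zpowers t = A at *
  have pA := isElemAb_isPGroup ea
  have NL := h.up (h.gs.lc A pA A0) (h.nA mx) fun z => k0 (z kA)
  obtain ⟨l, hl, e⟩ := h.gs.exists_cent' h.hy le_rfl (h.U_eq.ge hg)
  have gU := conj_mem_of_mem_normalizer (h.nU (sSup_Fm_le hl)) hg
  rw [← Cl2.cjm] at e gU
  generalize l * g = g at e gU
  obtain ⟨S, hS, BS⟩ := exists_isSyl_ge (isPGroup_cj g⁻¹ h.gs.pB) (show _ ≤ 𝐂(zpowers t) by
    rw [← le_cj_iff, cj_centralizer, cj_zpowers]; exact le_centralizer_comm.1 (zpowers_le.2 e))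
  obtain ⟨c, hc, e1⟩ := hS.exists_cj_le pA AC
  obtain ⟨j, -, e2⟩ := h.gs.syl.exists_cj_le hS.isPGroup le_top
  have i1 := h.wc (g := j * g⁻¹) (cj_mul j g⁻¹ _ ▸ ((cj_mono j BS).trans e2).trans h.TL)
  have i2 := h.wc (g := (j * c)⁻¹) (le_trans (by
    rw [← le_cj_iff, cj_normalizer]
    exact h.nA (PLocal.mem_maxAb_of_card_le mx (cj_mul j c _ ▸ (cj_mono j e1).trans e2) (isElemAb_cj _ ea) (card_cj _ _).ge)) NL)
  refine tU ?_
  have := conj_mem_of_mem_normalizer (h.nU (mul_mem i2 i1)) gU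
  rwa [show (j * c)⁻¹ * (j * g⁻¹) * (g * t * g⁻¹) * ((j * c)⁻¹ * (j * g⁻¹))⁻¹ = c⁻¹ * (t * c) by group, ← cent_zp.1 hc,
    inv_mul_cancel_left] at this

theorem exT : ∃ t, t ≠ 1 ∧ t * t = 1 ∧ ∀ g, g * t * g⁻¹ ∉ U := by
  obtain ⟨t, t2, z⟩ := h.exT0
  have := z.elim (h.notcj t2) (h.symm.notcj t2)
  exact ⟨t, fun e => this 1 (by simp [e]), t2, this⟩

theorem free (n : c ∈ 𝐍(U)) (c2 : c * c = 1) (k : 4 * Nat.card ↥(U ⊓ 𝐂(zpowers c)) ≤ Nat.card U) (hd : d * c ∈ U) (d2 : d * d = 1) :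
    IsConj c d :=
  let ⟨w, _, e⟩ := free_conj h.ea n c2 (by have := h.c16; nlinarith) hd d2; isConj_iff.2 ⟨w, e⟩

theorem cjxy (c2 : c * c = 1) (hc : c * (x * y) ∈ U) (d2 : d * d = 1) (hd : d * (x * y) ∈ U) : IsConj c d :=
  h.free (h.nB' ((mul_mem_cancel_right (mul_mem h.xB h.yB)).1 (h.UB hc))) c2 ((Nat.mul_le_mul_left 4 (card_le_card_of_le
    (show U ⊓ 𝐂(zpowers c) ≤ U ⊓ 𝐂(𝐁[2](T)) from fun v hv => ⟨hv.1, h.cxy hv.1 (h.cU' hv.1 hc (cent_zp.1 hv.2).symm)⟩))).trans h.c4)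
    (dvm c2 hd hc) d2

theorem swap (i2 : ∀ H : Subgroup G, H.index ≠ 2) (hu : u ∈ T) (u2 : u * u = 1) (ex : u * x * u⁻¹ = y) (er : u * r * u⁻¹ = s)
    (i : ∀ t ∈ T, t ∈ 𝐁[2](T) ∨ u * t ∈ 𝐁[2](T)) (cu : ∃ g, g * u * g⁻¹ ∈ U) (c2 : c * c = 1) (hc : c * (x * y) ∈ U)
    (cc : ∃ g, g * c * g⁻¹ ∈ U) : False := by
  have nu := h.nU (h.TL hu)
  have ui := inv_eq_of_mul_eq_one_right u2
  have k : 4 * Nat.card ↥(U ⊓ 𝐂(zpowers u)) ≤ Nat.card U := by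
    obtain ⟨v, hv, a, b⟩ := h.vx
    have a1 := Cl2.two_mul_le (le_sup_left : U ⊓ 𝐂(zpowers u) ≤ U ⊓ 𝐂(zpowers u) ⊔ zpowers r) fun z =>
      h.rs (by rw [← er, ← cent_zp.1 (z (mem_sup_right (mem_zpowers r))).2, mul_inv_cancel_right])
    have a2 := Cl2.two_mul_le (sup_le inf_le_left (zpowers_le.2 h.rU.1) : U ⊓ 𝐂(zpowers u) ⊔ zpowers r ≤ U) fun z => by
      obtain ⟨w, hw, r', hr, rfl⟩ := (mem_sup_of_le_normalizer ((zpowers_le.2 h.rU.1).trans (h.ab.trans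
        ((centralizer_anti inf_le_left).trans (centralizer_le_normalizer _))))).1 (z hv)
      have hr := (zpowers_le.2 h.rU.2) hr
      rw [← mul_assoc, mul_assoc w, ← hr x h.xB, ← mul_assoc, mul_left_inj] at a
      refine b (by rw [← mul_assoc, mul_assoc w, ← hr y h.yB, ← mul_assoc, ← ex, ← conj_eq_of_mem_centralizer
        (le_centralizer_comm.1 (zpowers_le.2 hw.2) (mem_zpowers u)) (mem_zpowers w), conj_mul, conj_mul, a])
    omega
  have xy := mul_mem h.xB h.yB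
  have sq := fun b => h.sqB (b := b)
  have uxy : u * (x * y) * u⁻¹ = x * y := by
    rw [← conj_mul, ex, ← ex, ← Cl2.cjm, u2, ex, h.xy]; simp
  have n1 : u ∈ 𝐍(U ⊔ zpowers (x * y)) := le_normalizer_sup (zpowers_le.2 nu) (zpowers_le.2 (centralizer_le_normalizer _
    (mem_cent_zp.2 uxy))) (mem_zpowers u)
  have m0 : ∀ {v}, v ∈ U → v ∈ U ⊔ zpowers (x * y) ⊔ zpowers u := fun a => mem_sup_left (mem_sup_left a)
  have m1 : x * y ∈ U ⊔ zpowers (x * y) ⊔ zpowers u := mem_sup_left (mem_sup_right (mem_zpowers _))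
  have m2 : u ∈ U ⊔ zpowers (x * y) ⊔ zpowers u := mem_sup_right (mem_zpowers u)
  have cov : ∀ b ∈ 𝐁[2](T), b * x ∈ U ⊔ zpowers (x * y) ⊔ zpowers u ∨ b ∈ U ⊔ zpowers (x * y) ⊔ zpowers u := fun b hb => by
    rcases h.gen' hb with z | z | z | z
    · exact .inr (m0 z)
    · exact .inl (m0 z)
    · refine .inl ((mul_mem_cancel_right m1).1 (m0 ?_))
      rw [h.xy, mul_assoc, ← mul_assoc x, h.xy, mul_assoc, ← mul_assoc]; exact mul_mem z (sq x h.xB)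
    · exact .inr ((mul_mem_cancel_right m1).1 (m0 z))
  obtain ⟨t, t1, t2, tc⟩ := h.exT
  obtain ⟨g, m⟩ := ZD.thompson i2 (syl_of h.gs.syl) (X := U ⊔ zpowers (x * y) ⊔ zpowers u) (by
    have cov' : ∀ b ∈ T, b * x ∈ U ⊔ zpowers (x * y) ⊔ zpowers u ∨ b ∈ U ⊔ zpowers (x * y) ⊔ zpowers u := fun b hb =>
      (i b hb).elim (cov b) fun z => (cov _ z).imp (fun z => (mul_mem_cancel_left m2).1 (mul_assoc u b x ▸ z))
        (mul_mem_cancel_left m2).1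
    by_cases z : x ∈ U ⊔ zpowers (x * y) ⊔ zpowers u
    · rw [relIndex_eq_one.2 fun b hb => (cov' b hb).elim (mul_mem_cancel_right z).1 id]; exact one_dvd 2
    · rw [relIndex_eq_two_iff_exists_notMem_and.2 ⟨x, h.gs.BT h.xB, z, cov'⟩]) ⟨t1, t2⟩
  have d2 := Cl2.sq_conj t2 g
  have fin : ∀ c, (∃ g, g * c * g⁻¹ ∈ U) → ∀ g, ¬ IsConj c (g * t * g⁻¹) := fun c ⟨k, a⟩ g e => by
    obtain ⟨j, e⟩ := isConj_iff.1 e.symm
    exact tc (k * (j * g)) (by rwa [Cl2.cjm, Cl2.cjm, e])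
  have n2 := h.nB' xy
  rcases zp2 (u2 ▸ one_mem _) n1 m with z | z <;> rcases zp2 (sq _ xy) n2 z with z | z
  · exact tc g z
  · exact fin c cc g (h.cjxy c2 hc d2 z)
  · exact fin u cu g (h.free nu u2 k z d2)
  · refine fin u cu (x * g) (h.free nu u2 k ?_ (Cl2.sq_conj t2 _))
    have e : u * y⁻¹ = x⁻¹ * u := by rw [← ex, conj_inv, ← mul_assoc, ← mul_assoc, u2, one_mul, ui]
    convert mul_mem (conj_mem_of_mem_normalizer (h.nB' h.xB) z) (inv_mem (sq y h.yB)) using 1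
    rw [Cl2.cjm, mul_assoc _ x⁻¹, ← e, h.xy]; group

end DW

end CF.GC
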