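import Cfsg.Agent.Loc.GD3

/-! Global `C*(G,T)`, identification: the small symmetric blocks do not occur. -/

set_option autoImplicit false
set_option linter.unusedSectionVars false

namespace CF.GC

open Cfsg Subgroup CF.Loc CF.FF Equiv
open CF.PLocal (maxAb thompson_le le_thompson upT)
open scoped commutatorElement MatrixGroups

universe u
variable {G : Type u} [Group G] {A B C D E E' H K L M N P Q R S T U V W X Y Z : Subgroup G} {a b c d e g k q r s t u v w x y z : G}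

theorem inv5 {σ τ : Perm (Fin 5)} (a : σ * σ = 1) (a1 : σ ≠ 1) (b : τ * τ = 1) (b1 : τ ≠ 1) (e : Perm.sign σ = Perm.sign τ) :
    IsConj σ τ := by
  have k : ∀ σ : Perm (Fin 5), σ * σ = 1 → σ ≠ 1 → σ.cycleType = {2} ∧ Perm.sign σ = -1 ∨ σ.cycleType = {2, 2} ∧ Perm.sign σ = 1 :=
    fun σ a a1 => by
      have o := orderOf_eq_prime (p := 2) (by rw [pow_two, a]) a1
      obtain ⟨n, c⟩ := Perm.cycleType_prime_order (o ▸ Nat.prime_two)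
      have l := σ.sum_cycleType_le
      rw [o] at c
      rw [c, Multiset.sum_replicate, Fintype.card_fin, smul_eq_mul] at l
      rw [Perm.sign_of_cycleType, c]
      obtain rfl | rfl : n = 0 ∨ n = 1 := by omega
      exacts [.inl ⟨rfl, by decide⟩, .inr ⟨rfl, by decide⟩]
  rw [Perm.isConj_iff_cycleType_eq]
  rcases k σ a a1 with ⟨c, c'⟩ | ⟨c, c'⟩ <;> rcases k τ b b1 with ⟨d, d'⟩ | ⟨d, d'⟩ <;> simp_all

theorem fin5 : ∀ i j a b c : Fin 5, i ≠ 0 → j ≠ 0 → a ≠ 0 → b ≠ 0 → i ≠ j → a ≠ b → a ≠ i → a ≠ j → b ≠ i → b ≠ j →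
    c = 0 ∨ c = i ∨ c = j ∨ c = a ∨ c = b := by decide

variable [Finite G]

namespace H2
variable (h : H2 T M U L P)
include h

theorem sm2' {ψ : G → Fin 3 → ZMod 2} {i j : Fin 3} (i2 : ∀ H : Subgroup G, H.index ≠ 2) (hE : E ∈ Fm 2 L T M) (s : Sm 2 L T M E ψ)
    (ha : a ∈ 𝐖[2](E)) (yL : y ∉ L) (iv : IV 𝐎[2](P) U a y) (hu : u ∈ cj[y] U ⊓ 𝐎[2](P)) (u0 : u ∉ 𝐍(E))
    (p : FF.TP T E ψ x r i j) (rR : r ∈ 𝐎[2](P)) (k : ∀ K ∈ Fm 2 L T M, K = E ∨ K = cj[u] E) : False := by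
  have uT := h.RT hu.2
  have u2 := iv.sq u hu.1
  have ui := inv_eq_of_mul_eq_one_right u2
  have hE' := h.cjF hE (h.TL uT)
  have n' : cj[u] E ≠ E := mt cj_eq_self_iff.1 u0
  have nQ : T ≤ 𝐍(T ⊓ 𝐂(U)) := le_normalizer_inf le_normalizer (le_normalizer_centralizer (h.TL.trans h.nU))
  have a1 : Nat.card ↥(T ⊓ 𝐂(U)) ≤ 16 := by
    rw [h.Q0 (N := 𝐂(E) ⊓ 𝐂(cj[u] E)) fun K a => (k K a).elim (fun e => e ▸ inf_le_left) fun e => e ▸ inf_le_right]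
    refine relIndex_inf_le.trans (Nat.mul_le_mul (n₂ := 2 ^ 2) (m₂ := 2 ^ 2) (h.idx hE s) ?_)
    rw [← cj_centralizer, ← cj_eq_self (nQ uT), relIndex_cj]
    exact h.idx hE s
  have mv : ∀ a ∈ T, a ∉ 𝐍(E) → cj[a] E = cj[u] E := fun a b c => (k _ (h.cjF hE (h.TL b))).resolve_left (mt cj_eq_self_iff.1 c)
  have cE : cj[u] E ≤ 𝐂(E) := (hE.1.eq_or hE'.1).resolve_left n'
  have rW := s.eW.ge p.rW
  have r1 : r ≠ 1 := fun e => pr_ne_zero p.ne (by rw [← p.val, e, s.d.toAS.one])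
  have cr : ∀ g ∈ T, g ∉ 𝐍(E) → g * r * g⁻¹ ≠ r := fun g a b c => r1 (h.w0 hE rW (cE (mv g a b ▸ c ▸ conj_mem_cj g (FF.W_le 2 E rW))))
  have xN : x ∈ T ⊓ 𝐍(E) := ⟨h.gs.BT p.xB, s.s.norm p.xB⟩
  have x0 : x ∉ 𝐂(𝐖[2](E)) := fun c => p.ne (by
    rw [s.eW, ← s.d.sig_one_iff (s.d.nle xN.2), p.sg] at c
    exact swap_eq_one_iff.1 c)
  have x1 := h.tpC hE p s hE' n'
  have tr : ∀ {g}, g ∈ 𝐂(𝐖[2](cj[u] E)) ↔ u * g * u⁻¹ ∈ 𝐂(𝐖[2](E)) := by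
    intro g; rw [← cj_W, ← cj_centralizer, mem_cj, ui]
  have uu : ∀ g, u * (u * g * u⁻¹) * u⁻¹ = g := fun g => by rw [← Cl2.cjm, u2]; simp
  have y1 := tr.1 x1
  have cU : ∀ {g}, g ∈ 𝐂(𝐖[2](E)) → g ∈ 𝐂(𝐖[2](cj[u] E)) → g ∈ 𝐂(U) := fun a b => h.cU fun K c =>
    (k K c).elim (fun e => e ▸ a) fun e => e ▸ b
  have lin : ∀ g ∈ T ⊓ 𝐍(E), g ∈ 𝐂(𝐖[2](E)) ∨ g * x ∈ 𝐂(𝐖[2](E)) := fun g a => or_iff_not_imp_left.2 fun c => by
    simpa using s.lin (inv_mem a) (mt inv_mem_iff.1 c) xN x0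
  have gen : ∀ g ∈ T ⊓ 𝐍(E), g ∈ 𝐂(U) ∨ g * x ∈ 𝐂(U) ∨ g * (u * x * u⁻¹) ∈ 𝐂(U) ∨ g * (x * (u * x * u⁻¹)) ∈ 𝐂(U) := fun g a => by
    have m := mul_mem (mul_mem uT a.1) (inv_mem uT)
    have b := lin _ ⟨m, by_contra fun z => u0 (inv_mem_iff.1 (by
      have := mv _ m z
      rw [cj_mul, cj_mul, cj_inj, cj_eq_iff, cj_eq_self (inv_mem a.2)] at this
      exact cj_eq_self_iff.1 this))⟩
    rw [← uu x, conj_mul, ← tr, ← tr] at b
    rcases lin g a with c | c <;> rcases b with b | b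
    · exact .inl (cU c b)
    · exact .inr (.inr (.inl (cU (mul_mem c y1) b)))
    · exact .inr (.inl (cU c (mul_mem b x1)))
    · refine .inr (.inr (.inr (cU (mul_assoc g x _ ▸ mul_mem c y1) ?_)))
      have := mul_mem b (conj_mem_of_mem_normalizer' (le_normalizer_centralizer (hE'.1.norm.trans (norm_W 2 _))
        (conj_mem_of_mem_normalizer (h.nB' uT) p.xB)) x1)
      rwa [mul_assoc g, ← mul_assoc (u * x * u⁻¹), mul_inv_cancel_left] at this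
  obtain ⟨v, hv, v0⟩ := exists_cm x0
  have v0 := mt commutatorElement_eq_one_iff_mul_comm.2 v0
  have v1 := cj_W (p := 2) u E ▸ conj_mem_cj u hv
  have kk : ∀ K ∈ Fm 2 L T M, ∀ g ∈ 𝐁[2](T), g ∈ 𝐂(𝐖[2](K)) → ∃ k ∈ L, k ∉ M ∧ ⁅g, k⁆ ∈ 𝐂(U) := fun K a g b c =>
    let ⟨k, d, e⟩ := SetLike.not_le_iff_exists.1 a.2
    ⟨k, a.1.le d, e, h.ab (h.WU' a (a.1.toBk.commW (zpowers_le.2 (a.1.norm b)) (zpowers_le.2 c)
      (commutator_mem_commutator (mem_zpowers g) d)))⟩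
  have rU : r ∈ U ⊓ 𝐂(𝐁[2](T)) := ⟨h.WU' hE rW, s.r_cent p⟩
  have yB := conj_mem_of_mem_normalizer (h.nB' uT) p.xB
  have d : DW T M U L x r (u * x * u⁻¹) (u * r * u⁻¹) := ⟨h.toC2, a1, p.xB, yB, rU, conj_mem_of_mem_normalizer
    (le_normalizer_inf (h.TL.trans h.nU) (le_normalizer_centralizer h.nB') uT) rU, (cr u uT u0).symm, p.comm, by
      have := cj_mono u p.comm
      rwa [cj_commutator, cj_zpowers, cj_zpowers, cj_eq_self (h.nB' uT)] at this,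
    ⟨_, h.WU' hE' v1, (x1 _ v1).symm, by rw [conj_mul, conj_mul]; simpa using v0⟩, ⟨v, h.WU' hE hv, (y1 v hv).symm, v0⟩,
    fun b hb => gen b ⟨h.gs.BT hb, s.s.norm hb⟩, kk _ hE' x p.xB x1, kk E hE _ yB y1⟩
  have nB : ∀ g ∈ T ⊓ 𝐍(E), g ∈ 𝐁[2](T) := fun g a => by
    have k : ∀ c ∈ 𝐁[2](T), g * c ∈ 𝐂(U) → g ∈ 𝐁[2](T) := fun c b e => (mul_mem_cancel_right b).1 (h.UB (d.CU e))
    rcases gen g a with z | z | z | z
    exacts [h.UB (d.CU z), k _ p.xB z, k _ yB z, k _ (mul_mem p.xB yB) z]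
  obtain ⟨c, hc, z⟩ := iv.s r ⟨rU.1, rR⟩
  have cT := h.RT hc.2
  have c2 := iv.sq c hc.1
  have cy : y⁻¹ * c * y⁻¹⁻¹ ∈ U := by simpa using mem_cj.1 hc.1
  have cN : c ∈ 𝐍(E) := by_contra fun n => cr c cT n (by
    have e := mul_inv_eq_iff_eq_mul.2 (iv.ab z c hc.1)
    rwa [← conj_mul, cm_fix (by rw [c2]; simp) (h.sq (cm_mem (h.nU (h.TL cT)) (h.WU' hE ha))), mul_left_inj, ← conj_inv, inv_inj] at e)
  refine d.swap i2 uT u2 rfl rfl (fun t ht => (em (t ∈ 𝐍(E))).imp (fun n => nB t ⟨ht, n⟩) fun n => nB _ ⟨mul_mem uT ht, cj_eq_self_iff.1 (by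
    rw [cj_mul, mv t ht n, ← cj_mul, u2, cj_one])⟩) ⟨y⁻¹, by simpa using mem_cj.1 hu.1⟩ c2 ?_ ⟨_, cy⟩
  rcases d.gen' (nB c ⟨cT, cN⟩) with e | e | e | e
  · rw [cm_one (h.ab (h.WU' hE ha) c e), mul_one, inv_mem_iff] at z
    exact (r1 (h.ng1 yL ⟨rU.1, z⟩ hE' (le_centralizer_comm.1 cE (FF.W_le 2 E rW)))).elim
  exacts [(d.notcj c2 e _ cy).elim, (d.symm.notcj c2 e _ cy).elim, e]

theorem sm1' {ψ : G → Fin 5 → ZMod 2} (i2 : ∀ H : Subgroup G, H.index ≠ 2) (hE : E ∈ Fm 2 L T M) (s : Sm 4 L T M E ψ)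
    (k : ∀ K ∈ Fm 2 L T M, K = E) (hu : u ∈ cj[y] U ⊓ T) (u0 : u ∉ U) : False := by
  obtain ⟨e, n⟩ := h.one hE k
  have eO : 𝐎[2](E) = U := s.eW.symm.trans e
  have nl : L ≤ psA 𝐎[2](E) ψ := n.trans s.d.nle
  obtain ⟨x, r, j, p⟩ := s.tp (i := 1) (by decide)
  generalize (1 : Fin 5) = i at p
  obtain ⟨a, -, ha⟩ := Finset.exists_mem_notMem_of_card_lt_card (s := {0, i, j}) (t := Finset.univ)
    (Finset.card_le_three.trans_lt (by simp))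
  simp only [Finset.mem_insert, Finset.mem_singleton, not_or] at ha
  obtain ⟨x', r', b, q⟩ := s.tp ha.1
  have z := comm_swap p.ne (q.sg ▸ s.d.tp_comm p s.s.toBk q.xB)
  have b1 : b ≠ i := fun e => by subst e; rw [swap_apply_right] at z; exact z.elim (fun z => ha.2.1 z.1) fun z => ha.2.2 z.1
  have b2 : b ≠ j := fun e => by subst e; rw [swap_apply_right] at z; exact z.elim (fun z => ha.2.2 z.2) fun z => ha.2.1 z.2
  have cU : ∀ {g}, g ∈ L → (g ∈ 𝐂(U) ↔ sig 𝐎[2](E) ψ g = 1) := fun a => eO ▸ (s.d.sig_one_iff (nl a)).symm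
  have vv : ∀ {x r x' r' i j a b}, FF.TP T E ψ x r i j → FF.TP T E ψ x' r' a b → a ≠ i → a ≠ j →
      (∃ v ∈ U, x * v = v * x ∧ x' * v ≠ v * x') ∧ ∃ k ∈ L, k ∉ M ∧ (b ≠ i → b ≠ j → ⁅x, k⁆ ∈ 𝐂(U)) := fun {x r x' r' i j a b} p q a1 a2 => by
    obtain ⟨v, hv, ev⟩ := s.d.surj _ (sum_pr 0 a)
    obtain ⟨k, hk, ek⟩ := (s.d.rng (swap 0 a * swap 0 b)).1 (by simp [Perm.mem_alternatingGroup, q.i0.symm, q.j0.symm])
    have kL := hE.1.le hk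
    refine ⟨⟨v, eO ▸ hv, cent_zp.1 ((s.d.cent_iff (s.s.norm p.xB) hv ev q.i0.symm).2 ?_), fun c => ?_⟩, k, kL,
      fun c => ?_, fun b1 b2 => (cU (cm_mem' (h.BL p.xB) (le_normalizer kL))).2 ?_⟩
    · rw [← mul_inv_eq_iff_eq_mul, ← swap_apply_apply, p.sg, swap_apply_of_ne_of_ne p.i0.symm p.j0.symm, swap_apply_of_ne_of_ne a1 a2]
    · have := comm_swap q.i0.symm ((s.d.cent_iff (s.s.norm q.xB) hv ev q.i0.symm).1 (cent_zp.2 c))
      rw [q.sg, swap_apply_left] at this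
      exact this.elim (fun z => q.ne z.2.symm) fun z => q.j0 z.2
    · have := (s.d.mem k hk).1 c
      rw [ek, Perm.mul_apply, swap_apply_left, swap_apply_of_ne_of_ne q.j0 q.ne.symm] at this
      exact q.j0 this
    · rw [s.d.sig_comm (nl (h.BL p.xB)) (nl kL), p.sg, ek, commutatorElement_eq_one_iff_mul_comm, eq_comm, ← mul_inv_eq_iff_eq_mul,
        ← swap_apply_apply]
      simp [swap_apply_def, p.i0, p.j0, a1.symm, a2.symm, b1.symm, b2.symm]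
  obtain ⟨v1, k1, k2, k3, k4⟩ := vv p q ha.2.1 ha.2.2
  obtain ⟨v2, l1, l2, l3, l4⟩ := vv q p (Ne.symm ha.2.1) b1.symm
  have xL := h.BL p.xB
  have yL := h.BL q.xB
  have sxy : sig 𝐎[2](E) ψ (x * x') = swap i j * swap a b := by rw [s.d.sig_mul (nl xL) (nl yL), p.sg, q.sg]
  have d : DW T M U L x r x' r' := ⟨h.toC2, (h.Q0 fun K a => k K a ▸ le_rfl).le.trans (h.idx hE s), p.xB, q.xB,
    ⟨eO ▸ p.rW, s.r_cent p⟩, ⟨eO ▸ q.rW, s.r_cent q⟩, fun c => by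
      have := congrFun (p.val.symm.trans (c ▸ q.val)) a
      simp [pr, ha, q.ne] at this, p.comm, q.comm, v1, v2, fun g hg => by
      have gL := h.BL hg
      rw [cU gL, cU (mul_mem gL xL), cU (mul_mem gL yL), cU (mul_mem gL (mul_mem xL yL)), s.d.sig_mul (nl gL) (nl xL),
        s.d.sig_mul (nl gL) (nl yL), s.d.sig_mul (nl gL) (nl (mul_mem xL yL)), sxy, p.sg, q.sg]
      have z0 := s.b0 hg
      have f := fun c => fin5 i j a b c p.i0 p.j0 q.i0 q.j0 p.ne q.ne ha.2.1 ha.2.2 b1 b2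
      have e1 := p.i0; have e2 := p.j0; have e3 := q.i0; have e4 := q.j0; have e5 := p.ne; have e6 := q.ne
      rcases comm_swap p.ne (s.d.tp_comm p s.s.toBk hg) with z1 | z1 <;> rcases comm_swap q.ne (s.d.tp_comm q s.s.toBk hg) with z2 | z2
      on_goal 1 => left
      on_goal 2 => right; right; left
      on_goal 3 => right; left
      on_goal 4 => right; right; right
      all_goals
        refine Equiv.ext fun c => ?_
        rcases f c with c | c | c | c | c <;>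
          simp [c, swap_apply_def, z0, z1, z2, e1, e2, e3, e4, e5, e6, e1.symm, e2.symm, e3.symm, e4.symm, e5.symm, e6.symm, ha, b1, b2,
            Ne.symm ha.2.1, Ne.symm ha.2.2, b1.symm, b2.symm],
    ⟨k1, k2, k3, k4 b1 b2⟩, l1, l2, l3, l4 (Ne.symm ha.2.2) b2.symm⟩
  have ev : ∀ g ∈ L, Perm.sign (sig 𝐎[2](E) ψ g) = 1 → g ∈ E := fun g hg c => by
    obtain ⟨f, hf, e⟩ := (s.d.rng _).1 (Perm.mem_alternatingGroup.2 c)
    have fL := hE.1.le hf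
    exact (mul_mem_cancel_left (inv_mem hf)).1 (pCoreOf_le 2 E (eO.ge (d.CU ((cU (mul_mem (inv_mem fL) hg)).2 (by
      rw [s.d.sig_mul (nl (inv_mem fL)) (nl hg), s.d.sig_inv (nl fL), e, inv_mul_cancel])))))
  have od : ∀ g ∈ L, g ∉ E → Perm.sign (sig 𝐎[2](E) ψ g) = -1 := fun g a b => (Int.units_eq_one_or _).resolve_left (mt (ev g a) b)
  have cv : ∀ g ∈ L, g * g = 1 → g ∉ U → ∀ w ∈ L, sig 𝐎[2](E) ψ w * sig 𝐎[2](E) ψ w = 1 → w ∉ 𝐂(U) →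
      Perm.sign (sig 𝐎[2](E) ψ g) = Perm.sign (sig 𝐎[2](E) ψ w) → ∃ l, l * g * l⁻¹ * w ∈ U := fun g hg g2 g0 w hw w2 w0 c => by
    obtain ⟨σ, e⟩ := isConj_iff.1 (inv5 (by rw [← s.d.sig_mul (nl hg) (nl hg), g2, s.d.sig_one]) (fun z => g0 (d.CU ((cU hg).2 z)))
      w2 (mt (cU hw).2 w0) c)
    obtain ⟨l, hl, rfl⟩ : ∃ l ∈ L, sig 𝐎[2](E) ψ l = σ := by
      rcases Int.units_eq_one_or (Perm.sign σ) with z | z
      · obtain ⟨f, hf, e⟩ := (s.d.rng _).1 (Perm.mem_alternatingGroup.2 z)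
        exact ⟨f, hE.1.le hf, e⟩
      · obtain ⟨f, hf, e⟩ := (s.d.rng (σ * swap i j)).1 (Perm.mem_alternatingGroup.2 (by simp [z, p.ne]))
        exact ⟨_, mul_mem (hE.1.le hf) xL, by rw [s.d.sig_mul (nl (hE.1.le hf)) (nl xL), e, p.sg, mul_swap_mul_self]⟩
    have m := mul_mem (mul_mem hl hg) (inv_mem hl)
    exact ⟨l, d.CU ((cU (mul_mem m hw)).2 (by rw [s.d.sig_mul (nl m) (nl hw), s.d.sig_conj (nl hl) (nl hg), e, w2]))⟩
  have u2 : u * u = 1 := cj_sq (h.sq (mem_cj.1 hu.1))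
  have uL := h.TL hu.2
  have cy : ∀ l, y⁻¹ * l⁻¹ * (l * u * l⁻¹) * (y⁻¹ * l⁻¹)⁻¹ ∈ U := fun l => by simpa [mul_assoc] using mem_cj.1 hu.1
  rcases Int.units_eq_one_or (Perm.sign (sig 𝐎[2](E) ψ u)) with c | c
  swap
  · obtain ⟨l, z⟩ := cv u uL u2 u0 x xL (by rw [p.sg, swap_mul_self]) d.xC (by simp [c, p.sg, p.ne])
    exact d.notcj (Cl2.sq_conj u2 l) z _ (cy l)
  obtain ⟨t, t1, t2, tc⟩ := d.exT
  obtain ⟨g, m⟩ := ZD.thompson i2 (syl_of h.gs.syl) (X := E) (by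
    rw [relIndex_eq_two_iff_exists_notMem_and.2 ⟨x, h.gs.BT p.xB, fun z => by
      simpa [p.sg, p.ne] using Perm.mem_alternatingGroup.1 ((s.d.rng _).2 ⟨x, z, rfl⟩), fun b hb => or_iff_not_imp_right.2 fun z =>
        ev _ (mul_mem (h.TL hb) xL) (by simp [s.d.sig_mul (nl (h.TL hb)) (nl xL), od b (h.TL hb) z, p.sg, p.ne])⟩]) ⟨t1, t2⟩
  have w2 : sig 𝐎[2](E) ψ (x * x') * sig 𝐎[2](E) ψ (x * x') = 1 := by
    rw [← s.d.sig_mul (nl (mul_mem xL yL)) (nl (mul_mem xL yL)), ← cU (mul_mem (mul_mem xL yL) (mul_mem xL yL))]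
    exact h.ab (d.sqB (mul_mem p.xB q.xB))
  have w0 : x * x' ∉ 𝐂(U) := fun z => let ⟨v, hv, a, b⟩ := d.vx
    b (mul_left_cancel (a := x) (by rw [← mul_assoc, ← z v hv, ← mul_assoc, ← mul_assoc, a]))
  have w1 : Perm.sign (sig 𝐎[2](E) ψ (x * x')) = 1 := by simp [sxy, p.ne, q.ne]
  obtain ⟨l, z1⟩ := cv u uL u2 u0 _ (mul_mem xL yL) w2 w0 (c.trans w1.symm)
  obtain ⟨l', z2⟩ := cv _ (hE.1.le m) (Cl2.sq_conj t2 g) (tc g) _ (mul_mem xL yL) w2 w0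
    ((Perm.mem_alternatingGroup.1 ((s.d.rng _).2 ⟨_, m, rfl⟩)).trans w1.symm)
  obtain ⟨f, ef⟩ := isConj_iff.1 (d.cjxy (Cl2.sq_conj (Cl2.sq_conj t2 g) l') z2 (Cl2.sq_conj u2 l) z1)
  exact tc (y⁻¹ * l⁻¹ * (f * (l' * g))) (by rw [Cl2.cjm, Cl2.cjm f, Cl2.cjm l', ef]; exact cy l)

end H2

end CF.GC
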