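import Cfsg.Agent.Loc.GD6
import Cfsg.Agent.Loc.GD2
import Cfsg.Agent.Loc.GC11

/-! Global `C*(G,T)`, identification: assembly. -/

set_option autoImplicit false
set_option linter.unusedSectionVars false

namespace CF.GC

open Cfsg Subgroup CF.Loc CF.FF Equiv
open CF.PLocal (maxAb thompson_le le_thompson upT)
open scoped commutatorElement MatrixGroups

universe u
variable {G : Type u} [Group G] {A B C D E H K L M N N' P P' Q R S T U V V' W X Y Z : Subgroup G} {a b c g r u v w x y : G}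
variable {F F' : Type} [Field F] [Field F'] {ρ : G → SL(2, F)} {ψ φ : G → Fin 2 → F} {ρ' : G → SL(2, F')} {ψ' : G → Fin 2 → F'}

theorem sq4 [Finite F] (q : Nat.card F = 4) (θ : F →+* F) (x : F) : θ (θ x) = x := by
  have := Fintype.ofFinite F
  have e := FiniteField.pow_card x
  rw [← Nat.card_eq_fintype_card, q] at e
  rcases mul_eq_zero.1 (show x * (x - 1) * (x ^ 2 + x + 1) = 0 by linear_combination e) with z | z
  · rcases mul_eq_zero.1 z with z | z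
    · simp [z]
    · simp [sub_eq_zero.1 z]
  have := congrArg θ z
  simp only [map_add, map_pow, map_one, map_zero] at this
  rcases mul_eq_zero.1 (show (θ x - x) * (θ x + x + 1) = 0 by linear_combination this - z) with y | y
  · rw [sub_eq_zero.1 y, sub_eq_zero.1 y]
  · have := congrArg θ y
    simp only [map_add, map_one, map_zero] at this
    linear_combination this - y

variable [Finite G]

theorem lw_mul4 (l : LW 2 F B E φ) (q : Nat.card F = 4) (ha : a ∈ 𝐍(E)) (hb : b ∈ 𝐍(E)) (na : a ∉ l.glA) (nb : b ∉ l.glA) :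
    a * b ∈ l.glA := by
  have := l.fin
  have n := fun {g} (hg : g ∈ 𝐍(E)) => (norm_le_W 2 E hg).1
  obtain ⟨θ, k⟩ := l.semi (n ha) ha
  obtain ⟨θ', k'⟩ := l.semi (n hb) hb
  exact ⟨mul_mem (n ha) (n hb), fun c z => by
    rw [l.act_mul (n ha) (n hb), l.act_mul (n ha) (n hb), k', k, hom_eq_of_sq (sq4 q θ) (sq4 q θ')
      (fun e => na ⟨n ha, fun c z => by rw [k, e]⟩) fun e => nb ⟨n hb, fun c z => by rw [k', e]⟩]⟩

namespace H2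
variable (h : H2 T M U L P)
include h

theorem cQ (hE : E ∈ Fm 2 L T M) (l : LW 2 F 𝐁[2](T) E φ) (at' : At M 𝐁[2](T) K) (eK : 𝐑[2](K) = E)
    (k : ∀ K ∈ Fm 2 L T M, K = E) : Nat.card ↥(T ⊓ 𝐂(U)) ≤ Nat.card F ^ 2 := by
  obtain ⟨e, n⟩ := h.one hE k
  have nW := h.TL.trans h.nU
  obtain ⟨X, r⟩ := at'.rk
  have eQ : 𝐎[2](K) = T ⊓ 𝐂(U) := le_antisymm (le_inf (r.pan.syl.pCoreOf_le.trans h.gs.BT) ((core_le_cent 2 K).trans
    (centralizer_anti (e ▸ eK ▸ r.W.le.trans (commutator_le_left_of_le_normalizer ((pResidualOf_le _ _).trans (norm_V 2 K)))))))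
    (le_pCoreOf (isElemAb_isPGroup h.Qea) (h.QB.trans r.pan.syl.le) (at'.sup.ge.trans (sup_le (eK ▸ h.nQ hE) (h.gs.BT.trans
      (le_normalizer_inf le_normalizer (le_normalizer_centralizer nW))))))
  have eV : 𝐕[2](K) = T ⊓ 𝐂(U) := by rw [eQ, inf_of_le_left (isElemAb_le_centralizer h.Qea)]
  obtain ⟨F', _, _, ρ, ψ, nt, -⟩ := r.pan.nat
  have b1 := nt.card_A
  have b2 := nt.card_V'
  rw [r.pan.cent_V, eQ, ← card_mul_relIndex h.QB, mul_comm] at b1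
  rw [eV, show T ⊓ 𝐂(U) ⊓ 𝐂(K) = ⊥ from le_bot_iff.1 fun g a => h.c0 a.1.1 fun E' b => k E' b ▸ eK ▸
    centralizer_anti (pResidualOf_le 2 K) a.2, card_bot, mul_one, ← Nat.eq_of_mul_eq_mul_right Nat.card_pos b1,
    inf_comm, ← inf_relIndex_right, inf_assoc, inf_of_le_right h.gs.BT, inf_relIndex_right, inf_comm] at b2
  exact b2.le.trans (Nat.pow_le_pow_left (e ▸ (lw_idx l hE.1.toBk).1) 2)

theorem lw1' [IsSimpleGroup G] (hE : E ∈ Fm 2 L T M) (l : LW 2 F 𝐁[2](T) E φ) (at' : At M 𝐁[2](T) K) (eK : 𝐑[2](K) = E)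
    (k : ∀ K ∈ Fm 2 L T M, K = E) (q : Nat.card F ≤ 4) (hu : u ∈ T) (u2 : u * u = 1) (u0 : u ∉ l.glA) :
    Spor.IsoM22 G ∨ Spor.IsoM23 G := by
  have cQ := h.cQ hE l at' eK k
  obtain ⟨e, n⟩ := h.one hE k
  replace q := q.antisymm (lw_four l)
  have lt := h.lt hE l
  have bk := hE.1.toBk
  have TN : T ≤ 𝐍(E) ⊓ 𝐍(𝐁[2](T)) := le_inf (h.TL.trans n) h.nB'
  have cU : Nat.card U = 16 := by
    have := l.card_Y
    rwa [show 𝐖[2](E) ⊓ 𝐂(E) = ⊥ from le_bot_iff.1 fun w a => h.w0 hE a.1 a.2, card_bot, q, e] at this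
  have Q : T ⊓ 𝐂(U) = U := (eq_of_le_of_card_le h.UQ (by rw [cU]; rwa [q] at cQ)).symm
  have Q' : ∀ {g}, g ∈ T → g ∈ 𝐂(𝐖[2](E)) → g ∈ U := fun a b => Q.le ⟨a, e ▸ b⟩
  obtain ⟨A, hA, a0⟩ : ∃ A ∈ maxAb 2 𝐁[2](T), ¬ A ≤ 𝐂(𝐖[2](E)) := by
    by_contra! c; exact hE.1.J_nt (PLocal.thompson_le_iff.2 c)
  obtain ⟨up, mx⟩ := l.max A hA a0
  have AT := hA.1.trans h.gs.BT
  rw [sup_of_le_right (a := A ⊓ 𝐂(𝐖[2](E))) fun g a => e.ge (Q' (AT a.1) a.2), e, sup_of_le_left h.UB] at mx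
  have cA := (PLocal.card_eq_of_mem_maxAb hA mx).trans cU
  have eB : A ⊔ U = 𝐁[2](T) := le_antisymm (sup_le hA.1 h.UB) fun b hb => by
    obtain ⟨t, r⟩ := l.up b hb
    obtain ⟨a, ha, r'⟩ := up t
    have m := l.leB (hA.1 ha)
    simpa using mul_mem (mem_sup_left ha) (mem_sup_right (S := A) (Q' (mul_mem (inv_mem (AT ha)) (h.gs.BT hb)) (bk.lc l.toLS
      (TN (mul_mem (inv_mem (AT ha)) (h.gs.BT hb))).1 (mul_mem (inv_mem m) (l.leB hb)) (by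
        rw [l.rho_mul (inv_mem m) (l.leB hb), l.rho_inv m, r, r', inv_mul_cancel]))))
  have nU := h.TL.trans h.nU
  obtain ⟨i1, i2⟩ := lw_idx l bk
  rw [e, q] at i1 i2
  have lZ : A ⊓ U ≤ 𝐂(𝐁[2](T)) ⊓ U := le_inf (by
    rw [← eB, centralizer_sup]; exact le_inf (inf_le_left.trans (isElemAb_le_centralizer hA.2.1)) (inf_le_right.trans h.ab)) inf_le_right
  have c1 := card_inf_mul_relIndex 𝐂(𝐁[2](T)) U
  have c2 := card_inf_mul_relIndex 𝐂(U) 𝐁[2](T)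
  have c3 := card_sup_mul_card_inf (AT.trans nU)
  rw [show 𝐂(U) ⊓ 𝐁[2](T) = U from le_antisymm (fun g a => Q.le ⟨h.gs.BT a.2, a.1⟩) (le_inf h.ab h.UB), cU] at c2
  rw [i2, cU] at c1
  have c4 := card_le_of_le lZ
  rw [eB, ← c2, cA, cU] at c3
  have cZ : Nat.card ↥(A ⊓ U) = 4 := le_antisymm (by omega) (by nlinarith)
  have eZ : A ⊓ U = 𝐂(𝐁[2](T)) ⊓ U := eq_of_le_of_card_le lZ (by omega)
  have nd : ∀ a ∈ A, ∀ b ∈ U, a * b = b * a → a ∈ U ∨ b ∈ A := fun a ha b hb c => or_iff_not_imp_left.2 fun a0 =>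
    (eZ.ge ⟨lt.fix a (hA.1 ha) (fun z => a0 (Q' (AT ha) z)) b (e ▸ hb) c, hb⟩).1
  have UA : U ≤ 𝐍(A) := le_normalizer_of_commutator_le le_rfl (commutator_comm U A ▸ (le_inf ((commutator_mono e.ge hA.1).trans lt.quad)
    (commutator_le_left_of_le_normalizer (AT.trans nU))).trans (eZ.ge.trans inf_le_left))
  have nA : T ≤ 𝐍(A) := fun t ht => mem_normalizer_of_cj_le ((or2' hA.2.1 h.ea UA nd (isElemAb_cj t hA.2.1)
    (eB ▸ cj_le_of_mem_normalizer (h.nB' ht) hA.1)).resolve_right fun z => a0 (e ▸ (cj_le_cj_iff.1 (z.trans (cj_eq_self (nU ht)).ge)).trans h.ab))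
  have lin : ∀ t ∈ T, t ∈ l.glA → t ∈ A ⊔ U := fun t ht c => by
    obtain ⟨b, hb, z, -⟩ := exists_act lt.nW (lw_lin l bk h.gs.pT TN h.gs.pB ht c)
    simpa using mul_mem (eB.ge hb) (mem_sup_right (Q' (mul_mem (inv_mem (h.gs.BT hb)) ht) z))
  have mt : MT T A U u := ⟨h.gs.lc, h.gs.syl, hA.2.1, h.ea, AT, h.UT, cA, cU, cZ, nA, nU, nd, hu, u2, fun t ht =>
    (em (t ∈ l.glA)).imp (lin t ht) fun c => lin _ (mul_mem hu ht) (lw_mul4 l q (TN hu).1 (TN ht).1 u0 c), fun X a b c =>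
      eB ▸ (le_thompson (PLocal.mem_maxAb_of_card_le (hE.1.isB.max_eq h.gs.pT h.gs.BT h.TL ▸ hA) a b (cA.trans c.symm).le)).trans
        (thompson_le_baumann 2 T), eB ▸ h.nB.trans h.nU, fun g hg z hz z1 c => ?_, fun c =>
          h.um.lt.not_ge (le_inf le_rfl (h.cz.trans (c.trans h.eL.le)))⟩
  · obtain ⟨b, hb, b0⟩ : ∃ b ∈ A ⊔ U, ⁅u, b⁆ ∉ 𝐂(𝐖[2](E)) := by
      by_contra! z; exact u0 (lw_comm l (TN hu) (eB ▸ z))
    obtain ⟨a, ha, w, hw, rfl⟩ := mt.dec hb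
    obtain ⟨v, hv, v0⟩ : ∃ v ∈ 𝐖[2](E), ⁅u, v⁆ ∉ 𝐂(𝐁[2](T)) := by
      by_contra! z; exact u0 (l.slA_le_glA (lw_gl l bk (lt.triv u ⟨hu, (TN hu).1⟩ z) (TN hu).1).1)
    obtain ⟨_, _, _, _, _, _, m⟩ := mt.mb0 ha (e ▸ hv) (fun z => b0 (e ▸ h.ab (cmr u a w ▸ mul_mem z
      (conj_mem_of_mem_normalizer (nU (AT ha)) (cm_mem (nU hu) hw))))) fun z => v0 (lZ ⟨z, cm_mem (nU hu) (e ▸ hv)⟩).1
    exact m.iso
  have gE := n (h.eL.le hg)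
  obtain ⟨θ, s⟩ := l.semi (norm_le_W 2 E gE).1 gE
  have zW := e.ge hz.2
  have f : ∀ v ∈ A ⊓ U, φ v = ![φ v 0, 0] := fun v hv => by
    ext i; fin_cases i
    exacts [rfl, (l.fix v (e.ge hv.2)).2 (lZ hv).1]
  have z0 : φ z 0 ≠ 0 := fun y => z1 (h.w0 hE zW ((l.ker z zW).1 (by rw [f z hz, y]; simp)).2)
  refine mem_normalizer_of_cj_le (cj_le_iff_forall.2 fun v hv => ?_)
  have m := conj_mem_of_mem_normalizer hg hv.2
  refine eZ.ge ⟨(l.fix _ (e.ge m)).1 ?_, m⟩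
  rw [← l.act_eq (norm_le_W 2 E gE).1 (e.ge hv.2), show φ v = (φ v 0 / φ z 0) • φ z by rw [f v hv, f z hz]; simp [z0], s,
    l.act_eq (norm_le_W 2 E gE).1 zW, c, mul_inv_cancel_right, f z hz]
  simp

theorem moving' (i2 : ∀ H : Subgroup G, H.index ≠ 2) (hE : E ∈ Fm 2 L T M) (ha : a ∈ 𝐖[2](E)) (a0 : a ∉ 𝐎[2](P)) (n : ¬ 𝐎[2](P) ≤ 𝐍(E)) :
    False := by
  obtain ⟨y, hy, iv, yL, -⟩ := h.iv h.ea le_rfl (h.RT.trans (h.TL.trans h.nU)) (h.WU' hE ha) a0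
  obtain ⟨u, hu, u0⟩ := h.mv hE ha hy iv n
  have uL := h.TL (h.RT hu.2)
  rcases h.gs.kind h.hy hE with ⟨F, _, φ, l, -⟩ | ⟨m, ψ, s⟩
  · exact (h.mvL hE l ha yL iv hu u0).elim
  obtain ⟨i, i0, -⟩ := exists_third s.d.two (0 : Fin (m + 1)) 0
  obtain ⟨x, r, j, p⟩ := s.tp i0
  have xN := s.s.norm p.xB
  obtain ⟨w, hw, z⟩ := s.d.surj _ (sum_pr 0 i)
  have rW := s.eW.ge p.rW
  have rR : r ∈ 𝐎[2](P) := by
    rw [s.d.inj p.rW (s.d.comm_mem xN hw) (by rw [s.d.comm_pr ⟨h.gs.BT p.xB, xN⟩ hw z, p.sg, swap_apply_left, p.val])]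
    exact h.inR hE (h.gs.BT p.xB) (fun K a b => h.tpC hE p s a b) hu.2 u0 (s.eW.ge hw)
  have c := iv.c u hu r ⟨h.WU' hE rW, rR⟩
  rcases s.d.two.eq_or_lt with rfl | m3
  · exact h.sm2' i2 hE s ha yL iv hu u0 p rR fun K => h.two2 yL hE uL u0 rW (fun e => pr_ne_zero p.ne (by
      rw [← p.val, h.w0 hE rW e, s.d.toAS.one])) c
  have m := cj_W (p := 2) u E ▸ conj_mem_cj u rW
  refine (p.ne (h.pr4 yL hE s m3 rW p.val (le_WW (s := Fm 2 L T M \ {E}) ⟨h.cjF hE uL, mt cj_eq_self_iff.1 u0⟩ m) ?_)).elim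
  rwa [commutatorElement_def, inv_eq_of_mul_eq_one_right (s.d.sq p.rW), h.ab (h.WU' hE rW) _ (h.WU' (h.cjF hE uL) m)] at c

theorem fixS' {m : ℕ} {ψ : G → Fin (m + 1) → ZMod 2} (i2 : ∀ H : Subgroup G, H.index ≠ 2) (hE : E ∈ Fm 2 L T M) (s : Sm m L T M E ψ)
    (m3 : 3 ≤ m) (n : 𝐎[2](P) ≤ 𝐍(E)) (c : ¬ 𝐖[2](E) ≤ 𝐎[2](P)) : False := by
  obtain ⟨i, i0, hi⟩ : ∃ i ≠ 0, ∀ w ∈ 𝐎[2](E) ⊓ 𝐎[2](P), ψ w ≠ pr 0 i := by
    by_contra! z; exact c (s.eW.le.trans (s.le_of_pr z))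
  have OT := s.eW.ge.trans (h.WT hE)
  have k : ∀ p ≠ 0, ∀ a ∈ 𝐎[2](E), ψ a = pr 0 p → a ∉ 𝐎[2](P) → ∃ p' ≠ p, ∃ v ∈ 𝐎[2](E) ⊓ 𝐎[2](P), ψ v = pr p p' :=
    fun p p0 a ha e a0 => by
      obtain ⟨r, hr, z⟩ : ∃ r ∈ 𝐎[2](P), r * a ≠ a * r := by
        by_contra! z; exact a0 (h.chP ⟨h.TP (OT ha), z⟩)
      have e' := s.d.comm_pr ⟨h.RT hr, n hr⟩ ha e
      refine ⟨_, fun y => z (commutatorElement_eq_one_iff_mul_comm.1 ((s.d.ker _ (s.d.comm_mem (n hr) ha)).1 ?_)), _,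
        ⟨s.d.comm_mem (n hr) ha, cm_mem' hr (h.nR (OT ha))⟩, e'⟩
      rw [e', y, pr_self]
  obtain ⟨a, ha, ea⟩ := s.d.surj _ (sum_pr 0 i)
  have a0 : a ∉ 𝐎[2](P) := fun z => hi a ⟨ha, z⟩ ea
  obtain ⟨v, hv, p, p', pp, ip, ip', ev⟩ : ∃ v ∈ 𝐎[2](E) ⊓ 𝐎[2](P), ∃ p p', p ≠ p' ∧ i ≠ p ∧ i ≠ p' ∧ ψ v = pr p p' := by
    obtain ⟨j, ji, v, hv, ev⟩ := k i i0 a ha ea a0
    obtain ⟨p, -, hp⟩ := Finset.exists_mem_notMem_of_card_lt_card (s := {0, i, j}) (t := Finset.univ)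
      (Finset.card_le_three.trans_lt (by simp; omega))
    simp only [Finset.mem_insert, Finset.mem_singleton, not_or] at hp
    obtain ⟨b, hb, eb⟩ := s.d.surj _ (sum_pr 0 p)
    by_cases b0 : b ∈ 𝐎[2](P)
    · exact ⟨b, ⟨hb, b0⟩, 0, p, Ne.symm hp.1, i0, Ne.symm hp.2.1, eb⟩
    obtain ⟨p', pp, w, hw, ew⟩ := k p hp.1 b hb eb b0
    by_cases z : i = p'
    · refine ⟨_, mul_mem hw hv, p, j, hp.2.2, Ne.symm hp.2.1, ji.symm, ?_⟩
      rw [s.d.mul _ hw.1 _ hv.1, ew, ev, ← z, pr, pr, pr, add_assoc, ← add_assoc (Pi.single i 1), ← pr, pr_self, zero_add]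
    · exact ⟨w, hw, p, p', pp.symm, Ne.symm hp.2.1, z, ew⟩
  obtain ⟨y, hy, iv, yL, -⟩ := h.iv (W_ea 2 E) (h.WU' hE) (n.trans (norm_W 2 E)) (s.eW.ge ha) a0
  obtain ⟨u, hu, z⟩ := iv.s v ⟨s.eW.ge hv.1, hv.2⟩
  have m1 := s.d.comm_mem (n hu.2) ha
  have v1 : v ∈ 𝐎[2](E) := hv.1
  have m2 := mul_mem (inv_mem v1) m1
  have e := s.d.mul _ (inv_mem v1) _ m1
  rw [s.d.inv hv.1, ev, s.d.comm_pr ⟨h.RT hu.2, n hu.2⟩ ha ea] at e
  have z' := cj_mono y (h.WU' hE) z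
  have z1 : v⁻¹ * ⁅u, a⁆ ≠ 1 := fun c => by
    rw [c, s.d.toAS.one, eq_comm, neg_add_eq_zero] at e
    have e1 := congrFun e p
    have e2 := congrFun e p'
    by_cases y : sig 𝐎[2](E) ψ u i = p
    · simp [pr, y, pp, pp.symm, ip'.symm] at e2
    · simp [pr, pp, ip.symm, Ne.symm y] at e1
  have k1 : ∀ K ∈ Fm 2 L T M, K = E := fun K a => by_contra fun b => z1 (h.ng1 yL ⟨h.WU' hE (s.eW.ge m2), z'⟩ a
    ((a.1.eq_or hE.1).resolve_left (Ne.symm b) (pCoreOf_le 2 E m2)))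
  by_cases m4 : m ≤ 4
  · obtain rfl : m = 4 := by obtain ⟨c, e⟩ := s.d.even; omega
    obtain ⟨t, ht, t0⟩ := SetLike.not_le_iff_exists.1 iv.n
    rw [(h.one hE k1).1] at ht t0
    exact h.sm1' i2 hE s k1 ⟨ht.1, h.RT ht.2⟩ t0
  refine z1 ?_
  refine (mul_one _).symm.trans (h.ng2 yL hE s (s.eW.ge m2) (one_mem _) (by rwa [mul_one]) fun c ec => ?_)
  obtain ⟨d, -, hd⟩ := Finset.exists_mem_notMem_of_card_lt_card (s := {c, p, p', i, sig 𝐎[2](E) ψ u i}) (t := Finset.univ)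
    (Finset.card_le_five.trans_lt (by simp; omega))
  simp only [Finset.mem_insert, Finset.mem_singleton, not_or] at hd
  exact hd.1 (cw_eq_zero.1 (by rw [← ec, e]; simp [pr, hd]))

theorem small' [IsSimpleGroup G] (i2 : ∀ H : Subgroup G, H.index ≠ 2) : Spor.IsoM22 G ∨ Spor.IsoM23 G := by
  obtain ⟨E, hE, c⟩ : ∃ E ∈ Fm 2 L T M, ¬ 𝐖[2](E) ≤ 𝐎[2](P) := by
    by_contra! z
    exact h.not_le h.gs.BT le_rfl h.um h.RT (le_normalizer_pCoreOf 2 P) (h.U_eq.ge.trans (WW_le.2 z))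
  obtain ⟨a, ha, a0⟩ := SetLike.not_le_iff_exists.1 c
  by_cases n : 𝐎[2](P) ≤ 𝐍(E)
  swap
  · exact (h.moving' i2 hE ha a0 n).elim
  obtain ⟨y, hy, iv, yL, o⟩ := h.iv (W_ea 2 E) (h.WU' hE) (n.trans (norm_W 2 E)) ha a0
  rcases h.gs.kind h.hy hE with ⟨F, _, φ, l, -, K, at', eK⟩ | ⟨m, ψ, s⟩
  · by_cases k : cj[y] 𝐖[2](E) ⊓ 𝐎[2](P) ≤ l.glA
    · exact (h.fixL hE (h.lt hE l) n ha hy o iv fun v hv => lw_lin l hE.1.toBk (isPGroup_pCoreOf 2 P)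
        (le_inf n (h.RT.trans h.nB')) h.gs.pB hv.2 (k hv)).elim
    obtain ⟨u, hu, u0⟩ := SetLike.not_le_iff_exists.1 k
    obtain ⟨k1, k2⟩ := h.fixN hE l n ha yL iv hu u0
    exact h.lw1' hE l at' eK k1 k2 (h.RT hu.2) (iv.sq u hu.1) u0
  rcases s.d.two.eq_or_lt with rfl | m3
  · exact (h.fixL hE s.lt.1 n ha hy o iv (inf_le_right.trans ((le_inf h.RT n).trans s.lt.2))).elim
  · exact (h.fixS' i2 hE s m3 n c).elim

end H2

variable [IsSimpleGroup G] (hG : ¬ IsMulCommutative G)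
include hG

theorem res_top : pResidual 2 G = ⊤ := pResidualOf_top 2 G ▸ pResidualOf_eq_self_of_perfect (Ab2.ns_top hG).perf

theorem pg_bot (p : IsPGroup 2 U) (n : 𝐍(U) = ⊤) : U = ⊥ := (normalizer_eq_top_iff.1 n).eq_bot_or_eq_top.resolve_right fun e =>
  top_ne_bot ((pResidualOf_eq_self_of_perfect (Ab2.ns_top hG).perf).symm.trans (pResidualOf_eq_bot_of_isPGroup (e ▸ p)))

theorem C2.cz' (h : C2 T M U L) (c : ¬ 𝐂(𝛀[2](T)) ≤ L) : Cl2.Id T := by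
  have l : T ≤ 𝐂(𝛀[2](T)) := le_centralizer_comm.1 (omegaOneCenter_le_centralizer 2 T)
  obtain ⟨P, a, b⟩ := exists_uMax h.TL l c
  exact .inr (.inr (H2.small' ⟨h, b, (h.gs.lc.chC (isElemAb_isPGroup (isElemAb_omegaOneCenter 2 T)) (omegaOneCenter_ne_bot h.gs.pT
    fun e => h.ne (le_bot_iff.1 (h.UT.trans e.le)))).of_pCoreOf_le ((h.gs.syl.mono l le_top).pCoreOf_le.trans
      (b.le.trans inf_le_left)) a, a⟩ (Ab2.ns_top hG).index_ne))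

theorem two' [Fintype F] [Fintype F'] (gs : GS T M B) (a : At M B P) (h : Sd F P B N V ρ ψ)
    (h' : Sd F' P' B N' V' ρ' ψ') (c : ¬ V ≤ 𝐂(V')) (nc : ∀ Y ≤ B, P ≤ 𝐍(Y) → P' ≤ 𝐍(Y) → Y = ⊥)
    (ia : ∀ Y, IsCharP 2 Y → P' ≤ Y → IsB 2 B Y) (hn : 𝐎[2](P') = V' → Cl2.D1 F V V' B P ρ ψ → Hn V' B P') : Cl2.Id T := by
  obtain ⟨e⟩ : Nonempty (F' ≃+* F) := ⟨FiniteField.ringEquivOfCardEq (by simpa using (h.card_eq h' c).symm)⟩
  have c' := mt le_centralizer_comm.1 c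
  have nc' : ∀ Y ≤ B, P' ≤ 𝐍(Y) → P ≤ 𝐍(Y) → Y = ⊥ := fun Y a b d => nc Y a d b
  have k := h'.map_field e
  have d1 : Cl2.D1 F V V' B P ρ ψ := ⟨h.nt k c nc, gs.lc, a.ia gs, a.hn gs h.VB h.nat.norm fun e => c (e ▸ bot_le)⟩
  have dv : Cl2.Dv F T V V' B P P' _ _ _ _ := ⟨d1, ⟨k.nt h c' nc', gs.lc, ia, hn (h'.core h c' nc') d1⟩, fun z hz u v =>
    zpowers_eq_bot.1 (nc _ (zpowers_le.2 (h.VB hz.1)) ((le_centralizer_comm.1 (zpowers_le.2 u)).trans (centralizer_le_normalizer _))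
      ((le_centralizer_comm.1 (zpowers_le.2 v)).trans (centralizer_le_normalizer _))), syl_of gs.syl, gs.BT⟩
  exact dv.id hG (res_top hG) (fun e => a.nle (le_top.trans e.ge)) gs.cz gs.nB

theorem GS.cc' (gs : GS T M B) (a : At M B P) (a' : At M B P')
    (c : ¬ 𝐖[2](𝐑[2](P)) ≤ 𝐂(𝐖[2](𝐑[2](P')))) : Cl2.Id T := by
  obtain ⟨w, F, _, _, ρ, ψ, h⟩ := a.sd
  obtain ⟨w', F', _, _, ρ', ψ', h'⟩ := a'.sd
  have c' := fun e => c (w.trans (le_trans e (centralizer_anti w')))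
  refine two' hG gs a h h' c' (fun Y l n n' => by_contra fun y => c ?_) (a'.ia gs) fun _ _ =>
    a'.hn gs h'.VB h'.nat.norm fun e => c' (le_centralizer_comm.1 (e ▸ bot_le))
  have ch := gs.lc Y (gs.pB.to_le l) y
  have nB := a.syl.le.trans n
  exact (gs.bx a.bk a.nle' ch nB ((pResidualOf_le _ _).trans n)).W_le_V.trans ((U_ab 2 _).trans (centralizer_anti
    (gs.bx a'.bk a'.nle' ch nB ((pResidualOf_le _ _).trans n')).W_le_V))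

theorem C2.ccc' (h : C2 T M U L) (cz : 𝐂(𝛀[2](T)) ≤ L) (l : C ≤ 𝐁[2](T)) (n : C ≠ ⊥)
    (ch : (C.subgroupOf 𝐁[2](T)).Characteristic) (c : ¬ 𝐍(C) ≤ L) : Cl2.Id T := by
  have gs := h.gs
  have nB := le_normalizer.trans (norm_baumann 2 T)
  have TC := nB.trans (norm_of_char l ch)
  obtain ⟨P₀, l0, um⟩ := exists_uMax h.TL TC c
  have TP := um.le.trans inf_le_left
  have s0 := gs.syl.mono TP le_top
  have PL : ¬ P₀ ≤ L := fun e => um.lt.not_ge (le_inf le_rfl e)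
  obtain ⟨P', l2, n2, ch2, F', _, _, ρ', ψ', w⟩ := pm_pw (M := L) ⟨rfl, s0, um, (gs.lc C (gs.pB.to_le l) n).of_pCoreOf_le
    ((gs.syl.mono TC le_top).pCoreOf_le.trans TP) l0, inf_le_inf_left _ cz, um.le_of_ne (le_inf TP (le_normalizer.trans
      (norm_thompson 2 T))) inf_le_left fun e => h.not_le gs.BT le_rfl um s0.pCoreOf_le (le_normalizer_pCoreOf 2 P₀) (h.UB.trans
        (inf_le_core s0 um (le_normalizer_centralizer ((inf_eq_left.1 e).trans (normalizer_le_normalizer_omegaOneCenter 2 _)))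
          fun z => PL (s0.pResidualOf_sup.ge.trans (sup_le (z.trans ((centralizer_anti (le_omegaJ (isElemAb_omegaOneCenter 2 T)
            (omegaOneCenter_le 2 T) ((omegaOneCenter_le_centralizer 2 T).trans (centralizer_anti (thompson_le 2 T))))).trans cz))
              h.TL))))⟩
  have h' : Sd F' P' _ _ _ ρ' ψ' := ⟨w, ch2, fun e => le_omegaOneCenter e le_rfl (isElemAb_le_centralizer e)⟩
  have nU := h.not_le le_rfl gs.BT w.um (w.syl.pCoreOf_le.trans gs.BT) (le_normalizer_pCoreOf 2 P')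
  obtain ⟨P, a, k⟩ : ∃ P, At M 𝐁[2](T) P ∧ ¬ 𝐖[2](𝐑[2](P)) ≤ 𝐎[2](P') := by_contra fun z => nU (h.eU ▸ WW_le.2 fun E e =>
    (gs.W_le e.1 e.2.1).2 _ fun P a => by_contra fun y => z ⟨P, a, y⟩)
  obtain ⟨wV, F, _, _, ρ, ψ, s⟩ := a.sd
  refine two' hG gs a s h' (fun e => k (wV.trans ((le_inf s.VB e).trans w.cent.le))) (fun Y lY u v => by_contra fun y =>
    n2 (v.trans (h.up (gs.lc Y (gs.pB.to_le lY) y) (a.syl.le.trans u) fun e => a.nle (u.trans e))))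
    (fun Y _ y => (IsSyl.isB gs.syl).mono (w.syl.le.trans y) le_top) fun e d =>
      ⟨T, L, gs.syl.mono (fun g hg => ?_) le_top, rfl, h.TL, inf_le_right.trans cz, inf_le_right.trans h.nB, n2⟩
  by_cases z : g ∈ 𝐍(𝐕[2](P))
  · exact d.nB' (nB hg) z
  rw [e] at nU
  exact (nU ((cj_eq_self (h.nU (h.TL hg))).ge.trans ((cj_mono g ((d.le_or' h.UB (.of_isEA Nat.prime_two h.ea)).resolve_right
    nU)).trans (d.sw (nB hg) z).1.le))).elim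

theorem step' (lc : LC G) (syl : IsSyl 2 T ⊤) (c : cStarOf 2 T ≤ M) (n : T ≠ ⊥) (m : M ≠ ⊤) :
    (∃ H : Subgroup G, IsStronglyEmbedded H) ∨ Cl2.Id T ∨ ∃ U L, C2 T M U L ∧ cStarOf 2 T ≤ L := by
  by_cases e : ∃ X ≤ T, X ≠ ⊥ ∧ ¬ 𝐍(X) ≤ M
  swap
  · have k : ∀ X ≤ T, X ≠ ⊥ → 𝐍(X) ≤ M := fun X a b => by_contra fun z => e ⟨X, a, b, z⟩
    have l := le_normalizer.trans (k T le_rfl n)
    exact .inl ⟨M, se_iff_SE.2 ⟨m, even_iff_two_dvd.2 ((dvd_card_of_isPGroup syl.isPGroup n).trans (card_dvd_of_le l)),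
      se_of_normalizer (syl.mono l le_top) n k⟩⟩
  obtain ⟨B, gs⟩ := exists_gs lc syl c e
  by_cases k : ∀ P P', At M B P → At M B P' → 𝐖[2](𝐑[2](P)) ≤ 𝐂(𝐖[2](𝐑[2](P')))
  swap
  · push Not at k
    obtain ⟨P, P', a, a', k⟩ := k
    exact .inr (.inl (gs.cc' hG a a' k))
  obtain ⟨U, L, h⟩ := gs.c2 k
  by_cases cz : 𝐂(𝛀[2](T)) ≤ L
  swap
  · exact .inr (.inl (h.cz' hG cz))
  by_cases z : charNormalizersJoin 𝐁[2](T) ≤ L
  · exact .inr (.inr ⟨U, L, h, sup_le cz z⟩)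
  obtain ⟨⟨C, l, n, ch⟩, z⟩ := not_forall.1 (mt iSup_le z)
  exact .inr (.inl (h.ccc' hG cz l n ch z))

theorem main' (lc : LC G) (syl : IsSyl 2 T ⊤) (n : T ≠ ⊥) (m : cStarOf 2 T ≠ ⊤) :
    (∃ H : Subgroup G, IsStronglyEmbedded H) ∨ Cl2.Id T := by
  rcases step' hG lc syl le_rfl n m with h | h | ⟨U, L, h, c⟩
  · exact .inl h
  · exact .inr h
  rcases step' hG lc syl c n (fun e => h.ne (pg_bot hG h.pU (top_le_iff.1 (e ▸ h.nU)))) with k | k | ⟨U', L', k, -⟩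
  · exact .inl k
  · exact .inr k
  obtain ⟨X, a, b, d⟩ := k.gs.ex
  obtain ⟨P, -, p⟩ := k.gs.atom a b d
  exact (p.nle' (h.blk p.bk fun e => p.nle' (e.trans c))).elim

end CF.GC
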