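import Cfsg.Agent.Cod.Defs

set_option autoImplicit false
set_option maxRecDepth 1000000
set_option maxHeartbeats 0
set_option Elab.async false

namespace CF.HS

open CF.Comp CF.Cod

noncomputable def RV : List (List Nat) := [[(nat_lit 1), (nat_lit 1)],
  [(nat_lit 3), (nat_lit 3)],
  [(nat_lit 5), (nat_lit 5)],
  [(nat_lit 1), (nat_lit 3), (nat_lit 1), (nat_lit 3)],
  [(nat_lit 1), (nat_lit 5), (nat_lit 1), (nat_lit 5)],
  [(nat_lit 3), (nat_lit 5), (nat_lit 3), (nat_lit 5)]]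
noncomputable def RW : List (List Nat) := [[(nat_lit 1), (nat_lit 1), (nat_lit 1), (nat_lit 1)],
  [(nat_lit 3), (nat_lit 3), (nat_lit 3), (nat_lit 3)],
  [(nat_lit 5), (nat_lit 5), (nat_lit 5), (nat_lit 5)],
  [(nat_lit 1), (nat_lit 3), (nat_lit 2), (nat_lit 4)],
  [(nat_lit 1), (nat_lit 5), (nat_lit 2), (nat_lit 6)],
  [(nat_lit 3), (nat_lit 5), (nat_lit 4), (nat_lit 6)]]
noncomputable def RR : List (List Nat) := [[(nat_lit 1), (nat_lit 1), (nat_lit 1), (nat_lit 1)],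
  [(nat_lit 3), (nat_lit 3)],
  [(nat_lit 5), (nat_lit 5)],
  [(nat_lit 7), (nat_lit 7)],
  [(nat_lit 9), (nat_lit 9)],
  [(nat_lit 1), (nat_lit 3), (nat_lit 2), (nat_lit 3)],
  [(nat_lit 1), (nat_lit 5), (nat_lit 2), (nat_lit 5)],
  [(nat_lit 1), (nat_lit 7), (nat_lit 2), (nat_lit 7)],
  [(nat_lit 1), (nat_lit 9), (nat_lit 2), (nat_lit 9)],
  [(nat_lit 3), (nat_lit 5), (nat_lit 3), (nat_lit 5)],
  [(nat_lit 7), (nat_lit 3), (nat_lit 7), (nat_lit 3), (nat_lit 1), (nat_lit 1)],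
  [(nat_lit 7), (nat_lit 5), (nat_lit 7), (nat_lit 5), (nat_lit 1), (nat_lit 1)],
  [(nat_lit 9), (nat_lit 3), (nat_lit 9), (nat_lit 3), (nat_lit 1), (nat_lit 1)],
  [(nat_lit 9), (nat_lit 5), (nat_lit 9), (nat_lit 5)],
  [(nat_lit 7), (nat_lit 9), (nat_lit 7), (nat_lit 9)]]
noncomputable def RC : List (List Nat) := [[(nat_lit 1), (nat_lit 1)],
  [(nat_lit 3), (nat_lit 3)],
  [(nat_lit 5), (nat_lit 5)],
  [(nat_lit 7), (nat_lit 7)],
  [(nat_lit 1), (nat_lit 3), (nat_lit 1), (nat_lit 3), (nat_lit 1), (nat_lit 3)],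
  [(nat_lit 3), (nat_lit 5), (nat_lit 3), (nat_lit 5), (nat_lit 3), (nat_lit 5)],
  [(nat_lit 5), (nat_lit 7), (nat_lit 5), (nat_lit 7), (nat_lit 5), (nat_lit 7)],
  [(nat_lit 1), (nat_lit 5), (nat_lit 1), (nat_lit 5)],
  [(nat_lit 1), (nat_lit 7), (nat_lit 1), (nat_lit 7)],
  [(nat_lit 3), (nat_lit 7), (nat_lit 3), (nat_lit 7)]]
noncomputable def RM : List (List Nat) := [[(nat_lit 1), (nat_lit 1), (nat_lit 1), (nat_lit 1)],
  [(nat_lit 3), (nat_lit 3), (nat_lit 3), (nat_lit 3)],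
  [(nat_lit 5), (nat_lit 5), (nat_lit 5), (nat_lit 5)],
  [(nat_lit 1), (nat_lit 3), (nat_lit 2), (nat_lit 4)],
  [(nat_lit 1), (nat_lit 5), (nat_lit 2), (nat_lit 6)],
  [(nat_lit 3), (nat_lit 5), (nat_lit 4), (nat_lit 6)],
  [(nat_lit 7), (nat_lit 7)],
  [(nat_lit 9), (nat_lit 9), (nat_lit 9), (nat_lit 9), (nat_lit 9), (nat_lit 9), (nat_lit 9)],
  [(nat_lit 9), (nat_lit 7), (nat_lit 9), (nat_lit 7), (nat_lit 9), (nat_lit 7)],
  [(nat_lit 9), (nat_lit 7), (nat_lit 10), (nat_lit 7), (nat_lit 9), (nat_lit 7), (nat_lit 10), (nat_lit 7), (nat_lit 9), (nat_lit 7), (nat_lit 10), (nat_lit 7), (nat_lit 9), (nat_lit 7), (nat_lit 10), (nat_lit 7)],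
  [(nat_lit 9), (nat_lit 1), (nat_lit 10), (nat_lit 4)],
  [(nat_lit 9), (nat_lit 3), (nat_lit 10), (nat_lit 6)],
  [(nat_lit 9), (nat_lit 5), (nat_lit 10), (nat_lit 6), (nat_lit 4), (nat_lit 4), (nat_lit 2)],
  [(nat_lit 7), (nat_lit 1), (nat_lit 7), (nat_lit 2)],
  [(nat_lit 7), (nat_lit 3), (nat_lit 7), (nat_lit 6), (nat_lit 6), (nat_lit 4), (nat_lit 2)],
  [(nat_lit 7), (nat_lit 5), (nat_lit 7), (nat_lit 6), (nat_lit 4), (nat_lit 4), (nat_lit 2)]]
noncomputable def RP : List (List Nat) := [[(nat_lit 1), (nat_lit 1), (nat_lit 1), (nat_lit 1)],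
  [(nat_lit 3), (nat_lit 3), (nat_lit 3), (nat_lit 3)],
  [(nat_lit 5), (nat_lit 5), (nat_lit 5), (nat_lit 5)],
  [(nat_lit 1), (nat_lit 3), (nat_lit 2), (nat_lit 4)],
  [(nat_lit 1), (nat_lit 5), (nat_lit 2), (nat_lit 6)],
  [(nat_lit 3), (nat_lit 5), (nat_lit 4), (nat_lit 6)],
  [(nat_lit 7), (nat_lit 7)],
  [(nat_lit 9), (nat_lit 9)],
  [(nat_lit 11), (nat_lit 11)],
  [(nat_lit 9), (nat_lit 11), (nat_lit 9), (nat_lit 11), (nat_lit 9), (nat_lit 11)],
  [(nat_lit 7), (nat_lit 9), (nat_lit 7), (nat_lit 9), (nat_lit 7), (nat_lit 9), (nat_lit 7), (nat_lit 9)],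
  [(nat_lit 7), (nat_lit 1), (nat_lit 7), (nat_lit 2)],
  [(nat_lit 7), (nat_lit 3), (nat_lit 7), (nat_lit 6), (nat_lit 6), (nat_lit 4), (nat_lit 2)],
  [(nat_lit 7), (nat_lit 5), (nat_lit 7), (nat_lit 6), (nat_lit 4), (nat_lit 4), (nat_lit 2)],
  [(nat_lit 9), (nat_lit 1), (nat_lit 9), (nat_lit 1)],
  [(nat_lit 9), (nat_lit 3), (nat_lit 9), (nat_lit 4)],
  [(nat_lit 9), (nat_lit 5), (nat_lit 9), (nat_lit 5), (nat_lit 4), (nat_lit 2), (nat_lit 2)],
  [(nat_lit 11), (nat_lit 1), (nat_lit 11), (nat_lit 1)],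
  [(nat_lit 11), (nat_lit 3), (nat_lit 11), (nat_lit 5), (nat_lit 4), (nat_lit 4), (nat_lit 1)],
  [(nat_lit 11), (nat_lit 5), (nat_lit 11), (nat_lit 6), (nat_lit 6), (nat_lit 3), (nat_lit 1)],
  [(nat_lit 7), (nat_lit 11), (nat_lit 7), (nat_lit 11)],
  [(nat_lit 7), (nat_lit 9), (nat_lit 11), (nat_lit 7), (nat_lit 9), (nat_lit 11), (nat_lit 7), (nat_lit 9), (nat_lit 11)]]
noncomputable def RS : List (List Nat) := [[(nat_lit 13), (nat_lit 13)],
  [(nat_lit 13), (nat_lit 9), (nat_lit 13), (nat_lit 9)],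
  [(nat_lit 13), (nat_lit 11), (nat_lit 13), (nat_lit 11)],
  [(nat_lit 13), (nat_lit 4), (nat_lit 9), (nat_lit 13), (nat_lit 4), (nat_lit 9), (nat_lit 13), (nat_lit 4), (nat_lit 9)],
  [(nat_lit 13), (nat_lit 1), (nat_lit 13), (nat_lit 1)],
  [(nat_lit 13), (nat_lit 3), (nat_lit 3), (nat_lit 13), (nat_lit 9), (nat_lit 7), (nat_lit 9), (nat_lit 7)],
  [(nat_lit 13), (nat_lit 5), (nat_lit 5), (nat_lit 13), (nat_lit 9), (nat_lit 7), (nat_lit 9), (nat_lit 2), (nat_lit 2)],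
  [(nat_lit 13), (nat_lit 7), (nat_lit 13), (nat_lit 6), (nat_lit 6), (nat_lit 4), (nat_lit 4), (nat_lit 2), (nat_lit 2)]]
noncomputable def RQ : List (List Nat) := [[(nat_lit 15), (nat_lit 15), (nat_lit 15)],
  [(nat_lit 15), (nat_lit 1), (nat_lit 16), (nat_lit 4)],
  [(nat_lit 15), (nat_lit 3), (nat_lit 16), (nat_lit 6), (nat_lit 6), (nat_lit 3), (nat_lit 1)],
  [(nat_lit 15), (nat_lit 5), (nat_lit 16), (nat_lit 6)],
  [(nat_lit 15), (nat_lit 9), (nat_lit 16), (nat_lit 7), (nat_lit 9), (nat_lit 7)],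
  [(nat_lit 7), (nat_lit 9), (nat_lit 15), (nat_lit 7), (nat_lit 9), (nat_lit 15)],
  [(nat_lit 11), (nat_lit 9), (nat_lit 15), (nat_lit 11), (nat_lit 9), (nat_lit 15), (nat_lit 11), (nat_lit 9), (nat_lit 15)],
  [(nat_lit 9), (nat_lit 7), (nat_lit 11), (nat_lit 9), (nat_lit 15), (nat_lit 9), (nat_lit 7), (nat_lit 11), (nat_lit 9), (nat_lit 15), (nat_lit 9), (nat_lit 7), (nat_lit 11), (nat_lit 9), (nat_lit 15)]]
noncomputable def RX : List (List Nat) := [[(nat_lit 7), (nat_lit 13), (nat_lit 15), (nat_lit 7), (nat_lit 13), (nat_lit 15), (nat_lit 7), (nat_lit 13), (nat_lit 15), (nat_lit 7), (nat_lit 13), (nat_lit 15), (nat_lit 7), (nat_lit 13), (nat_lit 15), (nat_lit 7), (nat_lit 13), (nat_lit 15), (nat_lit 7), (nat_lit 13), (nat_lit 15), (nat_lit 7), (nat_lit 13), (nat_lit 15)],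
  [(nat_lit 1), (nat_lit 13), (nat_lit 15), (nat_lit 1), (nat_lit 13), (nat_lit 15), (nat_lit 1), (nat_lit 13), (nat_lit 15), (nat_lit 1), (nat_lit 13), (nat_lit 15), (nat_lit 1), (nat_lit 13), (nat_lit 15)]]
noncomputable def RH : List (List Nat) := lapp RP RS
noncomputable def RG : List (List Nat) := lapp RH (lapp RQ RX)

noncomputable def TV_c0 : BT (Bx Nat) := (BT.leaf (Bx.mk (nat_lit 16434824)))
noncomputable def TV_c1 : BT (Bx Nat) := (BT.leaf (Bx.mk (nat_lit 14527233)))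
noncomputable def TV_c3 : BT (Bx Nat) := (BT.leaf (Bx.mk (nat_lit 11508770)))
noncomputable def TV_c5 : BT (Bx Nat) := (BT.leaf (Bx.mk (nat_lit 8974763)))
noncomputable def TV_w : BT (Bx Nat) := (BT.leaf (Bx.mk (nat_lit 0x531053051031005003001000)))
noncomputable def TV_cols : List (BT (Bx Nat)) := [TV_c0, TV_c1, TV_c1, TV_c3, TV_c3, TV_c5, TV_c5]
noncomputable def TV_ch (x j : Nat) : Bx Nat := chk TV_cols x j
noncomputable def TV_wc (_ j : Nat) : Bx Nat := TV_w.get j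
noncomputable def TV : CT := ⟨(nat_lit 8), (nat_lit 3), (nat_lit 7), TV_ch, (nat_lit 12), (nat_lit 4095), TV_wc, (nat_lit 126)⟩
theorem TV_ok : TV.ok = true := by decide +kernel
theorem TV_rel : lall TV.relOK RV = true := by decide +kernel
noncomputable def TW_c0 : BT (Bx Nat) := (BT.leaf (Bx.mk (nat_lit 0xffdfbbf39eb8cb3c31db7d35bebb2dbaaa299a77db71d79a9618a392061959755149351028b20938f30d1c5183101080)))
noncomputable def TW_c1 : BT (Bx Nat) := (BT.leaf (Bx.mk (nat_lit 0xfb8ff7db5d3da689e6f3beb99648e2860cf2c705544d2450beeb6caea3ce34c7de75c6da1851036585d608b2892001c1)))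
noncomputable def TW_c2 : BT (Bx Nat) := (BT.leaf (Bx.mk (nat_lit 0xf7fe33cb1c3ef3beb9a689e67de75c6dadf6d74beeb6caea5544d24502ca2489648e28606585d618510304f38d307002)))
noncomputable def TW_c3 : BT (Bx Nat) := (BT.leaf (Bx.mk (nat_lit 0xf37ceffeeb6997e9237fd79ded963ae57578513d8f3b5d0dc8b2b1c09b2b1eaa061679848a10a071b05a59244040c203)))
noncomputable def TW_c4 : BT (Bx Nat) := (BT.leaf (Bx.mk (nat_lit 0xef6cbfbecae8fa58a1f5f71bf3ae59616e15491df5d0f38ccf1c0b288bada87a6798614392380279d6815d44d000d244)))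
noncomputable def TW_c5 : BT (Bx Nat) := (BT.leaf (Bx.mk (nat_lit 0xeb5c6eb2afe792283e79c6bd657f16ef95124383cddccdb42c9cc8cb01efb6b184a43a260a58e105f75b60055344e285)))
noncomputable def TW_c6 : BT (Bx Nat) := (BT.leaf (Bx.mk (nat_lit 0xe74c2daffaa68e1fa075bf5a63c5fb5ba4d1e103b73763352b3272231bc7bac1691280e79429227c179c65501448f2c6)))
noncomputable def TW_w : BT (Bx Nat) := (BT.leaf (Bx.mk (nat_lit 0x553311055332055331055411055311063311053311005533005542005532006332005332005541005531006331005331005511006411005411006311005311003311000554000553000633000533000552000642000542000632000532000332000551000641000541000631000531000331000611000511000411000311000055000064000054000063000053000033000062000052000042000032000061000051000041000031000011000006000005000004000003000002000001000000)))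
noncomputable def TW_cols : List (BT (Bx Nat)) := [TW_c0, TW_c1, TW_c2, TW_c3, TW_c4, TW_c5, TW_c6]
noncomputable def TW_ch (x j : Nat) : Bx Nat := chk TW_cols x j
noncomputable def TW_wc (_ j : Nat) : Bx Nat := TW_w.get j
noncomputable def TW : CT := ⟨(nat_lit 64), (nat_lit 6), (nat_lit 63), TW_ch, (nat_lit 24), (nat_lit 16777215), TW_wc, (nat_lit 126)⟩
theorem TW_ok : TW.ok = true := by decide +kernel
theorem TW_rel : lall TW.relOK RW = true := by decide +kernel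
noncomputable def TR_c0 : BT (Bx Nat) := (BT.leaf (Bx.mk (nat_lit 0xffef3def7e78eb4d76cf2c6dbeac2caeea6485d9688e29e07de99c6da6525d34545985502ca2483ce34c1c61440c1080)))
noncomputable def TR_c1 : BT (Bx Nat) := (BT.leaf (Bx.mk (nat_lit 0xf3dffeb6cab0be9baba279bbeb9e37db5d175104b34d1c96615c4f38d3259238a181f79d18510371b69908b2892001c1)))
noncomputable def TR_c2 : BT (Bx Nat) := (BT.leaf (Bx.mk (nat_lit 0xf7cfbfc2fbadb2baa9921778df5efad39db3cb161759551349140b28921fa207a78e58a671b69918510304f38d307002)))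
noncomputable def TR_c3 : BT (Bx Nat) := (BT.leaf (Bx.mk (nat_lit 0xef8c2dfe887e9209e3bea6bdcd4f174f25bad4d2f7d0ae763ce2524711c6b2916eadc6c47de98296274165855000c203)))
noncomputable def TR_c5 : BT (Bx Nat) := (BT.leaf (Bx.mk (nat_lit 0xdfab2f93e968fde7e2b5c657f18cfd4525783cce7b2b42ced762324c7c6ec05a466eaac39e00a686305d69458040d244)))
noncomputable def TR_c7 : BT (Bx Nat) := (BT.leaf (Bx.mk (nat_lit 0xe75baa9e5fe17e6f9d730af263d512c7c40fef6e8b34ce09dc8d331d656f19a66d12c0e9a028e290181e6d701344e285)))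
noncomputable def TR_c9 : BT (Bx Nat) := (BT.leaf (Bx.mk (nat_lit 0xdb4ae98e29a07bf77e6dab965714d1f50f0e37930aefa278237d47cf2619170bc4b43b2a0a89e506485f7005d448f2c6)))
noncomputable def TR_w : BT (Bx Nat) := (BT.leaf (Bx.mk (nat_lit 0x95731975310957309753095710937103951097510973105731095310753109711095110531100957009370039500975009730057300953007530097200952005320039100971005710037100951007510093100731005310091100711005110031100039000970005700037000950007500093000730005300092000720005200032000910007100051000310001100009000070000500003000020000100000)))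
noncomputable def TR_cols : List (BT (Bx Nat)) := [TR_c0, TR_c1, TR_c2, TR_c3, TR_c3, TR_c5, TR_c5, TR_c7, TR_c7, TR_c9, TR_c9]
noncomputable def TR_ch (x j : Nat) : Bx Nat := chk TR_cols x j
noncomputable def TR_wc (_ j : Nat) : Bx Nat := TR_w.get j
noncomputable def TR : CT := ⟨(nat_lit 64), (nat_lit 6), (nat_lit 63), TR_ch, (nat_lit 20), (nat_lit 1048575), TR_wc, (nat_lit 2046)⟩
theorem TR_ok : TR.ok = true := by decide +kernel
theorem TR_rel : lall TR.relOK RR = true := by decide +kernel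
noncomputable def TS_c0 : BT (Bx Nat) := (BT.node (nat_lit 1) (BT.leaf (Bx.mk (nat_lit 0x7ae9fb164fa233811a1b470ede2056b90aa5eb0fa34a993a450756b05279117366079a3858811244ca15323860d12285850e184040608080))) (BT.leaf (Bx.mk (nat_lit 0xefcfa75edaf6f0d5bb8ece5bee60cb773e2bf930e8c76f369bd329cdaf42454b32a4d69f2ec5a9d4a8d58eda0b96b0a2b7))))
noncomputable def TS_c1 : BT (Bx Nat) := (BT.node (nat_lit 1) (BT.leaf (Bx.mk (nat_lit 0xaaae9264b467a39d2659f428239c8d10d437d00b182ef1d9b70459b268407b048b45a84ea45091a3111e3a149923254a02080c7070c20001))) (BT.leaf (Bx.mk (nat_lit 0xe7c36ebef9f2f6c583adde972cd7e5538d3a1be6ee992b66a91174c2d105fe6c8f5d6372df0df6b79b5b62bed2e5962b2a))))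
noncomputable def TS_c3 : BT (Bx Nat) := (BT.node (nat_lit 1) (BT.leaf (Bx.mk (nat_lit 0x51513a9609282d43350479520ebb3715c18845de3f7a509ba2465bb51e5588d5e3112c5424f264a8c3073e20e1a0610b0e204408a1600282))) (BT.leaf (Bx.mk (nat_lit 0xe9c7777d5a3b64c7d6fe1b9ced72ad629f0df3f64cdb3a4eb97a6266839e1becb02339c579b60b6ceeb26945759aaaebd2))))
noncomputable def TS_c5 : BT (Bx Nat) := (BT.node (nat_lit 1) (BT.leaf (Bx.mk (nat_lit 0x949e9c79d411cf4a826223d253438a6a21c2f04c957cc5b9272d083622cc72c18b948a562d4080e90fa10a7421b2c60114260478d0024303))) (BT.leaf (Bx.mk (nat_lit 0xebcbbecdbdb367d3879f4bb6f7d8e1c6a52a36774d97575c8d51b1688502f657b931ba70ef035befd95c79697ad615d556))))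
noncomputable def TS_c7 : BT (Bx Nat) := (BT.node (nat_lit 1) (BT.leaf (Bx.mk (nat_lit 0xa8a1352a2966229a84fcb92764463904cc2305a03e28f5d1322e1b0f6a3992f1a2d6ab12a842748191854078d833408b9502488001828384))) (BT.leaf (Bx.mk (nat_lit 0xeddf7f1e1a7a73eb8f15ecb9395ab3575eaddb67509fb25538fa33c38b1333fb8f1de0bf85bb969759b1b6c2bd6b0b1729))))
noncomputable def TS_w : BT (Bx Nat) := (BT.node (nat_lit 1) (BT.leaf (Bx.mk (nat_lit 0x35713000005751300000735130000013513000001357100000357510000057351000007135100000357310000057531000007353100000135310000057131000007513100000351310000001357000000357500000057350000007135000000357300000057530000007353000000135300000057130000007513000000351300000035710000005751000000735100000013510000005731000000753100000035310000007131000000513100000003570000000575000000073500000001350000000573000000075300000003530000000713000000051300000005710000000751000000035100000007310000000531000000013100000000570000000075000000003500000000730000000053000000001300000000710000000051000000003100000000070000000005000000000300000000010000000000)))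 (BT.leaf (Bx.mk (nat_lit 0x13571351310135713513013571353101357351310357135131001357135300135735130035713513001357135100135735310035713531001357513100357351310057135131000135713500013573530003571353000135751300035735130005713513000135735100035713510001357531000357353100057135310001357131000357513100057351310007135131000013573500003571350000135753000035735300005713530000135713000035751300005735130000713513000013575100003573510000571351000013573100003575310000573531000071353100003571310000575131000073513100001351310000013575000003573500000571350000013573000003575300000573530000071353))))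
noncomputable def TS_cols : List (BT (Bx Nat)) := [TS_c0, TS_c1, TS_c1, TS_c3, TS_c3, TS_c5, TS_c5, TS_c7, TS_c7]
noncomputable def TS_ch (x j : Nat) : Bx Nat := chk TS_cols x j
noncomputable def TS_wc (_ j : Nat) : Bx Nat := TS_w.get j
noncomputable def TS : CT := ⟨(nat_lit 120), (nat_lit 7), (nat_lit 127), TS_ch, (nat_lit 40), (nat_lit 0xffffffffff), TS_wc, (nat_lit 510)⟩
theorem TS_ok : TS.ok = true := by decide +kernel
theorem TS_rel : lall TS.relOK RC = true := by decide +kernel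
noncomputable def eV_c0 : BT (Bx Nat) := (BT.leaf (Bx.mk (nat_lit 0x0)))
noncomputable def eV_c1 : BT (Bx Nat) := (BT.leaf (Bx.mk (nat_lit 0x147510e11b9a4648b10689000)))
noncomputable def eV_c2 : BT (Bx Nat) := (BT.leaf (Bx.mk (nat_lit 0x396728962292578a345689800)))
noncomputable def eV_c3 : BT (Bx Nat) := (BT.leaf (Bx.mk (nat_lit 0x4658c718a8c461a2f45a8a000)))
noncomputable def eV_p : BT (Bx Nat) := (BT.leaf (Bx.mk (nat_lit 0xd438c3883882443442441000000)))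
noncomputable def eV_e : BT Nat := BT.leaf (nat_lit 0)
noncomputable def eV_cols : List (BT (Bx Nat)) := [eV_c0, eV_c1, eV_c2, eV_c3]
noncomputable def eV_ch (x j : Nat) : Bx Nat := chunkG eV_cols (nat_lit 1) x j
noncomputable def eV_L (x : Nat) : Bx (Nat → Nat) := lookG eV_ch (nat_lit 8) (nat_lit 255) (nat_lit 11) (nat_lit 2047) x
noncomputable def eV_pc (_ j : Nat) : Bx Nat := eV_p.get j
noncomputable def eV_pb : Bx (Nat → Nat) := lookG eV_pc (nat_lit 8) (nat_lit 255) (nat_lit 12) (nat_lit 4095) (nat_lit 0)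
noncomputable def eV_rots : BT CW := (BT.node (nat_lit 4) (BT.node (nat_lit 2) (BT.node (nat_lit 1) (BT.leaf ⟨[], (nat_lit 1000000), (nat_lit 0), (nat_lit 0), (nat_lit 0)⟩) (BT.leaf ⟨[], (nat_lit 1000000), (nat_lit 0), (nat_lit 0), (nat_lit 1)⟩)) (BT.node (nat_lit 3) (BT.leaf ⟨[], (nat_lit 1000000), (nat_lit 0), (nat_lit 0), (nat_lit 2)⟩) (BT.leaf ⟨[(nat_lit 1), (nat_lit 1)], (nat_lit 0), (nat_lit 0), (nat_lit 0), (nat_lit 3)⟩))) (BT.node (nat_lit 6) (BT.node (nat_lit 5) (BT.leaf ⟨[(nat_lit 2), (nat_lit 2)], (nat_lit 1), (nat_lit 0), (nat_lit 0), (nat_lit 3)⟩) (BT.leaf ⟨[(nat_lit 3), (nat_lit 3)], (nat_lit 2), (nat_lit 0), (nat_lit 0), (nat_lit 3)⟩)) (BT.node (nat_lit 7) (BT.leaf ⟨[(nat_lit 1), (nat_lit 2), (nat_lit 1), (nat_lit 2)], (nat_lit 3), (nat_lit 0), (nat_lit 0), (nat_lit 3)⟩) (BT.node (nat_lit 8) (BT.leaf ⟨[(nat_lit 1), (nat_lit 3), (nat_lit 1), (nat_lit 3)], (nat_lit 4), (nat_lit 0), (nat_lit 0), (nat_lit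 3)⟩) (BT.leaf ⟨[(nat_lit 2), (nat_lit 3), (nat_lit 2), (nat_lit 3)], (nat_lit 5), (nat_lit 0), (nat_lit 0), (nat_lit 3)⟩)))))
noncomputable def eV_hcs : List CW := []
noncomputable def eV_H (x j : Nat) : Bx (Nat → Nat → Nat) := mkH eV_L eV_pb.1 eV_e.get (lmap CW.w eV_hcs) (nat_lit 8) (nat_lit 9) (nat_lit 4) (nat_lit 16) (nat_lit 256) (nat_lit 1023) x (eV_rots.get j)
noncomputable def eV_F (x b : Nat) : Bool := blkOK eV_H eV_ch (nat_lit 9) (nat_lit 16) (nat_lit 16) (nat_lit 8) (nat_lit 255) (nat_lit 11) (nat_lit 2047) x b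

theorem eV_k0_0 : allFrom (eV_F (nat_lit 0)) (nat_lit 0) (nat_lit 4) = true := by decide +kernel
theorem eV_k1_0 : allFrom (eV_F (nat_lit 1)) (nat_lit 0) (nat_lit 4) = true := by decide +kernel
theorem eV_k2_0 : allFrom (eV_F (nat_lit 2)) (nat_lit 0) (nat_lit 4) = true := by decide +kernel
theorem eV_k3_0 : allFrom (eV_F (nat_lit 3)) (nat_lit 0) (nat_lit 4) = true := by decide +kernel
noncomputable def eW_c0 : BT (Bx Nat) := (BT.leaf (Bx.mk (nat_lit 0x0)))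
noncomputable def eW_c1 : BT (Bx Nat) := (BT.leaf (Bx.mk (nat_lit 0x12bf32b9494032b832b732b632b5493e52aa52a952a852a7693d693c68bb693a52a652a552a452a352a252a16934693368b26931729672957294729372927291893088af892e88ad892c882b7290728f728e728d8920889f891e889d891c881b9887990697859804829a8299829882979503828c828b828a8289a281b088b0820000)))
noncomputable def eW_c2 : BT (Bx Nat) := (BT.leaf (Bx.mk (nat_lit 0x323e26c03239523452335232523146bf46bd46bc473b46ba522a5229522852277220721f721e721d721c721b66b866b7673666b566b0672f66ae672d66ac65ab721672157214721372127211970c968b960a958986a6872586a4872386a285a1871a8699861885979707968696059584a2028210820f820e820d8208a201b0830000)))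
noncomputable def eW_c3 : BT (Bx Nat) := (BT.leaf (Bx.mk (nat_lit 0x53bd53b853b473b08bc073af73ae53aa73a68bbf73a573a473a08bbe739f739e8bbc9b1a9b9983bb83ba999873968bb9739573948bb79b109b8f83b683b5998e8bb39b0c9b8b83b283b1998a83ad83aca388b0ab8ba99b079b8683a883a7998583a383a2a383b0a1839d839ca382b09bb09783938392a381b091b08db089b0840000)))
noncomputable def eW_c4 : BT (Bx Nat) := (BT.leaf (Bx.mk (nat_lit 0x733c733773336a4073309aad9a2c73296a3f73269aa39a226a3e73209a9d9a1c8a3d8abb8a3a9a9a9a19a3176a3973169a939a128a388ab68a359a909a0fa30d8a348ab28a319a8c9a0ba309832f832e832ba3088a2a8aa88a279a879a06a304832583248321a303831f831e831ba302b098831583148311a301b08eb08ab0850000)))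
noncomputable def eW_c5 : BT (Bx Nat) := (BT.leaf (Bx.mk (nat_lit 0x9c3b9c369c329c2f9c2da4abb0c09c289c259c23a4a1b0bf9c1f9c1da49bb0be9c1aa498b0bda497b0bcb0ba9c159c13a491b0b99c10a48eb0b8a48db0b7b0b59c0ca48ab0b4a489b0b3b0b1a488b0b0b0aeb0ac9c07a485b0aaa484b0a9b0a7a483b0a6b0a4b0a2a482b0a0b09eb09cb099a481b096b094b092b08fb08bb0860000)))
noncomputable def eW_c6 : BT (Bx Nat) := (BT.leaf (Bx.mk (nat_lit 0xa43aa435a431a42ea42c8440a42ba427a424a422843fa421a41ea41c843ea41ba419843da418843ca417b0bba414a4128439a411a40f8438a40e8437a40db0b6a40b8434a40a8433a409b0b28430a408b0afb0ada406842aa4058429a404b0a88426a403b0a5b0a38420a402b09fb09db09a8416a401b095b093b090b08cb0870000)))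
noncomputable def eW_p : BT (Bx Nat) := (BT.leaf (Bx.mk (nat_lit 0xce85ad45ac45ab85ab05aac6aac589c589058885884688458785870586c686c586458606860585c685c585c3650564856446644563c56386638563466345634362c562866285624662456243620662056204620341854146414541064105410340c640c540c440c34086408540844083408120462045204420432042204100000000)))
noncomputable def eW_e : BT Nat := BT.leaf (nat_lit 0)
noncomputable def eW_cols : List (BT (Bx Nat)) := [eW_c0, eW_c1, eW_c2, eW_c3, eW_c4, eW_c5, eW_c6]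
noncomputable def eW_ch (x j : Nat) : Bx Nat := chunkG eW_cols (nat_lit 1) x j
noncomputable def eW_L (x : Nat) : Bx (Nat → Nat) := lookG eW_ch (nat_lit 8) (nat_lit 255) (nat_lit 16) (nat_lit 65535) x
noncomputable def eW_pc (_ j : Nat) : Bx Nat := eW_p.get j
noncomputable def eW_pb : Bx (Nat → Nat) := lookG eW_pc (nat_lit 8) (nat_lit 255) (nat_lit 16) (nat_lit 65535) (nat_lit 0)
noncomputable def eW_rots : BT CW := (BT.node (nat_lit 12) (BT.node (nat_lit 6) (BT.node (nat_lit 3) (BT.node (nat_lit 1) (BT.leaf ⟨[], (nat_lit 1000000), (nat_lit 0), (nat_lit 0), (nat_lit 0)⟩) (BT.node (nat_lit 2) (BT.leaf ⟨[], (nat_lit 1000000), (nat_lit 0), (nat_lit 0), (nat_lit 1)⟩) (BT.leaf ⟨[], (nat_lit 1000000), (nat_lit 0), (nat_lit 0), (nat_lit 2)⟩))) (BT.node (nat_lit 4) (BT.leaf ⟨[(nat_lit 2), (nat_lit 1)], (nat_lit 8), (nat_lit 1), (nat_lit 0), (nat_lit 3)⟩) (BT.node (nat_lit 5) (BT.leaf ⟨[(nat_lit 1), (nat_lit 2)], (nat_lit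 8), (nat_lit 0), (nat_lit 0), (nat_lit 3)⟩) (BT.leaf ⟨[(nat_lit 4), (nat_lit 3)], (nat_lit 7), (nat_lit 1), (nat_lit 0), (nat_lit 3)⟩)))) (BT.node (nat_lit 9) (BT.node (nat_lit 7) (BT.leaf ⟨[(nat_lit 3), (nat_lit 4)], (nat_lit 7), (nat_lit 0), (nat_lit 0), (nat_lit 3)⟩) (BT.node (nat_lit 8) (BT.leaf ⟨[(nat_lit 6), (nat_lit 5)], (nat_lit 6), (nat_lit 1), (nat_lit 0), (nat_lit 3)⟩) (BT.leaf ⟨[(nat_lit 5), (nat_lit 6)], (nat_lit 6), (nat_lit 0), (nat_lit 0), (nat_lit 3)⟩))) (BT.node (nat_lit 10) (BT.leaf ⟨[(nat_lit 1), (nat_lit 1), (nat_lit 1), (nat_lit 1)], (nat_lit 0), (nat_lit 0), (nat_lit 0), (nat_lit 3)⟩) (BT.node (nat_lit 11) (BT.leaf ⟨[(nat_lit 2), (nat_lit 4), (nat_lit 1), (nat_lit 3)], (nat_lit 3), (nat_lit 2), (nat_lit 0), (nat_lit 3)⟩) (BT.leaf ⟨[(nat_lit 2), (nat_lit 3), (nat_lit 1), (nat_lit 4)], (nat_lit 12), (nat_lit 3), (nat_lit 0), (nat_lit 3)⟩))))) (BT.node (nat_lit 18) (BT.node (nat_lit 15) (BT.node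 (nat_lit 13) (BT.leaf ⟨[(nat_lit 2), (nat_lit 6), (nat_lit 1), (nat_lit 5)], (nat_lit 4), (nat_lit 2), (nat_lit 0), (nat_lit 3)⟩) (BT.node (nat_lit 14) (BT.leaf ⟨[(nat_lit 2), (nat_lit 5), (nat_lit 1), (nat_lit 6)], (nat_lit 13), (nat_lit 3), (nat_lit 0), (nat_lit 3)⟩) (BT.leaf ⟨[(nat_lit 1), (nat_lit 3), (nat_lit 2), (nat_lit 4)], (nat_lit 3), (nat_lit 0), (nat_lit 0), (nat_lit 3)⟩))) (BT.node (nat_lit 16) (BT.leaf ⟨[(nat_lit 1), (nat_lit 4), (nat_lit 2), (nat_lit 3)], (nat_lit 12), (nat_lit 1), (nat_lit 0), (nat_lit 3)⟩) (BT.node (nat_lit 17) (BT.leaf ⟨[(nat_lit 1), (nat_lit 5), (nat_lit 2), (nat_lit 6)], (nat_lit 4), (nat_lit 0), (nat_lit 0), (nat_lit 3)⟩) (BT.leaf ⟨[(nat_lit 1), (nat_lit 6), (nat_lit 2), (nat_lit 5)], (nat_lit 13), (nat_lit 1), (nat_lit 0), (nat_lit 3)⟩)))) (BT.node (nat_lit 21) (BT.node (nat_lit 19) (BT.leaf ⟨[(nat_lit 3), (nat_lit 3), (nat_lit 3), (nat_lit 3)], (nat_lit 1), (nat_lit 0), (nat_lit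 0), (nat_lit 3)⟩) (BT.node (nat_lit 20) (BT.leaf ⟨[(nat_lit 4), (nat_lit 6), (nat_lit 3), (nat_lit 5)], (nat_lit 5), (nat_lit 2), (nat_lit 0), (nat_lit 3)⟩) (BT.leaf ⟨[(nat_lit 4), (nat_lit 5), (nat_lit 3), (nat_lit 6)], (nat_lit 14), (nat_lit 3), (nat_lit 0), (nat_lit 3)⟩))) (BT.node (nat_lit 22) (BT.leaf ⟨[(nat_lit 3), (nat_lit 5), (nat_lit 4), (nat_lit 6)], (nat_lit 5), (nat_lit 0), (nat_lit 0), (nat_lit 3)⟩) (BT.node (nat_lit 23) (BT.leaf ⟨[(nat_lit 3), (nat_lit 6), (nat_lit 4), (nat_lit 5)], (nat_lit 14), (nat_lit 1), (nat_lit 0), (nat_lit 3)⟩) (BT.leaf ⟨[(nat_lit 5), (nat_lit 5), (nat_lit 5), (nat_lit 5)], (nat_lit 2), (nat_lit 0), (nat_lit 0), (nat_lit 3)⟩))))))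
noncomputable def eW_hcs : List CW := []
noncomputable def eW_H (x j : Nat) : Bx (Nat → Nat → Nat) := mkH eW_L eW_pb.1 eW_e.get (lmap CW.w eW_hcs) (nat_lit 64) (nat_lit 65) (nat_lit 7) (nat_lit 128) (nat_lit 4096) (nat_lit 8191) x (eW_rots.get j)
noncomputable def eW_F (x b : Nat) : Bool := blkOK eW_H eW_ch (nat_lit 65) (nat_lit 128) (nat_lit 32) (nat_lit 8) (nat_lit 255) (nat_lit 16) (nat_lit 65535) x b

theorem eW_k0_0 : allFrom (eW_F (nat_lit 0)) (nat_lit 0) (nat_lit 4) = true := by decide +kernel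
theorem eW_k1_0 : allFrom (eW_F (nat_lit 1)) (nat_lit 0) (nat_lit 4) = true := by decide +kernel
theorem eW_k2_0 : allFrom (eW_F (nat_lit 2)) (nat_lit 0) (nat_lit 4) = true := by decide +kernel
theorem eW_k3_0 : allFrom (eW_F (nat_lit 3)) (nat_lit 0) (nat_lit 4) = true := by decide +kernel
theorem eW_k4_0 : allFrom (eW_F (nat_lit 4)) (nat_lit 0) (nat_lit 4) = true := by decide +kernel
theorem eW_k5_0 : allFrom (eW_F (nat_lit 5)) (nat_lit 0) (nat_lit 4) = true := by decide +kernel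
theorem eW_k6_0 : allFrom (eW_F (nat_lit 6)) (nat_lit 0) (nat_lit 4) = true := by decide +kernel
noncomputable def eR_c0 : BT (Bx Nat) := (BT.leaf (Bx.mk (nat_lit 0x0)))
noncomputable def eR_c1 : BT (Bx Nat) := (BT.leaf (Bx.mk (nat_lit 0x893d649f2a501527ee92e7496ba0ad9262c9304155320bd8558c2a9615430a9dd278e93b73dd3a4e5d270e837749b3a2d6053102958148b8a4e5268e29471494a4cd852ec299614b4a0ca0521028f814740a364f4d2925941249e8e524528a194904a27e503d4907a443520168f09229d914e48a6e45354503914648a2e45152289b140e022301040000)))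
noncomputable def eR_c2 : BT (Bx Nat) := (BT.leaf (Bx.mk (nat_lit 0x823e411ea88fcc480c2316118308bd845cc22d6116308ad845502258111408794472a238511b308f18476e6b5611d2caddce68e73373194086604310217810b40856042902138109408468e19468ba30551625e24127297890bc47e4e51062482d34168e4c4f271d934e4986e4b354707a343518168b09620291084883e441d220d91045880701060000)))
noncomputable def eR_c3 : BT (Bx Nat) := (BT.leaf (Bx.mk (nat_lit 0x69bc24dca0cc4865c43403194d8c88467e63255190b0ca1134883307195d266d537cb3b4b18a9a6f59b31099484d9a0c5d1d76e9b6a4c758c3128706335b185e02e9936f0e908747d262a9b274b92919958c22c60ea32d54d558c1b015ee32c918ec8c72930ae320718fc8c9ec60780a6c051c8c7ac605809ac04ce025a46236301c046e022701080000)))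
noncomputable def eR_c4 : BT (Bx Nat) := (BT.leaf (Bx.mk (nat_lit 0x14a38451dd28b507614a2531dfc0e99875323c0b1cfd2881074703aea50ed8e6a9430aa3d81ccca8d2477d6392a509b4659d4734a10b1c6cacea4779638b57dad28321f1f23b6c05bd8e2647674c94b1c4602ca565f23b1b1c328eaa940f239c91d5e02b2c70923a871d0d8e0f014f23a2c05258e0b013d809b91cae025ec7038091c0476022b010a0000)))
noncomputable def eR_c5 : BT (Bx Nat) := (BT.leaf (Bx.mk (nat_lit 0x843aa55b32abe9557042872132ab0295454aa06993c90fec83d4a9d6218c48b1d566ca99521f52a569526e432921ed904695212abc521bc2aee95194d0ea606c90e6c8152438b204e02d648696408878bc3c5948614a87720db906a485d64059216d901301552429b201c909248472425b20160287013f809c920c5900701298092c047e022f010c0000)))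
noncomputable def eR_c6 : BT (Bx Nat) := (BT.leaf (Bx.mk (nat_lit 0x164b7b25ad92b2c95564a4b251b129ec943649fc0605927b017f649cb24db12bec92f6496785959252c92580beb248e02f6c91f648e785d53836c91780bcc05dd922b01736489c05c602dac91180b4c059c4065c9356486c058e02c2c90b80aeb242602b701576483c054e02a2494d6482c052e028b0141809db240e0263012b8093c04860233010e0000)))
noncomputable def eR_p : BT (Bx Nat) := (BT.leaf (Bx.mk (nat_lit 0xadc6ad468b068a86890688c68883884687c687c487868785870686c6868465c6658665436506648664846446644563c663866344630362c662c462c362866285624662456244620662056204620341c34186418441834146414541064105410440c640c540c440c34086408540844083408120462045204420432042204100000000)))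
noncomputable def eR_e : BT Nat := BT.leaf (nat_lit 0)
noncomputable def eR_cols : List (BT (Bx Nat)) := [eR_c0, eR_c1, eR_c2, eR_c3, eR_c4, eR_c5, eR_c6]
noncomputable def eR_ch (x j : Nat) : Bx Nat := chunkG eR_cols (nat_lit 1) x j
noncomputable def eR_L (x : Nat) : Bx (Nat → Nat) := lookG eR_ch (nat_lit 8) (nat_lit 255) (nat_lit 17) (nat_lit 131071) x
noncomputable def eR_pc (_ j : Nat) : Bx Nat := eR_p.get j
noncomputable def eR_pb : Bx (Nat → Nat) := lookG eR_pc (nat_lit 8) (nat_lit 255) (nat_lit 16) (nat_lit 65535) (nat_lit 0)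
noncomputable def eR_rots : BT CW := (BT.node (nat_lit 20) (BT.node (nat_lit 10) (BT.node (nat_lit 5) (BT.node (nat_lit 2) (BT.node (nat_lit 1) (BT.leaf ⟨[], (nat_lit 1000000), (nat_lit 0), (nat_lit 0), (nat_lit 0)⟩) (BT.leaf ⟨[], (nat_lit 1000000), (nat_lit 0), (nat_lit 0), (nat_lit 1)⟩)) (BT.node (nat_lit 3) (BT.leaf ⟨[], (nat_lit 1000000), (nat_lit 0), (nat_lit 0), (nat_lit 2)⟩) (BT.node (nat_lit 4) (BT.leaf ⟨[(nat_lit 2), (nat_lit 1)], (nat_lit 19), (nat_lit 1), (nat_lit 0), (nat_lit 3)⟩) (BT.leaf ⟨[(nat_lit 1), (nat_lit 2)], (nat_lit 19), (nat_lit 0), (nat_lit 0), (nat_lit 3)⟩)))) (BT.node (nat_lit 7) (BT.node (nat_lit 6) (BT.leaf ⟨[(nat_lit 3), (nat_lit 3)], (nat_lit 1), (nat_lit 0), (nat_lit 0), (nat_lit 3)⟩) (BT.leaf ⟨[(nat_lit 4), (nat_lit 4)], (nat_lit 2), (nat_lit 0), (nat_lit 0), (nat_lit 3)⟩)) (BT.node (nat_lit 8) (BT.leaf ⟨[(nat_lit 5), (nat_lit 5)], (nat_lit 3), (nat_lit 0), (nat_lit 0), (nat_lit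 3)⟩) (BT.node (nat_lit 9) (BT.leaf ⟨[(nat_lit 6), (nat_lit 6)], (nat_lit 4), (nat_lit 0), (nat_lit 0), (nat_lit 3)⟩) (BT.leaf ⟨[(nat_lit 1), (nat_lit 1), (nat_lit 1), (nat_lit 1)], (nat_lit 0), (nat_lit 0), (nat_lit 0), (nat_lit 3)⟩))))) (BT.node (nat_lit 15) (BT.node (nat_lit 12) (BT.node (nat_lit 11) (BT.leaf ⟨[(nat_lit 2), (nat_lit 3), (nat_lit 1), (nat_lit 3)], (nat_lit 5), (nat_lit 2), (nat_lit 0), (nat_lit 3)⟩) (BT.leaf ⟨[(nat_lit 2), (nat_lit 4), (nat_lit 1), (nat_lit 4)], (nat_lit 6), (nat_lit 2), (nat_lit 0), (nat_lit 3)⟩)) (BT.node (nat_lit 13) (BT.leaf ⟨[(nat_lit 2), (nat_lit 5), (nat_lit 1), (nat_lit 5)], (nat_lit 7), (nat_lit 2), (nat_lit 0), (nat_lit 3)⟩) (BT.node (nat_lit 14) (BT.leaf ⟨[(nat_lit 2), (nat_lit 6), (nat_lit 1), (nat_lit 6)], (nat_lit 8), (nat_lit 2), (nat_lit 0), (nat_lit 3)⟩) (BT.leaf ⟨[(nat_lit 1), (nat_lit 3), (nat_lit 2), (nat_lit 3)], (nat_lit 5), (nat_lit 0), (nat_lit 0), (nat_lit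 3)⟩)))) (BT.node (nat_lit 17) (BT.node (nat_lit 16) (BT.leaf ⟨[(nat_lit 1), (nat_lit 4), (nat_lit 2), (nat_lit 4)], (nat_lit 6), (nat_lit 0), (nat_lit 0), (nat_lit 3)⟩) (BT.leaf ⟨[(nat_lit 1), (nat_lit 5), (nat_lit 2), (nat_lit 5)], (nat_lit 7), (nat_lit 0), (nat_lit 0), (nat_lit 3)⟩)) (BT.node (nat_lit 18) (BT.leaf ⟨[(nat_lit 1), (nat_lit 6), (nat_lit 2), (nat_lit 6)], (nat_lit 8), (nat_lit 0), (nat_lit 0), (nat_lit 3)⟩) (BT.node (nat_lit 19) (BT.leaf ⟨[(nat_lit 3), (nat_lit 4), (nat_lit 3), (nat_lit 4)], (nat_lit 9), (nat_lit 0), (nat_lit 0), (nat_lit 3)⟩) (BT.leaf ⟨[(nat_lit 4), (nat_lit 6), (nat_lit 4), (nat_lit 6)], (nat_lit 13), (nat_lit 1), (nat_lit 0), (nat_lit 3)⟩)))))) (BT.node (nat_lit 30) (BT.node (nat_lit 25) (BT.node (nat_lit 22) (BT.node (nat_lit 21) (BT.leaf ⟨[(nat_lit 5), (nat_lit 6), (nat_lit 5), (nat_lit 6)], (nat_lit 14), (nat_lit 0), (nat_lit 0), (nat_lit 3)⟩) (BT.leaf ⟨[(nat_lit 4), (nat_lit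 3), (nat_lit 4), (nat_lit 3)], (nat_lit 9), (nat_lit 1), (nat_lit 0), (nat_lit 3)⟩)) (BT.node (nat_lit 23) (BT.leaf ⟨[(nat_lit 3), (nat_lit 5), (nat_lit 3), (nat_lit 1), (nat_lit 1), (nat_lit 5)], (nat_lit 10), (nat_lit 1), (nat_lit 0), (nat_lit 3)⟩) (BT.node (nat_lit 24) (BT.leaf ⟨[(nat_lit 5), (nat_lit 3), (nat_lit 1), (nat_lit 1), (nat_lit 5), (nat_lit 3)], (nat_lit 10), (nat_lit 2), (nat_lit 0), (nat_lit 3)⟩) (BT.leaf ⟨[(nat_lit 4), (nat_lit 5), (nat_lit 4), (nat_lit 1), (nat_lit 1), (nat_lit 5)], (nat_lit 11), (nat_lit 1), (nat_lit 0), (nat_lit 3)⟩)))) (BT.node (nat_lit 27) (BT.node (nat_lit 26) (BT.leaf ⟨[(nat_lit 5), (nat_lit 4), (nat_lit 1), (nat_lit 1), (nat_lit 5), (nat_lit 4)], (nat_lit 11), (nat_lit 2), (nat_lit 0), (nat_lit 3)⟩) (BT.leaf ⟨[(nat_lit 3), (nat_lit 6), (nat_lit 3), (nat_lit 1), (nat_lit 1), (nat_lit 6)], (nat_lit 12), (nat_lit 1), (nat_lit 0), (nat_lit 3)⟩)) (BT.node (nat_lit 28) (BT.leaf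 ⟨[(nat_lit 6), (nat_lit 3), (nat_lit 1), (nat_lit 1), (nat_lit 6), (nat_lit 3)], (nat_lit 12), (nat_lit 2), (nat_lit 0), (nat_lit 3)⟩) (BT.node (nat_lit 29) (BT.leaf ⟨[(nat_lit 3), (nat_lit 2), (nat_lit 3), (nat_lit 1)], (nat_lit 5), (nat_lit 1), (nat_lit 0), (nat_lit 3)⟩) (BT.leaf ⟨[(nat_lit 5), (nat_lit 1), (nat_lit 5), (nat_lit 2)], (nat_lit 7), (nat_lit 3), (nat_lit 0), (nat_lit 3)⟩))))) (BT.node (nat_lit 35) (BT.node (nat_lit 32) (BT.node (nat_lit 31) (BT.leaf ⟨[(nat_lit 4), (nat_lit 2), (nat_lit 4), (nat_lit 1)], (nat_lit 6), (nat_lit 1), (nat_lit 0), (nat_lit 3)⟩) (BT.leaf ⟨[(nat_lit 6), (nat_lit 1), (nat_lit 6), (nat_lit 2)], (nat_lit 8), (nat_lit 3), (nat_lit 0), (nat_lit 3)⟩)) (BT.node (nat_lit 33) (BT.leaf ⟨[(nat_lit 6), (nat_lit 4), (nat_lit 6), (nat_lit 4)], (nat_lit 13), (nat_lit 0), (nat_lit 0), (nat_lit 3)⟩) (BT.node (nat_lit 34) (BT.leaf ⟨[(nat_lit 2), (nat_lit 2), (nat_lit 2), (nat_lit 2)], (nat_lit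 20), (nat_lit 0), (nat_lit 0), (nat_lit 3)⟩) (BT.leaf ⟨[(nat_lit 4), (nat_lit 1), (nat_lit 1), (nat_lit 5), (nat_lit 4), (nat_lit 5)], (nat_lit 11), (nat_lit 3), (nat_lit 0), (nat_lit 3)⟩)))) (BT.node (nat_lit 37) (BT.node (nat_lit 36) (BT.leaf ⟨[(nat_lit 5), (nat_lit 4), (nat_lit 5), (nat_lit 4), (nat_lit 1), (nat_lit 1)], (nat_lit 11), (nat_lit 0), (nat_lit 0), (nat_lit 3)⟩) (BT.leaf ⟨[(nat_lit 2), (nat_lit 2), (nat_lit 4), (nat_lit 5), (nat_lit 4), (nat_lit 5)], (nat_lit 31), (nat_lit 0), (nat_lit 0), (nat_lit 3)⟩)) (BT.node (nat_lit 38) (BT.leaf ⟨[(nat_lit 5), (nat_lit 2), (nat_lit 5), (nat_lit 1)], (nat_lit 7), (nat_lit 1), (nat_lit 0), (nat_lit 3)⟩) (BT.node (nat_lit 39) (BT.leaf ⟨[(nat_lit 3), (nat_lit 1), (nat_lit 1), (nat_lit 6), (nat_lit 3), (nat_lit 6)], (nat_lit 12), (nat_lit 3), (nat_lit 0), (nat_lit 3)⟩) (BT.leaf ⟨[(nat_lit 3), (nat_lit 1), (nat_lit 3), (nat_lit 2)], (nat_lit 5), (nat_lit 3), (nat_lit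 0), (nat_lit 3)⟩)))))))
noncomputable def eR_hcs : List CW := []
noncomputable def eR_H (x j : Nat) : Bx (Nat → Nat → Nat) := mkH eR_L eR_pb.1 eR_e.get (lmap CW.w eR_hcs) (nat_lit 64) (nat_lit 65) (nat_lit 7) (nat_lit 128) (nat_lit 8192) (nat_lit 8191) x (eR_rots.get j)
noncomputable def eR_F (x b : Nat) : Bool := blkOK eR_H eR_ch (nat_lit 65) (nat_lit 128) (nat_lit 64) (nat_lit 8) (nat_lit 255) (nat_lit 17) (nat_lit 131071) x b

theorem eR_k0_0 : allFrom (eR_F (nat_lit 0)) (nat_lit 0) (nat_lit 4) = true := by decide +kernel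
theorem eR_k1_0 : allFrom (eR_F (nat_lit 1)) (nat_lit 0) (nat_lit 4) = true := by decide +kernel
theorem eR_k2_0 : allFrom (eR_F (nat_lit 2)) (nat_lit 0) (nat_lit 4) = true := by decide +kernel
theorem eR_k3_0 : allFrom (eR_F (nat_lit 3)) (nat_lit 0) (nat_lit 4) = true := by decide +kernel
theorem eR_k4_0 : allFrom (eR_F (nat_lit 4)) (nat_lit 0) (nat_lit 4) = true := by decide +kernel
theorem eR_k5_0 : allFrom (eR_F (nat_lit 5)) (nat_lit 0) (nat_lit 4) = true := by decide +kernel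
theorem eR_k6_0 : allFrom (eR_F (nat_lit 6)) (nat_lit 0) (nat_lit 4) = true := by decide +kernel
noncomputable def eS_c0 : BT (Bx Nat) := (BT.leaf (Bx.mk (nat_lit 0x0)))
noncomputable def eS_c1 : BT (Bx Nat) := (BT.leaf (Bx.mk (nat_lit 0xb274b271b26eb26cc0f8b268b266c0f7b263b261c0f6b25ec0f5825db25ab258c0f3b255c0f28254b251c0f0b24ec0ef824db24bc0ed946ba4c9b246c0eab243c0e98242b240c0e79465a4beb23bc0e4823ab238c0e29460a4b6c0df6237925cb232b230c0db822fb22dc0d99457a4abc0d6622c9253b227b226c0d29450a4a4c0cf744a924cb22082228221c0c8b21dc0c79445a49bc0c4743f9241b21782198218c0bdc0bc621c9239b212943494b3c0b5a491a410c0b17425922eb20c942994a8c0aaa48ba40a820e820dc0a3921f921eb20694149493c09a92169215b203a485a404c08f92089207c089b201c0820000)))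
noncomputable def eS_c2 : BT (Bx Nat) := (BT.leaf (Bx.mk (nat_lit 0x257562f2356f12f8b2eb356975f7b2e562e422f6b2e02562b2ddc0f462db22f3b2d72559b2d4c0f175f0b2d012edb2cdc0ee62cfb2cac0ec854c75eab2c512e7b2c2c0e862c4b2bfc0e685412547b2bac0e375dfb2b7c0e172dcb2b4c0dea53382b512d2b2afc0da75d6b2acc0d872d3b2a9c0d5a52882aa62b1b2a5c0d1852eb2a2c0cea52195c8c0cb92c9b29e75bcb29cc0c672b9b299c0c3a51895bdc0c092beb295b294c0bba513829ac0b892b6b2908296c0b2b28ec0b0a50d95a3c0ad92abb28a951fc0a7c0a692a4b287a508c0a0a589c09d929bb284a505c097928f9291c092b282928bc08cb281c086c0830000)))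
noncomputable def eS_c3 : BT (Bx Nat) := (BT.leaf (Bx.mk (nat_lit 0x66f666f3537886ed636e537786e7636866ea86e276747375835eb35c537086d9767173728355b35386d2635a736f834eb34c66d6966cb349c0eb86c7766373698343b341535f9666b33ec0e57364833bb33986bc9661b336c0e06340b333c0dd86bd735b8330b32e86b19658b32bc0d7764bb328c0d47348734f9651b324c0d08326b321c0cd8323b31fc0ca832773449646b31bc0c5831db318c0c2831ab316c0bf96329638b313c0ba96b5b311c0b7a612c0b4b30f962db30dc0af96aab30bc0aca60cc0a9b309b308c0a59320c0a2b306c09eb305c09c9317c099b303c095c094b302c090c08eb301c08ac087c0840000)))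
noncomputable def eS_c4 : BT (Bx Nat) := (BT.leaf (Bx.mk (nat_lit 0x47f733f857f043f243f157ea57f5587443f663e453e323df686667e543f363db53da23d653ec53eb77ef686e87cf885177d037ed484b63d4b3c877e9686887c4884677c537e74840775db3bd23bc73e163e073e283b883bab3b533de43b4b3b2c0dc87b173d863d773d983ad83afb3aa33d543a9b3a7c0d337d24826974db3a3984ea722b3a0c0cc57cab39ec0c973c7839d9742b39a9843a719b397c0c157bfb395c0be33bb4394b392c0b993b7b390c0b6b38fc0b39830a70eb38cc0ae93acb38ac0abb389c0a857a5b387c0a4b386c0a1c09f939cb384c09bb383c098c096b382c093c091b381c08dc08bc088c0850000)))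
noncomputable def eS_p : BT (Bx Nat) := (BT.leaf (Bx.mk (nat_lit 0x15d019e20cee0676033ac28d00c6606328518c18c20c600a2f0317428b81bda05ec02f5c27aa0bd409e986f4417a013ce05e684f3037960bca09e486f20468c0b4509a182d0826821b40059f84cf8367a233b059d04ce436700b37099b06cd4466813330d9908cc815600aaf095706ab4155812ab0d5508aa425501aa7115382a98154a12a40d5188a8825421aa0115002a7c353c229e090e8287024361a1a110c84860342e2217050b06854442a121409098684844240a110d0808840241e220f0cc7046343318218c04c5866284314118910c486620330e218708c308618330c09050c8208410220621030c818240842041902084088204310210810400000000)))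
noncomputable def eS_e : BT Nat := BT.leaf (nat_lit 0)
noncomputable def eS_cols : List (BT (Bx Nat)) := [eS_c0, eS_c1, eS_c2, eS_c3, eS_c4]
noncomputable def eS_ch (x j : Nat) : Bx Nat := chunkG eS_cols (nat_lit 1) x j
noncomputable def eS_L (x : Nat) : Bx (Nat → Nat) := lookG eS_ch (nat_lit 8) (nat_lit 255) (nat_lit 16) (nat_lit 65535) x
noncomputable def eS_pc (_ j : Nat) : Bx Nat := eS_p.get j
noncomputable def eS_pb : Bx (Nat → Nat) := lookG eS_pc (nat_lit 8) (nat_lit 255) (nat_lit 17) (nat_lit 131071) (nat_lit 0)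
noncomputable def eS_rots : BT CW := (BT.node (nat_lit 8) (BT.node (nat_lit 4) (BT.node (nat_lit 2) (BT.node (nat_lit 1) (BT.leaf ⟨[], (nat_lit 1000000), (nat_lit 0), (nat_lit 0), (nat_lit 0)⟩) (BT.leaf ⟨[], (nat_lit 1000000), (nat_lit 0), (nat_lit 0), (nat_lit 1)⟩)) (BT.node (nat_lit 3) (BT.leaf ⟨[], (nat_lit 1000000), (nat_lit 0), (nat_lit 0), (nat_lit 2)⟩) (BT.leaf ⟨[(nat_lit 1), (nat_lit 1)], (nat_lit 0), (nat_lit 0), (nat_lit 0), (nat_lit 3)⟩))) (BT.node (nat_lit 6) (BT.node (nat_lit 5) (BT.leaf ⟨[(nat_lit 2), (nat_lit 2)], (nat_lit 1), (nat_lit 0), (nat_lit 0), (nat_lit 3)⟩) (BT.leaf ⟨[(nat_lit 3), (nat_lit 3)], (nat_lit 2), (nat_lit 0), (nat_lit 0), (nat_lit 3)⟩)) (BT.node (nat_lit 7) (BT.leaf ⟨[(nat_lit 4), (nat_lit 4)], (nat_lit 3), (nat_lit 0), (nat_lit 0), (nat_lit 3)⟩) (BT.leaf ⟨[(nat_lit 1), (nat_lit 3), (nat_lit 1), (nat_lit 3)], (nat_lit 7), (nat_lit 0), (nat_lit 0), (nat_lit 3)⟩)))) (BT.node (nat_lit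 12) (BT.node (nat_lit 10) (BT.node (nat_lit 9) (BT.leaf ⟨[(nat_lit 1), (nat_lit 4), (nat_lit 1), (nat_lit 4)], (nat_lit 8), (nat_lit 0), (nat_lit 0), (nat_lit 3)⟩) (BT.leaf ⟨[(nat_lit 2), (nat_lit 4), (nat_lit 2), (nat_lit 4)], (nat_lit 9), (nat_lit 0), (nat_lit 0), (nat_lit 3)⟩)) (BT.node (nat_lit 11) (BT.leaf ⟨[(nat_lit 2), (nat_lit 1), (nat_lit 2), (nat_lit 1), (nat_lit 2), (nat_lit 1)], (nat_lit 4), (nat_lit 1), (nat_lit 0), (nat_lit 3)⟩) (BT.leaf ⟨[(nat_lit 3), (nat_lit 2), (nat_lit 3), (nat_lit 2), (nat_lit 3), (nat_lit 2)], (nat_lit 5), (nat_lit 1), (nat_lit 0), (nat_lit 3)⟩))) (BT.node (nat_lit 14) (BT.node (nat_lit 13) (BT.leaf ⟨[(nat_lit 3), (nat_lit 1), (nat_lit 3), (nat_lit 1)], (nat_lit 7), (nat_lit 1), (nat_lit 0), (nat_lit 3)⟩) (BT.leaf ⟨[(nat_lit 4), (nat_lit 3), (nat_lit 4), (nat_lit 3), (nat_lit 4), (nat_lit 3)], (nat_lit 6), (nat_lit 1), (nat_lit 0), (nat_lit 3)⟩)) (BT.node (nat_lit 15) (BT.leaf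 ⟨[(nat_lit 4), (nat_lit 1), (nat_lit 4), (nat_lit 1)], (nat_lit 8), (nat_lit 1), (nat_lit 0), (nat_lit 3)⟩) (BT.leaf ⟨[(nat_lit 4), (nat_lit 2), (nat_lit 4), (nat_lit 2)], (nat_lit 9), (nat_lit 1), (nat_lit 0), (nat_lit 3)⟩)))))
noncomputable def eS_hcs : List CW := []
noncomputable def eS_H (x j : Nat) : Bx (Nat → Nat → Nat) := mkH eS_L eS_pb.1 eS_e.get (lmap CW.w eS_hcs) (nat_lit 120) (nat_lit 121) (nat_lit 5) (nat_lit 128) (nat_lit 4096) (nat_lit 8191) x (eS_rots.get j)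
noncomputable def eS_F (x b : Nat) : Bool := blkOK eS_H eS_ch (nat_lit 121) (nat_lit 128) (nat_lit 32) (nat_lit 8) (nat_lit 255) (nat_lit 16) (nat_lit 65535) x b

theorem eS_k0_0 : allFrom (eS_F (nat_lit 0)) (nat_lit 0) (nat_lit 4) = true := by decide +kernel
theorem eS_k1_0 : allFrom (eS_F (nat_lit 1)) (nat_lit 0) (nat_lit 4) = true := by decide +kernel
theorem eS_k2_0 : allFrom (eS_F (nat_lit 2)) (nat_lit 0) (nat_lit 4) = true := by decide +kernel
theorem eS_k3_0 : allFrom (eS_F (nat_lit 3)) (nat_lit 0) (nat_lit 4) = true := by decide +kernel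
theorem eS_k4_0 : allFrom (eS_F (nat_lit 4)) (nat_lit 0) (nat_lit 4) = true := by decide +kernel
noncomputable def eM_c0 : BT (Bx Nat) := (BT.leaf (Bx.mk (nat_lit 0x0)))
noncomputable def eM_c1 : BT (Bx Nat) := (BT.leaf (Bx.mk (nat_lit 0x29da821ca7197a6297a541da42d7a33dda2117a129da039c9f3d79e41d9d4979c4579b4579a317992d7984d79746c962dd953d794417934179235c912979049c8f0d78e55c8d55d8c3dd8b4178a51d8931d883e887417864dd854dd8419c8359d8235c812978036a7f49c7e3177d1ea7c3d77b51c7a55c7955d784dc7755d764ac754dc74557734dd72217714d77036a6f4dd6e41d6d3176c4176b4176a29d69497685dd675576659765597645176351762517615d7604d75f4d75e4d75d5175c2d75b51d5a45759497584575745c5641755557544d75355752597515dc504d74f59d4e5174d61d4c3a84b41d4a45c49528485d7475aa4661c455d74459c4365c4265d4159c4059c3f59d3e65d3d5283c5173b5a83a5dd3955d3861c375d736597355d73461733617323d7315dd305d72f6172e65c2d5972c6572b61d2a597296572865727617265d72555724617236572265c2169c2069d1f6dd1e6a81d6281c6dc1b6171a5ea196dc1869c1769d1661d156dc1465713697126d7116d7106570f6170e6d70d6970c6d70b6e80a71d0975c0875d076dd0675c057170475703757028030100000)))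
noncomputable def eM_c2 : BT (Bx Nat) := (BT.leaf (Bx.mk (nat_lit 0x253a81d3a71dba62d6a53d3a4316a3393a215ba1253a03539f4169e3d39d4db9c49b9b49b9a3569931b9851b974139629395416944569345b92313912d6904538f12d8e5138d5138c3938b4608a4d3892d388393874568649385493841538355382313812d6803137f4537e35b7d1937c41b7b4d37a51379513784937751376453754937459b73493722607151b703136f4936e3d36d35b6c4566b45b6a253694db6859367596665d6655db64556635566255b6161b605205f5165e5165d55b5c31b5b4d35a4a0594db584a0574135646b555965451653596525db51593505164f5534e5604d5d34c3534b3d34a413494d34861647553465d34561b44553436134261341553405533f5533e6133d4d33c55b3b5533a59339513385d337616365d63561b346563365b3241b31593306202f65b2e6132d5db2c6962b5d32a5d6296962869b2765b26620255a0246562369b2261321653206531f6931e6531d5d31c6931b6561a593196931865317653165d3156931469b136d6127161171b1069b0f6600e7160d6d60c71b0b6930a6d30971308713076930671305760047960379b027d30100000)))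
noncomputable def eM_c3 : BT (Bx Nat) := (BT.leaf (Bx.mk (nat_lit 0x355a845fa72dfa6495a5255a4455a3455a249fa1215a045f9f2159e2159d3df9c3669b2959a55f994559821f97495964559539594326933249232491395904a48f19f8e1958d5558c3958b4d58a3a68951f885df87515861558511f8451f832df8259f81495804667f4a47e45f7d4667c3957b4df7a31f7941f78355774df7659f754df7449f733d5725157151f704d56f5956e3156d41f6c3556b2d56a49569495680df675556621565515643556341f625df61415605d55f4a45e45f5d3555c5155b5d55a495594955851f575155651555555544d553455524d5514d5503954f2d54e5df4d31f4c61f4b3df4a41f49555485df475e646624455a6445a4436644259f41564405643f5953e49f3d65f3c61f3b5df3a5e639566385e4375d5365643565f3455f334553261531655306152f6152e5952d5952c6552b5952a5952965528555275552661525595246152366622624216a42065f1f61f1e6df1d65f1c6e41b61f1a626196e4186a4176a6166df156551465513695126d5116d5106d50f6550e6d50d6950c6950b71f0a72609764087660775f06724057550475503755028030100000)))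
noncomputable def eM_c4 : BT (Bx Nat) := (BT.leaf (Bx.mk (nat_lit 0x39aa8412a7292a64daa529aa449aa349aa2452a1262a04129f25a9e25a9d3929c3129b2da9a5129949a981d2974da9649a953da942d2932d2922d2913da904528f1528e1e28d59a8c3d48b51a8a352894d2885928755a8619a850d2844d28329282552814da804127f4527e4127d4127c3da7b4927a2d2793d27839a774927655275492744527341a7255a714d27051a6f5da6e35a6d3d26c3a26b31a6a4da694e268092675946625a6555a6439a633d2625926145a6061a5f4525e4125d3a25c55a5b61a5a4da594e2584d25755a565625559454514534a25251a51514503da4f31a4e5924d2d24c5d24b3924a3d24959a4859247592465d24555244552436124255241512405123f5da3e4523d6123c5d23b5923a592395123859237614365123561234512334a23265a3169a3065a2f6622e5da2d5e22c6942b5e22a5d4296942859a2759a2665a255da2465423612225d221652206121f5d21e6921d6121c6921b5d21a5d2196921865217652166921569a146a2136d412714117221071a0f69a0e7140d6d40c6da0b6d20a6d2097120871207712066d20579a04794037a2027d20100000)))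
noncomputable def eM_c5 : BT (Bx Nat) := (BT.leaf (Bx.mk (nat_lit 0x45ea82d9a745ea6319a545ea415ea3099a2359a13d9a029e9f21e9e35e9d39e9c45e9b4999a419993de9851e974de9659e9531e9449e9339e9249e9125e902998f2598e4998d0598c3d98b4598a4d9895598841e87259863d9854198435e8351e8251e815de8039e7f35e7e4997d21e7c21e7b1997a3d97951e78559775de764de754997449e7349e722de71559703996f2996e5996d3196c3196b3d96a55e69499681196719e6649e6555964427634de6251961519605195f51e5e49e5d5195c59e5b4195a5d959499585995755956459552995435e5351e524d951459503594f4de4e5d94d3994c45e4b61e4a2de4965e4861e475e74621e4535e44399435594259e41499403d93f59e3e49e3d55e3c55e3b61e3a5e7395673845e375673639e355d93459e33399325d931599306592f6192e5d92d5992c6592b5592a5592959e28599275592661925659245d92366722559214d92065e1f61e1e6de1d6de1c6e51b65e1a627196e518599176a71669e1569914619136991265e116d9106d90f6d90e6d90d6990c6990b75e0a72709765087670775e06725057590475903719028030100000)))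
noncomputable def eM_c6 : BT (Bx Nat) := (BT.leaf (Bx.mk (nat_lit 0x411a8318a7411a6358a5411a4111a30d8a2398a1418a02519f1d19e3119d3519c4119b4d89a45899391984d19749196551952d194451933519245191211902d88f2988e4d88d0988c4188b4988a51889598883d187298864188545884311834d1824d181591803517f3117e4d87d1d17c1d17b1d87a418794d1785987759176491754d874451734517229171598703d86f2d86e5d86d3696c3636b4186a511694e968158671516645165598643d1634916255861558605585f4d15e4515d5585c5515b4585a618594e9585d85759856498552d854311534d15251851498503984f4914e6184d3d84c4114b5d14a29149611485d147591461d145311443d84359842551414e9404183f5513e4513d5113c5113b5d13a591395113841137511363513561834551333d832618315d8306982f6692e6182d5e92c6a12b5a32a5a129551285d82759826658256982462323611225a921518206111f5d11e6911d6911c6911b6111a5d119691185d81765116651156d814663136e11261111729107180f7180e7210d6e10c6d80b7110a6d1097110871107711066d105798047a103763027d10100000)))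
noncomputable def eM_c7 : BT (Bx Nat) := (BT.leaf (Bx.mk (nat_lit 0x68aa5684a66caa7644a87c48660c95684947c4837c4807c47d60a8b6848a7c47a7c4777c4746c4886c49158a8d7c4715c4a36caa27c46d6cd8f70a987c469684926c487544977c4665c49e6cc9d7c46270e9970c8e801a47c45e7c45d801a1684657c45b801a07c45978d6a8019f7c4577c4568019c684707c4548019b7c45278e5f8019a7c4507c44f801966cc797c44d6c453801937c44b7c44a7447e801907c4487c4478018c6ca827c4456c45a801897c4437c4427447580185801847c43f8018170c638017f7c43c8017c8017b7c43a8017870a6e801767c43780173801727c4358016f7c4338016c8016b7c43180168801677c42f801647c42d80161801607c42b74a3b8015c7c4297c4288015870440801557c4257c4248015174a308014e7c4218014c7c4208014970436801467c41d801447c41c801417c41a8013e8013d7c4187c41780139801387c4157c41480134801327c4127c4118012e8012c7c40f8012a7c40e80127801267c40c80123801227c40a8011f8011e7c4088011b801197c406801167c405801137c404801107c4038010d8010b80109801077c4018010200000)))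
noncomputable def eM_c8 : BT (Bx Nat) := (BT.leaf (Bx.mk (nat_lit 0x607a27c69b507987c689606957c6857c6845c99c549a76879a586a0801a87877b5c7a36c7887c6737c6727c6715068c7c66e7c66d649a5646906c680646a468793801a66c983787676499f6c676686997c6617c660749826c67c746a17c65c7c65b70f647c65a709947066b7c6578019e8019d686977067d78755709877065f7c651749706c668746967c64e7c64d6c6787c64c7c64b80192801917477f7c6488018f8018e8018d70669787468018b8018a78744747757c6418018674959746817c63e7c63d7c63c8017e7c63b7c63a8017a80179801777065678738801747494a7466f7c6347466c7c6327c6318016a7c6307c62f80166801658016380162706477872c8015e8015d7872a746587c6277c6267c625801548015380152801508014f7872274924746497c61f7c61e7c61d801457c61c8014380142801408013f7062d78719746397c6167c61580137801368013580133787137462e7c6107c60f8012b7c60e80129801287891a746237c60b7c60a8012180120789147461b7c6077c6068011880117787097c60480112801117460d7c6028010c7c60180108801058010300000)))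
noncomputable def eM_c9 : BT (Bx Nat) := (BT.leaf (Bx.mk (nat_lit 0x7c59d505a07c58e60593688905859b5c5a8788845c89e6058b7c57c7c57b585a1801a76459f6c8894c5a66cb7a7887264ba46c57f6458f7c56c7c56b688927c5687c5677c566548967c5637c562801a56859a6c5777c55e801a3801a26858d705867885c70b917056a7c55874b79708857459c7c5557c5547106f7c55370b8a705607c550801998019880197705747884e80195801947884c7487e7c54974b65708737458c7c5467c5456c5817c5447c5438018880187748767c5407c53f8018380182801807055d7883d8017d74b52745787c5397c5387c537801757c5367c53580171801708016e8016d7054f788328016974b42745647c52e745617c52c7c52b8015f7c52a7c5298015b8015a80159801578015678826745517c5237c5227c5218014d7c5208014b8014a80148801477881e74b28745417c51b7453e7c5197c5188013c8013b8013a7053378816745347c5137c51280131801308012f8012d7881074517745277c50d7c50c8012580124745117451f7c5097c5088011d8011c8011a788077c50580115801147450b7c5038010f8010e7c5028010a7c501801068010400000)))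
noncomputable def eM_p : BT (Bx Nat) := (BT.leaf (Bx.mk (nat_lit 0x2a748a9b2663889892661879852661099831e600797d1e5f0897b225e879771e1d07873261c89871261c4786e261b4986d1e1b0886b221a478682219c88662219878632218888621e184986026178885e1e174785c2616c985b1e16898591e16088572615c78561e154885422150785322148785125d4087501dd3c774e25d34974d1dd30974b25d2c774a1dd24874825d2077471dd18874521d14774421d0c87431dd08774125d00873f21cfc773e25cf4973c25cf0773b25ce8973a1dce4873821cdc87371d8d88635218d47634258cc7632258c496311d8c0962f258bc762e218b4762c218ac862b1d8a88629218a476281d89c96262589496251d890762321488852121484752021480751f25478951d25474751c25470751b2146875192146085181d45c75162545495151d05074132104884121d04474102503c940f1d038940e1d034840c21030740b24c28930a1cc24830820c20730724c1893061cc1483051c81092041c80c82031c8089202204049101204047000000000)))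
noncomputable def eM_e0 : BT Nat := (BT.node (nat_lit 67) (BT.leaf (nat_lit 524290)) (BT.node (nat_lit 69) (BT.leaf (nat_lit 262146)) (BT.leaf (nat_lit 2))))
noncomputable def eM_e : BT Nat := eM_e0
noncomputable def eM_cols : List (BT (Bx Nat)) := [eM_c0, eM_c1, eM_c2, eM_c3, eM_c4, eM_c5, eM_c6, eM_c7, eM_c8, eM_c9]
noncomputable def eM_ch (x j : Nat) : Bx Nat := chunkG eM_cols (nat_lit 1) x j
noncomputable def eM_L (x : Nat) : Bx (Nat → Nat) := lookG eM_ch (nat_lit 8) (nat_lit 255) (nat_lit 20) (nat_lit 1048575) x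
noncomputable def eM_pc (_ j : Nat) : Bx Nat := eM_p.get j
noncomputable def eM_pb : Bx (Nat → Nat) := lookG eM_pc (nat_lit 8) (nat_lit 255) (nat_lit 18) (nat_lit 262143) (nat_lit 0)
noncomputable def eM_rots : BT CW := (BT.node (nat_lit 22) (BT.node (nat_lit 11) (BT.node (nat_lit 5) (BT.node (nat_lit 2) (BT.node (nat_lit 1) (BT.leaf ⟨[], (nat_lit 1000000), (nat_lit 0), (nat_lit 0), (nat_lit 0)⟩) (BT.leaf ⟨[], (nat_lit 1000000), (nat_lit 0), (nat_lit 0), (nat_lit 1)⟩)) (BT.node (nat_lit 3) (BT.leaf ⟨[], (nat_lit 1000000), (nat_lit 0), (nat_lit 0), (nat_lit 2)⟩) (BT.node (nat_lit 4) (BT.leaf ⟨[(nat_lit 7), (nat_lit 7)], (nat_lit 6), (nat_lit 0), (nat_lit 0), (nat_lit 3)⟩) (BT.leaf ⟨[(nat_lit 9), (nat_lit 8)], (nat_lit 16), (nat_lit 1), (nat_lit 0), (nat_lit 3)⟩)))) (BT.node (nat_lit 8) (BT.node (nat_lit 6) (BT.leaf ⟨[(nat_lit 8), (nat_lit 9)], (nat_lit 16), (nat_lit 0), (nat_lit 0), (nat_lit 3)⟩) (BT.node (nat_lit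 7) (BT.leaf ⟨[(nat_lit 8), (nat_lit 7), (nat_lit 8), (nat_lit 7), (nat_lit 8), (nat_lit 7)], (nat_lit 8), (nat_lit 0), (nat_lit 0), (nat_lit 3)⟩) (BT.leaf ⟨[(nat_lit 9), (nat_lit 7), (nat_lit 9), (nat_lit 7), (nat_lit 9), (nat_lit 7)], (nat_lit 29), (nat_lit 1), (nat_lit 0), (nat_lit 3)⟩))) (BT.node (nat_lit 9) (BT.leaf ⟨[(nat_lit 8), (nat_lit 8), (nat_lit 8), (nat_lit 8), (nat_lit 8), (nat_lit 8), (nat_lit 8)], (nat_lit 7), (nat_lit 0), (nat_lit 0), (nat_lit 3)⟩) (BT.node (nat_lit 10) (BT.leaf ⟨[(nat_lit 7), (nat_lit 8), (nat_lit 7), (nat_lit 8), (nat_lit 7), (nat_lit 8)], (nat_lit 8), (nat_lit 1), (nat_lit 0), (nat_lit 3)⟩) (BT.leaf ⟨[(nat_lit 9), (nat_lit 9), (nat_lit 9), (nat_lit 9), (nat_lit 9), (nat_lit 9), (nat_lit 9)], (nat_lit 28), (nat_lit 0), (nat_lit 0), (nat_lit 3)⟩))))) (BT.node (nat_lit 16) (BT.node (nat_lit 13) (BT.node (nat_lit 12) (BT.leaf ⟨[(nat_lit 7), (nat_lit 9), (nat_lit 7), (nat_lit 9),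 (nat_lit 7), (nat_lit 9)], (nat_lit 29), (nat_lit 0), (nat_lit 0), (nat_lit 3)⟩) (BT.leaf ⟨[(nat_lit 7), (nat_lit 9), (nat_lit 7), (nat_lit 8), (nat_lit 7), (nat_lit 9), (nat_lit 7), (nat_lit 8), (nat_lit 7), (nat_lit 9), (nat_lit 7), (nat_lit 8), (nat_lit 7), (nat_lit 9), (nat_lit 7), (nat_lit 8)], (nat_lit 9), (nat_lit 1), (nat_lit 0), (nat_lit 3)⟩)) (BT.node (nat_lit 14) (BT.leaf ⟨[(nat_lit 7), (nat_lit 8), (nat_lit 7), (nat_lit 9), (nat_lit 7), (nat_lit 8), (nat_lit 7), (nat_lit 9), (nat_lit 7), (nat_lit 8), (nat_lit 7), (nat_lit 9), (nat_lit 7), (nat_lit 8), (nat_lit 7), (nat_lit 9)], (nat_lit 9), (nat_lit 3), (nat_lit 0), (nat_lit 3)⟩) (BT.node (nat_lit 15) (BT.leaf ⟨[(nat_lit 8), (nat_lit 7), (nat_lit 9), (nat_lit 7), (nat_lit 8), (nat_lit 7), (nat_lit 9), (nat_lit 7), (nat_lit 8), (nat_lit 7), (nat_lit 9), (nat_lit 7), (nat_lit 8), (nat_lit 7), (nat_lit 9), (nat_lit 7)], (nat_lit 9), (nat_lit 0), (nat_lit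 0), (nat_lit 3)⟩) (BT.leaf ⟨[(nat_lit 9), (nat_lit 7), (nat_lit 8), (nat_lit 7), (nat_lit 9), (nat_lit 7), (nat_lit 8), (nat_lit 7), (nat_lit 9), (nat_lit 7), (nat_lit 8), (nat_lit 7), (nat_lit 9), (nat_lit 7), (nat_lit 8), (nat_lit 7)], (nat_lit 9), (nat_lit 2), (nat_lit 0), (nat_lit 3)⟩)))) (BT.node (nat_lit 19) (BT.node (nat_lit 17) (BT.leaf ⟨[(nat_lit 6), (nat_lit 5)], (nat_lit 18), (nat_lit 1), (nat_lit 0), (nat_lit 3)⟩) (BT.node (nat_lit 18) (BT.leaf ⟨[(nat_lit 4), (nat_lit 3)], (nat_lit 19), (nat_lit 1), (nat_lit 0), (nat_lit 3)⟩) (BT.leaf ⟨[(nat_lit 2), (nat_lit 1)], (nat_lit 20), (nat_lit 1), (nat_lit 0), (nat_lit 3)⟩))) (BT.node (nat_lit 20) (BT.leaf ⟨[(nat_lit 4), (nat_lit 9), (nat_lit 5), (nat_lit 8)], (nat_lit 32), (nat_lit 2), (nat_lit 0), (nat_lit 3)⟩) (BT.node (nat_lit 21) (BT.leaf ⟨[(nat_lit 3), (nat_lit 4)], (nat_lit 19), (nat_lit 0), (nat_lit 0), (nat_lit 3)⟩) (BT.leaf ⟨[(nat_lit 2), (nat_lit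 9), (nat_lit 3), (nat_lit 8)], (nat_lit 31), (nat_lit 2), (nat_lit 0), (nat_lit 3)⟩)))))) (BT.node (nat_lit 33) (BT.node (nat_lit 27) (BT.node (nat_lit 24) (BT.node (nat_lit 23) (BT.leaf ⟨[(nat_lit 1), (nat_lit 2)], (nat_lit 20), (nat_lit 0), (nat_lit 0), (nat_lit 3)⟩) (BT.leaf ⟨[(nat_lit 6), (nat_lit 8), (nat_lit 3), (nat_lit 9)], (nat_lit 11), (nat_lit 3), (nat_lit 0), (nat_lit 3)⟩)) (BT.node (nat_lit 25) (BT.leaf ⟨[(nat_lit 5), (nat_lit 6)], (nat_lit 18), (nat_lit 0), (nat_lit 0), (nat_lit 3)⟩) (BT.node (nat_lit 26) (BT.leaf ⟨[(nat_lit 4), (nat_lit 8), (nat_lit 1), (nat_lit 9)], (nat_lit 10), (nat_lit 3), (nat_lit 0), (nat_lit 3)⟩) (BT.leaf ⟨[(nat_lit 2), (nat_lit 7), (nat_lit 1), (nat_lit 7)], (nat_lit 13), (nat_lit 3), (nat_lit 0), (nat_lit 3)⟩)))) (BT.node (nat_lit 30) (BT.node (nat_lit 28) (BT.leaf ⟨[(nat_lit 1), (nat_lit 9), (nat_lit 4), (nat_lit 8)], (nat_lit 10), (nat_lit 1), (nat_lit 0), (nat_lit 3)⟩)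 (BT.node (nat_lit 29) (BT.leaf ⟨[(nat_lit 1), (nat_lit 7), (nat_lit 2), (nat_lit 7)], (nat_lit 13), (nat_lit 1), (nat_lit 0), (nat_lit 3)⟩) (BT.leaf ⟨[(nat_lit 5), (nat_lit 8), (nat_lit 4), (nat_lit 9)], (nat_lit 32), (nat_lit 0), (nat_lit 0), (nat_lit 3)⟩))) (BT.node (nat_lit 31) (BT.leaf ⟨[(nat_lit 3), (nat_lit 8), (nat_lit 2), (nat_lit 9)], (nat_lit 31), (nat_lit 0), (nat_lit 0), (nat_lit 3)⟩) (BT.node (nat_lit 32) (BT.leaf ⟨[(nat_lit 2), (nat_lit 8), (nat_lit 5), (nat_lit 9), (nat_lit 6), (nat_lit 4), (nat_lit 4)], (nat_lit 12), (nat_lit 6), (nat_lit 0), (nat_lit 3)⟩) (BT.leaf ⟨[(nat_lit 6), (nat_lit 9), (nat_lit 1), (nat_lit 3), (nat_lit 3), (nat_lit 5), (nat_lit 8)], (nat_lit 33), (nat_lit 5), (nat_lit 0), (nat_lit 3)⟩))))) (BT.node (nat_lit 39) (BT.node (nat_lit 36) (BT.node (nat_lit 34) (BT.leaf ⟨[(nat_lit 4), (nat_lit 7), (nat_lit 1), (nat_lit 3), (nat_lit 5), (nat_lit 5), (nat_lit 7)], (nat_lit 35), (nat_lit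 5), (nat_lit 0), (nat_lit 3)⟩) (BT.node (nat_lit 35) (BT.leaf ⟨[(nat_lit 6), (nat_lit 4), (nat_lit 4), (nat_lit 2), (nat_lit 7), (nat_lit 5), (nat_lit 7)], (nat_lit 15), (nat_lit 3), (nat_lit 0), (nat_lit 3)⟩) (BT.leaf ⟨[(nat_lit 3), (nat_lit 9), (nat_lit 6), (nat_lit 8)], (nat_lit 11), (nat_lit 1), (nat_lit 0), (nat_lit 3)⟩))) (BT.node (nat_lit 37) (BT.leaf ⟨[(nat_lit 5), (nat_lit 9), (nat_lit 6), (nat_lit 4), (nat_lit 4), (nat_lit 2), (nat_lit 8)], (nat_lit 12), (nat_lit 1), (nat_lit 0), (nat_lit 3)⟩) (BT.node (nat_lit 38) (BT.leaf ⟨[(nat_lit 3), (nat_lit 7), (nat_lit 6), (nat_lit 6), (nat_lit 4), (nat_lit 2), (nat_lit 7)], (nat_lit 14), (nat_lit 1), (nat_lit 0), (nat_lit 3)⟩) (BT.leaf ⟨[(nat_lit 5), (nat_lit 7), (nat_lit 6), (nat_lit 4), (nat_lit 4), (nat_lit 2), (nat_lit 7)], (nat_lit 15), (nat_lit 1), (nat_lit 0), (nat_lit 3)⟩)))) (BT.node (nat_lit 42) (BT.node (nat_lit 40) (BT.leaf ⟨[(nat_lit 1), (nat_lit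 3), (nat_lit 3), (nat_lit 5), (nat_lit 8), (nat_lit 6), (nat_lit 9)], (nat_lit 33), (nat_lit 0), (nat_lit 0), (nat_lit 3)⟩) (BT.node (nat_lit 41) (BT.leaf ⟨[(nat_lit 6), (nat_lit 7), (nat_lit 1), (nat_lit 3), (nat_lit 3), (nat_lit 5), (nat_lit 7)], (nat_lit 36), (nat_lit 5), (nat_lit 0), (nat_lit 3)⟩) (BT.leaf ⟨[(nat_lit 1), (nat_lit 3), (nat_lit 3), (nat_lit 5), (nat_lit 7), (nat_lit 6), (nat_lit 7)], (nat_lit 36), (nat_lit 0), (nat_lit 0), (nat_lit 3)⟩))) (BT.node (nat_lit 43) (BT.leaf ⟨[(nat_lit 2), (nat_lit 7), (nat_lit 5), (nat_lit 7), (nat_lit 6), (nat_lit 4), (nat_lit 4)], (nat_lit 15), (nat_lit 6), (nat_lit 0), (nat_lit 3)⟩) (BT.node (nat_lit 44) (BT.leaf ⟨[(nat_lit 1), (nat_lit 3), (nat_lit 5), (nat_lit 5), (nat_lit 7), (nat_lit 4), (nat_lit 7)], (nat_lit 35), (nat_lit 0), (nat_lit 0), (nat_lit 3)⟩) (BT.leaf ⟨[(nat_lit 2), (nat_lit 7), (nat_lit 3), (nat_lit 7), (nat_lit 6), (nat_lit 6), (nat_lit 4)], (nat_lit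 14), (nat_lit 6), (nat_lit 0), (nat_lit 3)⟩)))))))
noncomputable def eM_hcs : List CW := [⟨[(nat_lit 5)], (nat_lit 0), (nat_lit 0), (nat_lit 0), (nat_lit 0)⟩, ⟨[(nat_lit 3)], (nat_lit 1), (nat_lit 0), (nat_lit 0), (nat_lit 0)⟩, ⟨[(nat_lit 1)], (nat_lit 2), (nat_lit 0), (nat_lit 0), (nat_lit 0)⟩, ⟨[(nat_lit 6)], (nat_lit 3), (nat_lit 0), (nat_lit 0), (nat_lit 0)⟩, ⟨[(nat_lit 4)], (nat_lit 4), (nat_lit 0), (nat_lit 0), (nat_lit 0)⟩, ⟨[(nat_lit 2)], (nat_lit 5), (nat_lit 0), (nat_lit 0), (nat_lit 0)⟩]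
noncomputable def eM_H (x j : Nat) : Bx (Nat → Nat → Nat) := mkH eM_L eM_pb.1 eM_e.get (lmap CW.w eM_hcs) (nat_lit 168) (nat_lit 169) (nat_lit 10) (nat_lit 256) (nat_lit 16384) (nat_lit 16383) x (eM_rots.get j)
noncomputable def eM_F (x b : Nat) : Bool := blkOK eM_H eM_ch (nat_lit 169) (nat_lit 256) (nat_lit 64) (nat_lit 8) (nat_lit 255) (nat_lit 20) (nat_lit 1048575) x b

theorem eM_k0_0 : allFrom (eM_F (nat_lit 0)) (nat_lit 0) (nat_lit 4) = true := by decide +kernel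
theorem eM_k1_0 : allFrom (eM_F (nat_lit 1)) (nat_lit 0) (nat_lit 4) = true := by decide +kernel
theorem eM_k2_0 : allFrom (eM_F (nat_lit 2)) (nat_lit 0) (nat_lit 4) = true := by decide +kernel
theorem eM_k3_0 : allFrom (eM_F (nat_lit 3)) (nat_lit 0) (nat_lit 4) = true := by decide +kernel
theorem eM_k4_0 : allFrom (eM_F (nat_lit 4)) (nat_lit 0) (nat_lit 4) = true := by decide +kernel
theorem eM_k5_0 : allFrom (eM_F (nat_lit 5)) (nat_lit 0) (nat_lit 4) = true := by decide +kernel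
theorem eM_k6_0 : allFrom (eM_F (nat_lit 6)) (nat_lit 0) (nat_lit 4) = true := by decide +kernel
theorem eM_k7_0 : allFrom (eM_F (nat_lit 7)) (nat_lit 0) (nat_lit 4) = true := by decide +kernel
theorem eM_k8_0 : allFrom (eM_F (nat_lit 8)) (nat_lit 0) (nat_lit 4) = true := by decide +kernel
theorem eM_k9_0 : allFrom (eM_F (nat_lit 9)) (nat_lit 0) (nat_lit 4) = true := by decide +kernel
noncomputable def eP_c0 : BT (Bx Nat) := (BT.leaf (Bx.mk (nat_lit 0x0)))
noncomputable def eP_c1 : BT (Bx Nat) := (BT.leaf (Bx.mk (nat_lit 0x3298652eca5994abb346526eb49d58ba90855eea39d46ba8c75170caa554cac8850f0a1a142d2c4a5472a0b0308000)))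
noncomputable def eP_c2 : BT (Bx Nat) := (BT.leaf (Bx.mk (nat_lit 0x3af874eeebd9d8ab21475e6c849908c270741f0c3a176c2ec8616e82a104c20894cf2c1a572ca049407498ad008000)))
noncomputable def eP_c3 : BT (Bx Nat) := (BT.leaf (Bx.mk (nat_lit 0x341814ae705852a9c3448266f48d28b250549e6939126bc0c4496b0aa124bbc8684ee91a602d3c49487290b0308000)))
noncomputable def eP_c4 : BT (Bx Nat) := (BT.leaf (Bx.mk (nat_lit 0x29f8246e47d891a91f433e647c9118bb50645e92b9516b1ec595687aa514b1e853cf129a0f2c9e4a4474d0acf08000)))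
noncomputable def eP_c5 : BT (Bx Nat) := (BT.leaf (Bx.mk (nat_lit 0x2c98272e52589ca9c54492674489c8b390471e6e39246ac8c5716b12a1c4ab88688ece19e42cb8487470e0b0308000)))
noncomputable def eP_c6 : BT (Bx Nat) := (BT.leaf (Bx.mk (nat_lit 0x21d839ee2758dfa91d433a64748e68bcf0599e8fb8ce6a1cc67d6872a664b468538eef998e2d3e473872d8ace08000)))
noncomputable def eP_c7 : BT (Bx Nat) := (BT.leaf (Bx.mk (nat_lit 0x2095b11f03cd47c588c712d43ae8a6d889c06f43a2448e03491256217018488eb10743930154886c04f62070110000)))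
noncomputable def eP_c8 : BT (Bx Nat) := (BT.leaf (Bx.mk (nat_lit 0x58b0616562ba0da38b5b156e5dec556038b15180dac53d8a6c06780c6c52602fc05b80b2c516029b14380970118000)))
noncomputable def eP_c9 : BT (Bx Nat) := (BT.leaf (Bx.mk (nat_lit 0x311181a10352c66c996a219632946c4937a213631f01ac8d3b18b80ca467d8c3c05d630b015d8c1c051809b0120000)))
noncomputable def eP_p : BT (Bx Nat) := (BT.leaf (Bx.mk (nat_lit 0x24088f1e3888d263078b222898a21a4768219c96721988652594744210c9431d089422084921208470000000)))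
noncomputable def eP_e0 : BT Nat := (BT.node (nat_lit 67) (BT.leaf (nat_lit 524290)) (BT.node (nat_lit 69) (BT.leaf (nat_lit 262146)) (BT.leaf (nat_lit 2))))
noncomputable def eP_e : BT Nat := eP_e0
noncomputable def eP_cols : List (BT (Bx Nat)) := [eP_c0, eP_c1, eP_c2, eP_c3, eP_c4, eP_c5, eP_c6, eP_c7, eP_c8, eP_c9]
noncomputable def eP_ch (x j : Nat) : Bx Nat := chunkG eP_cols (nat_lit 1) x j
noncomputable def eP_L (x : Nat) : Bx (Nat → Nat) := lookG eP_ch (nat_lit 8) (nat_lit 255) (nat_lit 15) (nat_lit 32767) x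
noncomputable def eP_pc (_ j : Nat) : Bx Nat := eP_p.get j
noncomputable def eP_pb : Bx (Nat → Nat) := lookG eP_pc (nat_lit 8) (nat_lit 255) (nat_lit 14) (nat_lit 16383) (nat_lit 0)
noncomputable def eP_rots : BT CW := (BT.node (nat_lit 20) (BT.node (nat_lit 10) (BT.node (nat_lit 5) (BT.node (nat_lit 2) (BT.node (nat_lit 1) (BT.leaf ⟨[], (nat_lit 1000000), (nat_lit 0), (nat_lit 0), (nat_lit 0)⟩) (BT.leaf ⟨[], (nat_lit 1000000), (nat_lit 0), (nat_lit 0), (nat_lit 1)⟩)) (BT.node (nat_lit 3) (BT.leaf ⟨[], (nat_lit 1000000), (nat_lit 0), (nat_lit 0), (nat_lit 2)⟩) (BT.node (nat_lit 4) (BT.leaf ⟨[(nat_lit 7), (nat_lit 7)], (nat_lit 6), (nat_lit 0), (nat_lit 0), (nat_lit 3)⟩) (BT.leaf ⟨[(nat_lit 8), (nat_lit 8)], (nat_lit 7), (nat_lit 0), (nat_lit 0), (nat_lit 3)⟩)))) (BT.node (nat_lit 7) (BT.node (nat_lit 6) (BT.leaf ⟨[(nat_lit 9), (nat_lit 9)], (nat_lit 8), (nat_lit 0), (nat_lit 0), (nat_lit 3)⟩) (BT.leaf ⟨[(nat_lit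 7), (nat_lit 9), (nat_lit 7), (nat_lit 9)], (nat_lit 20), (nat_lit 0), (nat_lit 0), (nat_lit 3)⟩)) (BT.node (nat_lit 8) (BT.leaf ⟨[(nat_lit 9), (nat_lit 8), (nat_lit 9), (nat_lit 8), (nat_lit 9), (nat_lit 8)], (nat_lit 9), (nat_lit 1), (nat_lit 0), (nat_lit 3)⟩) (BT.node (nat_lit 9) (BT.leaf ⟨[(nat_lit 9), (nat_lit 7), (nat_lit 9), (nat_lit 7)], (nat_lit 20), (nat_lit 1), (nat_lit 0), (nat_lit 3)⟩) (BT.leaf ⟨[(nat_lit 7), (nat_lit 8), (nat_lit 7), (nat_lit 8), (nat_lit 7), (nat_lit 8), (nat_lit 7), (nat_lit 8)], (nat_lit 10), (nat_lit 0), (nat_lit 0), (nat_lit 3)⟩))))) (BT.node (nat_lit 15) (BT.node (nat_lit 12) (BT.node (nat_lit 11) (BT.leaf ⟨[(nat_lit 8), (nat_lit 9), (nat_lit 7), (nat_lit 8), (nat_lit 9), (nat_lit 7), (nat_lit 8), (nat_lit 9), (nat_lit 7)], (nat_lit 21), (nat_lit 1), (nat_lit 0), (nat_lit 3)⟩) (BT.leaf ⟨[(nat_lit 9), (nat_lit 8), (nat_lit 7), (nat_lit 9), (nat_lit 8), (nat_lit 7), (nat_lit 9),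 (nat_lit 8), (nat_lit 7)], (nat_lit 49), (nat_lit 0), (nat_lit 0), (nat_lit 3)⟩)) (BT.node (nat_lit 13) (BT.leaf ⟨[(nat_lit 8), (nat_lit 9), (nat_lit 8), (nat_lit 9), (nat_lit 8), (nat_lit 9)], (nat_lit 9), (nat_lit 0), (nat_lit 0), (nat_lit 3)⟩) (BT.node (nat_lit 14) (BT.leaf ⟨[(nat_lit 6), (nat_lit 5)], (nat_lit 25), (nat_lit 1), (nat_lit 0), (nat_lit 3)⟩) (BT.leaf ⟨[(nat_lit 4), (nat_lit 3)], (nat_lit 26), (nat_lit 1), (nat_lit 0), (nat_lit 3)⟩)))) (BT.node (nat_lit 17) (BT.node (nat_lit 16) (BT.leaf ⟨[(nat_lit 2), (nat_lit 1)], (nat_lit 27), (nat_lit 1), (nat_lit 0), (nat_lit 3)⟩) (BT.leaf ⟨[(nat_lit 4), (nat_lit 8), (nat_lit 3), (nat_lit 8)], (nat_lit 15), (nat_lit 3), (nat_lit 0), (nat_lit 3)⟩)) (BT.node (nat_lit 18) (BT.leaf ⟨[(nat_lit 3), (nat_lit 4)], (nat_lit 26), (nat_lit 0), (nat_lit 0), (nat_lit 3)⟩) (BT.node (nat_lit 19) (BT.leaf ⟨[(nat_lit 2), (nat_lit 7), (nat_lit 1), (nat_lit 7)], (nat_lit 11),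 (nat_lit 3), (nat_lit 0), (nat_lit 3)⟩) (BT.leaf ⟨[(nat_lit 1), (nat_lit 2)], (nat_lit 27), (nat_lit 0), (nat_lit 0), (nat_lit 3)⟩)))))) (BT.node (nat_lit 30) (BT.node (nat_lit 25) (BT.node (nat_lit 22) (BT.node (nat_lit 21) (BT.leaf ⟨[(nat_lit 1), (nat_lit 8), (nat_lit 1), (nat_lit 8)], (nat_lit 14), (nat_lit 1), (nat_lit 0), (nat_lit 3)⟩) (BT.leaf ⟨[(nat_lit 1), (nat_lit 9), (nat_lit 1), (nat_lit 9)], (nat_lit 17), (nat_lit 1), (nat_lit 0), (nat_lit 3)⟩)) (BT.node (nat_lit 23) (BT.leaf ⟨[(nat_lit 2), (nat_lit 8), (nat_lit 2), (nat_lit 8)], (nat_lit 42), (nat_lit 0), (nat_lit 0), (nat_lit 3)⟩) (BT.node (nat_lit 24) (BT.leaf ⟨[(nat_lit 2), (nat_lit 9), (nat_lit 2), (nat_lit 9)], (nat_lit 45), (nat_lit 0), (nat_lit 0), (nat_lit 3)⟩) (BT.leaf ⟨[(nat_lit 1), (nat_lit 7), (nat_lit 2), (nat_lit 7)], (nat_lit 11), (nat_lit 1), (nat_lit 0), (nat_lit 3)⟩)))) (BT.node (nat_lit 27) (BT.node (nat_lit 26) (BT.leaf ⟨[(nat_lit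 4), (nat_lit 7), (nat_lit 1), (nat_lit 3), (nat_lit 5), (nat_lit 5), (nat_lit 7)], (nat_lit 40), (nat_lit 5), (nat_lit 0), (nat_lit 3)⟩) (BT.leaf ⟨[(nat_lit 6), (nat_lit 4), (nat_lit 4), (nat_lit 2), (nat_lit 7), (nat_lit 5), (nat_lit 7)], (nat_lit 13), (nat_lit 3), (nat_lit 0), (nat_lit 3)⟩)) (BT.node (nat_lit 28) (BT.leaf ⟨[(nat_lit 5), (nat_lit 6)], (nat_lit 25), (nat_lit 0), (nat_lit 0), (nat_lit 3)⟩) (BT.node (nat_lit 29) (BT.leaf ⟨[(nat_lit 5), (nat_lit 4), (nat_lit 2), (nat_lit 2), (nat_lit 8), (nat_lit 5), (nat_lit 8)], (nat_lit 16), (nat_lit 3), (nat_lit 0), (nat_lit 3)⟩) (BT.leaf ⟨[(nat_lit 3), (nat_lit 9), (nat_lit 5), (nat_lit 4), (nat_lit 4), (nat_lit 1), (nat_lit 9)], (nat_lit 18), (nat_lit 1), (nat_lit 0), (nat_lit 3)⟩))))) (BT.node (nat_lit 35) (BT.node (nat_lit 32) (BT.node (nat_lit 31) (BT.leaf ⟨[(nat_lit 6), (nat_lit 9), (nat_lit 2), (nat_lit 4), (nat_lit 5), (nat_lit 5), (nat_lit 9)], (nat_lit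 47), (nat_lit 5), (nat_lit 0), (nat_lit 3)⟩) (BT.leaf ⟨[(nat_lit 3), (nat_lit 8), (nat_lit 4), (nat_lit 8)], (nat_lit 15), (nat_lit 1), (nat_lit 0), (nat_lit 3)⟩)) (BT.node (nat_lit 33) (BT.leaf ⟨[(nat_lit 3), (nat_lit 7), (nat_lit 6), (nat_lit 6), (nat_lit 4), (nat_lit 2), (nat_lit 7)], (nat_lit 12), (nat_lit 1), (nat_lit 0), (nat_lit 3)⟩) (BT.node (nat_lit 34) (BT.leaf ⟨[(nat_lit 5), (nat_lit 7), (nat_lit 6), (nat_lit 4), (nat_lit 4), (nat_lit 2), (nat_lit 7)], (nat_lit 13), (nat_lit 1), (nat_lit 0), (nat_lit 3)⟩) (BT.leaf ⟨[(nat_lit 6), (nat_lit 9), (nat_lit 4), (nat_lit 9), (nat_lit 2), (nat_lit 3), (nat_lit 3)], (nat_lit 46), (nat_lit 3), (nat_lit 0), (nat_lit 3)⟩)))) (BT.node (nat_lit 37) (BT.node (nat_lit 36) (BT.leaf ⟨[(nat_lit 5), (nat_lit 8), (nat_lit 5), (nat_lit 4), (nat_lit 2), (nat_lit 2), (nat_lit 8)], (nat_lit 16), (nat_lit 1), (nat_lit 0), (nat_lit 3)⟩) (BT.leaf ⟨[(nat_lit 4), (nat_lit 9), (nat_lit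 2), (nat_lit 3), (nat_lit 3), (nat_lit 6), (nat_lit 9)], (nat_lit 46), (nat_lit 5), (nat_lit 0), (nat_lit 3)⟩)) (BT.node (nat_lit 38) (BT.leaf ⟨[(nat_lit 6), (nat_lit 8), (nat_lit 1), (nat_lit 1), (nat_lit 3), (nat_lit 6), (nat_lit 8)], (nat_lit 44), (nat_lit 5), (nat_lit 0), (nat_lit 3)⟩) (BT.node (nat_lit 39) (BT.leaf ⟨[(nat_lit 6), (nat_lit 7), (nat_lit 1), (nat_lit 3), (nat_lit 3), (nat_lit 5), (nat_lit 7)], (nat_lit 41), (nat_lit 5), (nat_lit 0), (nat_lit 3)⟩) (BT.leaf ⟨[(nat_lit 5), (nat_lit 9), (nat_lit 6), (nat_lit 6), (nat_lit 3), (nat_lit 1), (nat_lit 9)], (nat_lit 19), (nat_lit 1), (nat_lit 0), (nat_lit 3)⟩)))))))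
noncomputable def eP_hcs : List CW := [⟨[(nat_lit 5)], (nat_lit 0), (nat_lit 0), (nat_lit 0), (nat_lit 0)⟩, ⟨[(nat_lit 3)], (nat_lit 1), (nat_lit 0), (nat_lit 0), (nat_lit 0)⟩, ⟨[(nat_lit 1)], (nat_lit 2), (nat_lit 0), (nat_lit 0), (nat_lit 0)⟩, ⟨[(nat_lit 6)], (nat_lit 3), (nat_lit 0), (nat_lit 0), (nat_lit 0)⟩, ⟨[(nat_lit 4)], (nat_lit 4), (nat_lit 0), (nat_lit 0), (nat_lit 0)⟩, ⟨[(nat_lit 2)], (nat_lit 5), (nat_lit 0), (nat_lit 0), (nat_lit 0)⟩]
noncomputable def eP_H (x j : Nat) : Bx (Nat → Nat → Nat) := mkH eP_L eP_pb.1 eP_e.get (lmap CW.w eP_hcs) (nat_lit 24) (nat_lit 25) (nat_lit 10) (nat_lit 32) (nat_lit 2048) (nat_lit 2047) x (eP_rots.get j)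
noncomputable def eP_F (x b : Nat) : Bool := blkOK eP_H eP_ch (nat_lit 25) (nat_lit 32) (nat_lit 64) (nat_lit 8) (nat_lit 255) (nat_lit 15) (nat_lit 32767) x b

theorem eP_k0_0 : allFrom (eP_F (nat_lit 0)) (nat_lit 0) (nat_lit 4) = true := by decide +kernel
theorem eP_k1_0 : allFrom (eP_F (nat_lit 1)) (nat_lit 0) (nat_lit 4) = true := by decide +kernel
theorem eP_k2_0 : allFrom (eP_F (nat_lit 2)) (nat_lit 0) (nat_lit 4) = true := by decide +kernel
theorem eP_k3_0 : allFrom (eP_F (nat_lit 3)) (nat_lit 0) (nat_lit 4) = true := by decide +kernel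
theorem eP_k4_0 : allFrom (eP_F (nat_lit 4)) (nat_lit 0) (nat_lit 4) = true := by decide +kernel
theorem eP_k5_0 : allFrom (eP_F (nat_lit 5)) (nat_lit 0) (nat_lit 4) = true := by decide +kernel
theorem eP_k6_0 : allFrom (eP_F (nat_lit 6)) (nat_lit 0) (nat_lit 4) = true := by decide +kernel
theorem eP_k7_0 : allFrom (eP_F (nat_lit 7)) (nat_lit 0) (nat_lit 4) = true := by decide +kernel
theorem eP_k8_0 : allFrom (eP_F (nat_lit 8)) (nat_lit 0) (nat_lit 4) = true := by decide +kernel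
theorem eP_k9_0 : allFrom (eP_F (nat_lit 9)) (nat_lit 0) (nat_lit 4) = true := by decide +kernel
noncomputable def eH_c0 : BT (Bx Nat) := (BT.leaf (Bx.mk (nat_lit 0x0)))
noncomputable def eH_c1 : BT (Bx Nat) := (BT.leaf (Bx.mk (nat_lit 0x78d77c77b962b19000)))
noncomputable def eH_c2 : BT (Bx Nat) := (BT.leaf (Bx.mk (nat_lit 0x64d88487384aa49000)))
noncomputable def eH_c3 : BT (Bx Nat) := (BT.leaf (Bx.mk (nat_lit 0x744845992b0bb19000)))
noncomputable def eH_c4 : BT (Bx Nat) := (BT.leaf (Bx.mk (nat_lit 0x93c83da2a82ba29000)))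
noncomputable def eH_c5 : BT (Bx Nat) := (BT.leaf (Bx.mk (nat_lit 0x4b34b2b0db0cb19000)))
noncomputable def eH_c6 : BT (Bx Nat) := (BT.leaf (Bx.mk (nat_lit 0xa33a325bd5aca31000)))
noncomputable def eH_c7 : BT (Bx Nat) := (BT.leaf (Bx.mk (nat_lit 0x3fd6fc4f37eab19000)))
noncomputable def eH_c8 : BT (Bx Nat) := (BT.leaf (Bx.mk (nat_lit 0x3c42cd86b95ab19000)))
noncomputable def eH_c9 : BT (Bx Nat) := (BT.leaf (Bx.mk (nat_lit 0x59d69b5a4952b19000)))
noncomputable def eH_c10 : BT (Bx Nat) := (BT.leaf (Bx.mk (nat_lit 0x1e54dc7d3a21b0a000)))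
noncomputable def eH_p : BT (Bx Nat) := (BT.leaf (Bx.mk (nat_lit 0x362c8590692800000)))
noncomputable def eH_e0 : BT Nat := (BT.node (nat_lit 71) (BT.node (nat_lit 67) (BT.leaf (nat_lit 1310722)) (BT.node (nat_lit 69) (BT.leaf (nat_lit 1048578)) (BT.leaf (nat_lit 786434)))) (BT.node (nat_lit 72) (BT.leaf (nat_lit 524290)) (BT.node (nat_lit 73) (BT.leaf (nat_lit 262146)) (BT.leaf (nat_lit 2)))))
noncomputable def eH_e : BT Nat := eH_e0
noncomputable def eH_cols : List (BT (Bx Nat)) := [eH_c0, eH_c1, eH_c2, eH_c3, eH_c4, eH_c5, eH_c6, eH_c7, eH_c8, eH_c9, eH_c10]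
noncomputable def eH_ch (x j : Nat) : Bx Nat := chunkG eH_cols (nat_lit 1) x j
noncomputable def eH_L (x : Nat) : Bx (Nat → Nat) := lookG eH_ch (nat_lit 8) (nat_lit 255) (nat_lit 12) (nat_lit 4095) x
noncomputable def eH_pc (_ j : Nat) : Bx Nat := eH_p.get j
noncomputable def eH_pb : Bx (Nat → Nat) := lookG eH_pc (nat_lit 8) (nat_lit 255) (nat_lit 11) (nat_lit 2047) (nat_lit 0)
noncomputable def eH_rots : BT CW := (BT.node (nat_lit 15) (BT.node (nat_lit 7) (BT.node (nat_lit 3) (BT.node (nat_lit 1) (BT.leaf ⟨[], (nat_lit 1000000), (nat_lit 0), (nat_lit 0), (nat_lit 0)⟩) (BT.node (nat_lit 2) (BT.leaf ⟨[], (nat_lit 1000000), (nat_lit 0), (nat_lit 0), (nat_lit 1)⟩) (BT.leaf ⟨[], (nat_lit 1000000), (nat_lit 0), (nat_lit 0), (nat_lit 2)⟩))) (BT.node (nat_lit 5) (BT.node (nat_lit 4) (BT.leaf ⟨[(nat_lit 10), (nat_lit 10)], (nat_lit 22), (nat_lit 0), (nat_lit 0), (nat_lit 3)⟩) (BT.leaf ⟨[(nat_lit 4), (nat_lit 3)], (nat_lit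 35), (nat_lit 1), (nat_lit 0), (nat_lit 3)⟩)) (BT.node (nat_lit 6) (BT.leaf ⟨[(nat_lit 6), (nat_lit 5)], (nat_lit 34), (nat_lit 1), (nat_lit 0), (nat_lit 3)⟩) (BT.leaf ⟨[(nat_lit 4), (nat_lit 6), (nat_lit 3), (nat_lit 5)], (nat_lit 5), (nat_lit 2), (nat_lit 0), (nat_lit 3)⟩)))) (BT.node (nat_lit 11) (BT.node (nat_lit 9) (BT.node (nat_lit 8) (BT.leaf ⟨[(nat_lit 3), (nat_lit 4)], (nat_lit 35), (nat_lit 0), (nat_lit 0), (nat_lit 3)⟩) (BT.leaf ⟨[(nat_lit 2), (nat_lit 1)], (nat_lit 36), (nat_lit 1), (nat_lit 0), (nat_lit 3)⟩)) (BT.node (nat_lit 10) (BT.leaf ⟨[(nat_lit 9), (nat_lit 10), (nat_lit 9), (nat_lit 10)], (nat_lit 24), (nat_lit 1), (nat_lit 0), (nat_lit 3)⟩) (BT.leaf ⟨[(nat_lit 8), (nat_lit 10), (nat_lit 8), (nat_lit 10)], (nat_lit 23), (nat_lit 1), (nat_lit 0), (nat_lit 3)⟩))) (BT.node (nat_lit 13) (BT.node (nat_lit 12) (BT.leaf ⟨[(nat_lit 1), (nat_lit 10), (nat_lit 1), (nat_lit 10)], (nat_lit 26), (nat_lit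 1), (nat_lit 0), (nat_lit 3)⟩) (BT.leaf ⟨[(nat_lit 8), (nat_lit 4), (nat_lit 8), (nat_lit 3)], (nat_lit 15), (nat_lit 2), (nat_lit 0), (nat_lit 3)⟩)) (BT.node (nat_lit 14) (BT.leaf ⟨[(nat_lit 2), (nat_lit 4), (nat_lit 1), (nat_lit 3)], (nat_lit 3), (nat_lit 2), (nat_lit 0), (nat_lit 3)⟩) (BT.leaf ⟨[(nat_lit 1), (nat_lit 2)], (nat_lit 36), (nat_lit 0), (nat_lit 0), (nat_lit 3)⟩))))) (BT.node (nat_lit 23) (BT.node (nat_lit 19) (BT.node (nat_lit 17) (BT.node (nat_lit 16) (BT.leaf ⟨[(nat_lit 2), (nat_lit 6), (nat_lit 1), (nat_lit 5)], (nat_lit 4), (nat_lit 2), (nat_lit 0), (nat_lit 3)⟩) (BT.leaf ⟨[(nat_lit 1), (nat_lit 6), (nat_lit 2), (nat_lit 5)], (nat_lit 41), (nat_lit 1), (nat_lit 0), (nat_lit 3)⟩)) (BT.node (nat_lit 18) (BT.leaf ⟨[(nat_lit 3), (nat_lit 10), (nat_lit 8), (nat_lit 7), (nat_lit 8), (nat_lit 7), (nat_lit 10), (nat_lit 3)], (nat_lit 27), (nat_lit 2), (nat_lit 0), (nat_lit 3)⟩) (BT.leaf ⟨[(nat_lit 9),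 (nat_lit 3), (nat_lit 9), (nat_lit 5), (nat_lit 4), (nat_lit 4), (nat_lit 1)], (nat_lit 18), (nat_lit 0), (nat_lit 0), (nat_lit 3)⟩))) (BT.node (nat_lit 21) (BT.node (nat_lit 20) (BT.leaf ⟨[(nat_lit 9), (nat_lit 9)], (nat_lit 8), (nat_lit 0), (nat_lit 0), (nat_lit 3)⟩) (BT.leaf ⟨[(nat_lit 6), (nat_lit 9), (nat_lit 4), (nat_lit 9), (nat_lit 2), (nat_lit 3), (nat_lit 3)], (nat_lit 55), (nat_lit 3), (nat_lit 0), (nat_lit 3)⟩)) (BT.node (nat_lit 22) (BT.leaf ⟨[(nat_lit 5), (nat_lit 6)], (nat_lit 34), (nat_lit 0), (nat_lit 0), (nat_lit 3)⟩) (BT.leaf ⟨[(nat_lit 6), (nat_lit 6), (nat_lit 3), (nat_lit 1), (nat_lit 9), (nat_lit 5), (nat_lit 9)], (nat_lit 19), (nat_lit 3), (nat_lit 0), (nat_lit 3)⟩)))) (BT.node (nat_lit 27) (BT.node (nat_lit 25) (BT.node (nat_lit 24) (BT.leaf ⟨[(nat_lit 8), (nat_lit 5), (nat_lit 8), (nat_lit 5), (nat_lit 4), (nat_lit 2), (nat_lit 2)], (nat_lit 16), (nat_lit 0), (nat_lit 0), (nat_lit 3)⟩)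 (BT.leaf ⟨[(nat_lit 8), (nat_lit 8)], (nat_lit 7), (nat_lit 0), (nat_lit 0), (nat_lit 3)⟩)) (BT.node (nat_lit 26) (BT.leaf ⟨[(nat_lit 10), (nat_lit 4), (nat_lit 8), (nat_lit 10), (nat_lit 4), (nat_lit 8), (nat_lit 10), (nat_lit 4), (nat_lit 8)], (nat_lit 25), (nat_lit 0), (nat_lit 0), (nat_lit 3)⟩) (BT.leaf ⟨[(nat_lit 10), (nat_lit 9), (nat_lit 10), (nat_lit 9)], (nat_lit 24), (nat_lit 0), (nat_lit 0), (nat_lit 3)⟩))) (BT.node (nat_lit 29) (BT.node (nat_lit 28) (BT.leaf ⟨[(nat_lit 10), (nat_lit 8), (nat_lit 10), (nat_lit 8)], (nat_lit 23), (nat_lit 0), (nat_lit 0), (nat_lit 3)⟩) (BT.leaf ⟨[(nat_lit 7), (nat_lit 8), (nat_lit 2), (nat_lit 2), (nat_lit 10), (nat_lit 5), (nat_lit 5), (nat_lit 10), (nat_lit 8)], (nat_lit 28), (nat_lit 5), (nat_lit 0), (nat_lit 3)⟩)) (BT.node (nat_lit 30) (BT.leaf ⟨[(nat_lit 7), (nat_lit 6), (nat_lit 6), (nat_lit 4), (nat_lit 2), (nat_lit 7), (nat_lit 3)], (nat_lit 12), (nat_lit 2),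 (nat_lit 0), (nat_lit 3)⟩) (BT.leaf ⟨[(nat_lit 7), (nat_lit 6), (nat_lit 4), (nat_lit 4), (nat_lit 2), (nat_lit 7), (nat_lit 5)], (nat_lit 13), (nat_lit 2), (nat_lit 0), (nat_lit 3)⟩))))))
noncomputable def eH_hcs : List CW := [⟨[(nat_lit 9)], (nat_lit 0), (nat_lit 0), (nat_lit 0), (nat_lit 0)⟩, ⟨[(nat_lit 8)], (nat_lit 1), (nat_lit 0), (nat_lit 0), (nat_lit 0)⟩, ⟨[(nat_lit 7)], (nat_lit 2), (nat_lit 0), (nat_lit 0), (nat_lit 0)⟩, ⟨[(nat_lit 5)], (nat_lit 3), (nat_lit 0), (nat_lit 0), (nat_lit 0)⟩, ⟨[(nat_lit 3)], (nat_lit 4), (nat_lit 0), (nat_lit 0), (nat_lit 0)⟩, ⟨[(nat_lit 1)], (nat_lit 5), (nat_lit 0), (nat_lit 0), (nat_lit 0)⟩, ⟨[(nat_lit 9)], (nat_lit 6), (nat_lit 0), (nat_lit 0), (nat_lit 0)⟩, ⟨[(nat_lit 8)], (nat_lit 7), (nat_lit 0), (nat_lit 0), (nat_lit 0)⟩, ⟨[(nat_lit 7)], (nat_lit 8), (nat_lit 0), (nat_lit 0), (nat_lit 0)⟩, ⟨[(nat_lit 6)], (nat_lit 9), (nat_lit 0), (nat_lit 0), (nat_lit 0)⟩, ⟨[(nat_lit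 4)], (nat_lit 10), (nat_lit 0), (nat_lit 0), (nat_lit 0)⟩, ⟨[(nat_lit 2)], (nat_lit 11), (nat_lit 0), (nat_lit 0), (nat_lit 0)⟩]
noncomputable def eH_H (x j : Nat) : Bx (Nat → Nat → Nat) := mkH eH_L eH_pb.1 eH_e.get (lmap CW.w eH_hcs) (nat_lit 5) (nat_lit 6) (nat_lit 11) (nat_lit 8) (nat_lit 256) (nat_lit 511) x (eH_rots.get j)
noncomputable def eH_F (x b : Nat) : Bool := blkOK eH_H eH_ch (nat_lit 6) (nat_lit 8) (nat_lit 32) (nat_lit 8) (nat_lit 255) (nat_lit 12) (nat_lit 4095) x b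

theorem eH_k0_0 : allFrom (eH_F (nat_lit 0)) (nat_lit 0) (nat_lit 4) = true := by decide +kernel
theorem eH_k1_0 : allFrom (eH_F (nat_lit 1)) (nat_lit 0) (nat_lit 4) = true := by decide +kernel
theorem eH_k2_0 : allFrom (eH_F (nat_lit 2)) (nat_lit 0) (nat_lit 4) = true := by decide +kernel
theorem eH_k3_0 : allFrom (eH_F (nat_lit 3)) (nat_lit 0) (nat_lit 4) = true := by decide +kernel
theorem eH_k4_0 : allFrom (eH_F (nat_lit 4)) (nat_lit 0) (nat_lit 4) = true := by decide +kernel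
theorem eH_k5_0 : allFrom (eH_F (nat_lit 5)) (nat_lit 0) (nat_lit 4) = true := by decide +kernel
theorem eH_k6_0 : allFrom (eH_F (nat_lit 6)) (nat_lit 0) (nat_lit 4) = true := by decide +kernel
theorem eH_k7_0 : allFrom (eH_F (nat_lit 7)) (nat_lit 0) (nat_lit 4) = true := by decide +kernel
theorem eH_k8_0 : allFrom (eH_F (nat_lit 8)) (nat_lit 0) (nat_lit 4) = true := by decide +kernel
theorem eH_k9_0 : allFrom (eH_F (nat_lit 9)) (nat_lit 0) (nat_lit 4) = true := by decide +kernel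
theorem eH_k10_0 : allFrom (eH_F (nat_lit 10)) (nat_lit 0) (nat_lit 4) = true := by decide +kernel
noncomputable def NM_0 : Net := (Net.cons (nat_lit 1) (nat_lit 0x1145051040445000) (Net.cons (nat_lit 2) (nat_lit 0x122111332010000) (Net.cons (nat_lit 4) (nat_lit 0x104040c02080000) (Net.cons (nat_lit 8) (nat_lit 0x500d000880000) (Net.cons (nat_lit 16) (nat_lit 0x443200000000) (Net.cons (nat_lit 32) (nat_lit 1191153664) (Net.cons (nat_lit 16) (nat_lit 0x2fff00004f00) (Net.cons (nat_lit 8) (nat_lit 0xd90090004f00f0) (Net.cons (nat_lit 4) (nat_lit 0x60b0a090500000e) (Net.cons (nat_lit 2) (nat_lit 0x2202010200200010) (Net.cons (nat_lit 1) (nat_lit 0x5000510055400151) Net.nil)))))))))))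
noncomputable def NM_1 : Net := (Net.cons (nat_lit 1) (nat_lit 0x1440510150101500) (Net.cons (nat_lit 2) (nat_lit 0x1113001210322230) (Net.cons (nat_lit 4) (nat_lit 0x9070c0505000300) (Net.cons (nat_lit 8) (nat_lit 0xa3002400cd0000) (Net.cons (nat_lit 16) (nat_lit 0x384000000000) (Net.cons (nat_lit 32) (nat_lit 981451264) (Net.cons (nat_lit 16) (nat_lit 0x2dd30000ff30) (Net.cons (nat_lit 8) (nat_lit 0xd200d7000f00e8) (Net.cons (nat_lit 4) (nat_lit 0x103060f0f0d0206) (Net.cons (nat_lit 2) (nat_lit 0x3202131211121301) (Net.cons (nat_lit 1) (nat_lit 0x414044101441540) Net.nil)))))))))))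
noncomputable def NM_2 : Net := (Net.cons (nat_lit 1) (nat_lit 0x5451101414014410) (Net.cons (nat_lit 2) (nat_lit 0x33002231113000) (Net.cons (nat_lit 4) (nat_lit 0xf070105010c0800) (Net.cons (nat_lit 8) (nat_lit 0x60000400530000) (Net.cons (nat_lit 16) (nat_lit 0x500700000000) (Net.cons (nat_lit 32) (nat_lit 1034373120) (Net.cons (nat_lit 16) (nat_lit 0x21f40000a7d0) (Net.cons (nat_lit 8) (nat_lit 0x9c00fc0000002c) (Net.cons (nat_lit 4) (nat_lit 0x901080500050106) (Net.cons (nat_lit 2) (nat_lit 0x1002231132002123) (Net.cons (nat_lit 1) (nat_lit 0x404540540404454) Net.nil)))))))))))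
noncomputable def NM_3 : Net := (Net.cons (nat_lit 1) (nat_lit 0x1154014014400140) (Net.cons (nat_lit 2) (nat_lit 0x1203123131000100) (Net.cons (nat_lit 4) (nat_lit 0xb030c09010a0000) (Net.cons (nat_lit 8) (nat_lit 0x40004800a00000) (Net.cons (nat_lit 16) (nat_lit 0x84af00000000) (Net.cons (nat_lit 32) (nat_lit 1152376832) (Net.cons (nat_lit 16) (nat_lit 0x1edf0000a3e0) (Net.cons (nat_lit 8) (nat_lit 0xf100f6001400ac) (Net.cons (nat_lit 4) (nat_lit 0xb090603010a0000) (Net.cons (nat_lit 2) (nat_lit 0x3021301311202100) (Net.cons (nat_lit 1) (nat_lit 0x1154014014400140) Net.nil)))))))))))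
noncomputable def NM_4 : Net := (Net.cons (nat_lit 1) (nat_lit 0x4445415150144040) (Net.cons (nat_lit 2) (nat_lit 0x211212230020000) (Net.cons (nat_lit 4) (nat_lit 0xc03060800060a00) (Net.cons (nat_lit 8) (nat_lit 0x2400e000000000) (Net.cons (nat_lit 16) (nat_lit 0x2cf00000000) (Net.cons (nat_lit 32) (nat_lit 2077163520) (Net.cons (nat_lit 16) (nat_lit 0x325b0000f780) (Net.cons (nat_lit 8) (nat_lit 0x4b0049001a0068) (Net.cons (nat_lit 4) (nat_lit 0x809060e04020608) (Net.cons (nat_lit 2) (nat_lit 0x1023101201203012) (Net.cons (nat_lit 1) (nat_lit 0x1445540510501154) Net.nil)))))))))))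
noncomputable def NM : List Net := [NM_0, NM_1, NM_2, NM_3, NM_4]
noncomputable def NM1_0 : Net := (Net.cons (nat_lit 1) (nat_lit 0x401014455105100) (Net.cons (nat_lit 2) (nat_lit 0x313323301310100) (Net.cons (nat_lit 4) (nat_lit 0x4050b0406040800) (Net.cons (nat_lit 8) (nat_lit 0x8005800c40000) (Net.cons (nat_lit 16) (nat_lit 0x40b000000000) (Net.cons (nat_lit 32) (nat_lit 2836488684) (Net.cons (nat_lit 16) (nat_lit 0x1efa00004a94) (Net.cons (nat_lit 8) (nat_lit 0x7a004c00ea008a) (Net.cons (nat_lit 4) (nat_lit 0x10f0c0204080908) (Net.cons (nat_lit 2) (nat_lit 0x223303030323030) (Net.cons (nat_lit 1) (nat_lit 0x4511115140555450) Net.nil)))))))))))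
noncomputable def NM1_1 : Net := (Net.cons (nat_lit 1) (nat_lit 0x4445415150144040) (Net.cons (nat_lit 2) (nat_lit 0x211212230020000) (Net.cons (nat_lit 4) (nat_lit 0xc03060800060a00) (Net.cons (nat_lit 8) (nat_lit 0x2400e000000000) (Net.cons (nat_lit 16) (nat_lit 0x2cf00000000) (Net.cons (nat_lit 32) (nat_lit 2077163520) (Net.cons (nat_lit 16) (nat_lit 0x325b0000f780) (Net.cons (nat_lit 8) (nat_lit 0x4b0049001a0068) (Net.cons (nat_lit 4) (nat_lit 0x809060e04020608) (Net.cons (nat_lit 2) (nat_lit 0x1023101201203012) (Net.cons (nat_lit 1) (nat_lit 0x1445540510501154) Net.nil)))))))))))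
noncomputable def NM1_2 : Net := (Net.cons (nat_lit 1) (nat_lit 0x5505114555151000) (Net.cons (nat_lit 2) (nat_lit 0x213210222321220) (Net.cons (nat_lit 4) (nat_lit 0x7010000040b0a00) (Net.cons (nat_lit 8) (nat_lit 0xf8000200600000) (Net.cons (nat_lit 16) (nat_lit 0x200800000000) (Net.cons (nat_lit 32) (nat_lit 985439616) (Net.cons (nat_lit 16) (nat_lit 0x56290000bc48) (Net.cons (nat_lit 8) (nat_lit 0x54002c00490082) (Net.cons (nat_lit 4) (nat_lit 0xa0902080c0b0208) (Net.cons (nat_lit 2) (nat_lit 0x3313011220331020) (Net.cons (nat_lit 1) (nat_lit 0x1504104115141400) Net.nil)))))))))))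
noncomputable def NM1_3 : Net := (Net.cons (nat_lit 1) (nat_lit 0x4140400150411500) (Net.cons (nat_lit 2) (nat_lit 0x1202011310110000) (Net.cons (nat_lit 4) (nat_lit 0x50c0c0307010000) (Net.cons (nat_lit 8) (nat_lit 0x40033000a0000) (Net.cons (nat_lit 16) (nat_lit 0xbe0a00000000) (Net.cons (nat_lit 32) (nat_lit 873433952) (Net.cons (nat_lit 16) (nat_lit 0x80280000510a) (Net.cons (nat_lit 8) (nat_lit 0x4800f000cb0038) (Net.cons (nat_lit 4) (nat_lit 0x2050f0f010302) (Net.cons (nat_lit 2) (nat_lit 0x1132231210132312) (Net.cons (nat_lit 1) (nat_lit 0x400505100050110) Net.nil)))))))))))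
noncomputable def NM1 : List Net := [NM1_0, NM1_1, NM1_2, NM1_3]
noncomputable def SM : List (List Nat) := [[(nat_lit 1), (nat_lit 5), (nat_lit 2), (nat_lit 6), (nat_lit 6), (nat_lit 7), (nat_lit 2), (nat_lit 4), (nat_lit 9), (nat_lit 7), (nat_lit 4)],
  [(nat_lit 2), (nat_lit 4), (nat_lit 9), (nat_lit 7), (nat_lit 7), (nat_lit 4), (nat_lit 7), (nat_lit 2), (nat_lit 7), (nat_lit 5)],
  [(nat_lit 14), (nat_lit 12), (nat_lit 14), (nat_lit 14), (nat_lit 12), (nat_lit 13), (nat_lit 11)],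
  [(nat_lit 11), (nat_lit 14), (nat_lit 11), (nat_lit 13), (nat_lit 12), (nat_lit 14)]]
noncomputable def CM : List Lvl := [⟨(nat_lit 0), [[(nat_lit 1)],
  [(nat_lit 3)],
  [(nat_lit 5)],
  [(nat_lit 7)],
  [(nat_lit 9)]], (nat_lit 3)⟩,
  ⟨(nat_lit 2), [[(nat_lit 11)],
  [(nat_lit 13)]], (nat_lit 4)⟩,
  ⟨(nat_lit 1), [[(nat_lit 15)],
  [(nat_lit 17)]], (nat_lit 3)⟩]
noncomputable def NG_0 : Net := (Net.cons (nat_lit 1) (nat_lit 0x4014045050145100051510000) (Net.cons (nat_lit 2) (nat_lit 0x3330131333100010312100210) (Net.cons (nat_lit 4) (nat_lit 0x20500080909000c00040a09) (Net.cons (nat_lit 8) (nat_lit 0x8d00b000b800810055000a) (Net.cons (nat_lit 16) (nat_lit 0xed01000021fb00000005) (Net.cons (nat_lit 32) (nat_lit 0x7000000001b9ba800) (Net.cons (nat_lit 64) (nat_lit 463203487) (Net.cons (nat_lit 32) (nat_lit 0xc00000000b3872b72) (Net.cons (nat_lit 16) (nat_lit 0x2075000053b900008776) (Net.cons (nat_lit 8) (nat_lit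 0xdb00f200f7003100840089) (Net.cons (nat_lit 4) (nat_lit 0xb09050a0c0d080400030909) (Net.cons (nat_lit 2) (nat_lit 0x1101110131012233232312102) (Net.cons (nat_lit 1) (nat_lit 0x4515414544504115140055440) Net.nil)))))))))))))
noncomputable def NG_1 : Net := (Net.cons (nat_lit 1) (nat_lit 0x441405441440111104141040) (Net.cons (nat_lit 2) (nat_lit 0x122020013232001230011030) (Net.cons (nat_lit 4) (nat_lit 0xf000906000d0408010e0f00) (Net.cons (nat_lit 8) (nat_lit 0x7600e6003100e9006e000e) (Net.cons (nat_lit 16) (nat_lit 0x2ba80000c82b00000009) (Net.cons (nat_lit 32) (nat_lit 0x1000000004cf02300) (Net.cons (nat_lit 64) (nat_lit 0x15cf873c4) (Net.cons (nat_lit 32) (nat_lit 0xe00000000b3c1014e) (Net.cons (nat_lit 16) (nat_lit 0x16cf0000bd4b00008a9e) (Net.cons (nat_lit 8) (nat_lit 0x2e00a5006e003800b80025) (Net.cons (nat_lit 4) (nat_lit 0x50a0a0e030c0802090b0204) (Net.cons (nat_lit 2) (nat_lit 0x302031322321131333030113)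 (Net.cons (nat_lit 1) (nat_lit 0x4144114150150445505155455) Net.nil)))))))))))))
noncomputable def NG_2 : Net := (Net.cons (nat_lit 1) (nat_lit 0x4051444151055414051404150) (Net.cons (nat_lit 2) (nat_lit 0x222111230011123100110230) (Net.cons (nat_lit 4) (nat_lit 0xd020c0e070c0f0c03040302) (Net.cons (nat_lit 8) (nat_lit 0x9d004a00e6003400ef0002) (Net.cons (nat_lit 16) (nat_lit 0x78890000032800000005) (Net.cons (nat_lit 32) (nat_lit 2619130032) (Net.cons (nat_lit 64) (nat_lit 0xbbdbefab7) (Net.cons (nat_lit 32) (nat_lit 0x700000000acf4d705) (Net.cons (nat_lit 16) (nat_lit 0x62d700000f4a0000ee11) (Net.cons (nat_lit 8) (nat_lit 0x5c00ad0033004500b90052) (Net.cons (nat_lit 4) (nat_lit 0x2090500020105090008070b) (Net.cons (nat_lit 2) (nat_lit 0x3001000200102213123301202) (Net.cons (nat_lit 1) (nat_lit 0x515104155110001501140555) Net.nil)))))))))))))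
noncomputable def NG_3 : Net := (Net.cons (nat_lit 1) (nat_lit 0x450541015054140015005050) (Net.cons (nat_lit 2) (nat_lit 0x3312003202230212110200000) (Net.cons (nat_lit 4) (nat_lit 0xb010102010c020603000801) (Net.cons (nat_lit 8) (nat_lit 0x9008a0090008200400000) (Net.cons (nat_lit 16) (nat_lit 0x34020000800800000009) (Net.cons (nat_lit 32) (nat_lit 0xc0000000096102a50) (Net.cons (nat_lit 64) (nat_lit 0x79613ba59) (Net.cons (nat_lit 32) (nat_lit 0xd00000000d6d86af1) (Net.cons (nat_lit 16) (nat_lit 0x760a0000c78c00004389) (Net.cons (nat_lit 8) (nat_lit 0x9008e009c008600540000) (Net.cons (nat_lit 4) (nat_lit 0xb070102010e020603000805) (Net.cons (nat_lit 2) (nat_lit 0x3312003202230212110202000) (Net.cons (nat_lit 1) (nat_lit 0x450541015054140015005050) Net.nil)))))))))))))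
noncomputable def NG_4 : Net := (Net.cons (nat_lit 1) (nat_lit 0x4514040055401550004540000) (Net.cons (nat_lit 2) (nat_lit 0x3021030003102120033300100) (Net.cons (nat_lit 4) (nat_lit 0xa0205080600000108080204) (Net.cons (nat_lit 8) (nat_lit 0x2a00240014002100f40000) (Net.cons (nat_lit 16) (nat_lit 0x8512000048a800000004) (Net.cons (nat_lit 32) (nat_lit 0x4000000000d40e000) (Net.cons (nat_lit 64) (nat_lit 1306583060) (Net.cons (nat_lit 32) (nat_lit 0xf00000000cf648e8a) (Net.cons (nat_lit 16) (nat_lit 0xf532000008b900007064) (Net.cons (nat_lit 8) (nat_lit 0x4f0004005c000300dc002a) (Net.cons (nat_lit 4) (nat_lit 0xa0205080602000109080204) (Net.cons (nat_lit 2) (nat_lit 0x3031132003102120033310100) (Net.cons (nat_lit 1) (nat_lit 0x4514040055401550004540000) Net.nil)))))))))))))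
noncomputable def NG_5 : Net := (Net.cons (nat_lit 1) (nat_lit 0x514145505550050444104140) (Net.cons (nat_lit 2) (nat_lit 0x1133022311230011001201000) (Net.cons (nat_lit 4) (nat_lit 0x2080b090009080200000002) (Net.cons (nat_lit 8) (nat_lit 0x2900590002006a008b0004) (Net.cons (nat_lit 16) (nat_lit 0x62920000c07000000003) (Net.cons (nat_lit 32) (nat_lit 0x500000000c11021c0) (Net.cons (nat_lit 64) (nat_lit 0xac198ebdf) (Net.cons (nat_lit 32) (nat_lit 0x700000000f1f20342) (Net.cons (nat_lit 16) (nat_lit 0x721a0000c0f10000008b) (Net.cons (nat_lit 8) (nat_lit 0x2f0079000a006c008b0004) (Net.cons (nat_lit 4) (nat_lit 0x20a0b090409080000080306) (Net.cons (nat_lit 2) (nat_lit 0x1133022311230011001211000) (Net.cons (nat_lit 1) (nat_lit 0x554145505550050444104140) Net.nil)))))))))))))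
noncomputable def NG_6 : Net := (Net.cons (nat_lit 1) (nat_lit 0x451041415041510140140504) (Net.cons (nat_lit 2) (nat_lit 0x2333313111302111020122310) (Net.cons (nat_lit 4) (nat_lit 0x70401030b040400020c0902) (Net.cons (nat_lit 8) (nat_lit 0x4d0094002e00c4008b0001) (Net.cons (nat_lit 16) (nat_lit 0xa30400008c4900000001) (Net.cons (nat_lit 32) (nat_lit 21760048) (Net.cons (nat_lit 64) (nat_lit 3410836592) (Net.cons (nat_lit 32) (nat_lit 0xf00000000bf000b59) (Net.cons (nat_lit 16) (nat_lit 0xc5c80000a4ab00008767) (Net.cons (nat_lit 8) (nat_lit 0x4900e000f2009b00500007) (Net.cons (nat_lit 4) (nat_lit 0xc03070e0500030a04030800) (Net.cons (nat_lit 2) (nat_lit 0x3213310033221202101011013) (Net.cons (nat_lit 1) (nat_lit 0x1515541455151510150545544) Net.nil)))))))))))))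
noncomputable def NG_7 : Net := (Net.cons (nat_lit 1) (nat_lit 0x4150504151014454115455040) (Net.cons (nat_lit 2) (nat_lit 0x3011012111222223320130030) (Net.cons (nat_lit 4) (nat_lit 0xa0f0e03010b010405040406) (Net.cons (nat_lit 8) (nat_lit 0x5000e9008200000098000d) (Net.cons (nat_lit 16) (nat_lit 0xabd0000090420000000c) (Net.cons (nat_lit 32) (nat_lit 3296739440) (Net.cons (nat_lit 64) (nat_lit 0xfedc15a70) (Net.cons (nat_lit 32) (nat_lit 0xc0000000037b54849) (Net.cons (nat_lit 16) (nat_lit 0xab50000067100000a82b) (Net.cons (nat_lit 8) (nat_lit 0xcb006800e7003700f10019) (Net.cons (nat_lit 4) (nat_lit 0x306060d050d0f080c0a0602) (Net.cons (nat_lit 2) (nat_lit 0x1212013110323030230121020) (Net.cons (nat_lit 1) (nat_lit 0x4455401054454445450115000) Net.nil)))))))))))))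
noncomputable def NG : List Net := [NG_0, NG_1, NG_2, NG_3, NG_4, NG_5, NG_6, NG_7]
noncomputable def NG1_0 : Net := (Net.cons (nat_lit 1) (nat_lit 0x1015044514550500544105010) (Net.cons (nat_lit 2) (nat_lit 0x3303011100232013100233000) (Net.cons (nat_lit 4) (nat_lit 0x6030509020503060d030000) (Net.cons (nat_lit 8) (nat_lit 0x2200b400c900c400490006) (Net.cons (nat_lit 16) (nat_lit 0x8500000224a00000001) (Net.cons (nat_lit 32) (nat_lit 0x600000000024b2da0) (Net.cons (nat_lit 64) (nat_lit 2197762023) (Net.cons (nat_lit 32) (nat_lit 0x30000000051dd11bd) (Net.cons (nat_lit 16) (nat_lit 0x920000001e050000cb65) (Net.cons (nat_lit 8) (nat_lit 0x8c003d0049003f00650010) (Net.cons (nat_lit 4) (nat_lit 0x1060f0b0a0c0a01060a0a02) (Net.cons (nat_lit 2) (nat_lit 0x1321032013231130102223202) (Net.cons (nat_lit 1) (nat_lit 0x540100041545151110401040) Net.nil)))))))))))))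
noncomputable def NG1_1 : Net := (Net.cons (nat_lit 1) (nat_lit 0x4041004510444501001110110) (Net.cons (nat_lit 2) (nat_lit 0x1310203331132022010103100) (Net.cons (nat_lit 4) (nat_lit 0x10601010a0d000309070209) (Net.cons (nat_lit 8) (nat_lit 0xba00d50043003600c60001) (Net.cons (nat_lit 16) (nat_lit 0x41480000009000000002) (Net.cons (nat_lit 32) (nat_lit 0x100000000f0006250) (Net.cons (nat_lit 64) (nat_lit 0x4f70066ff) (Net.cons (nat_lit 32) (nat_lit 0xf00000000fdfb9378) (Net.cons (nat_lit 16) (nat_lit 0x12ac0000d33800006fc0) (Net.cons (nat_lit 8) (nat_lit 0x6e00c3009d00ea00c100a5) (Net.cons (nat_lit 4) (nat_lit 0xf0b0d0e000407020a010a0d) (Net.cons (nat_lit 2) (nat_lit 0x2220020233322013003230130) (Net.cons (nat_lit 1) (nat_lit 0x445451015510114514100) Net.nil)))))))))))))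
noncomputable def NG1_2 : Net := (Net.cons (nat_lit 1) (nat_lit 0x5014150445044414514155010) (Net.cons (nat_lit 2) (nat_lit 0x1030210203102101030001000) (Net.cons (nat_lit 4) (nat_lit 0x90602030e02060709010001) (Net.cons (nat_lit 8) (nat_lit 0x8e00be0002004500890002) (Net.cons (nat_lit 16) (nat_lit 0x93310000005800000001) (Net.cons (nat_lit 32) (nat_lit 0x20000000080894a30) (Net.cons (nat_lit 64) (nat_lit 0x5edb95b3b) (Net.cons (nat_lit 32) (nat_lit 0x400000000a4c84539) (Net.cons (nat_lit 16) (nat_lit 0xb4b200000781000067a2) (Net.cons (nat_lit 8) (nat_lit 0xed00e4002c00230040006a) (Net.cons (nat_lit 4) (nat_lit 0x70305060502030e01030703) (Net.cons (nat_lit 2) (nat_lit 0x1032232013101123122220100) (Net.cons (nat_lit 1) (nat_lit 0x5541514454411455114454410) Net.nil)))))))))))))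
noncomputable def NG1_3 : Net := (Net.cons (nat_lit 1) (nat_lit 0x1140050150040115004411500) (Net.cons (nat_lit 2) (nat_lit 0x323310020221311122002220) (Net.cons (nat_lit 4) (nat_lit 0xb00050a0301080705060709) (Net.cons (nat_lit 8) (nat_lit 0xe300c20087001400210006) (Net.cons (nat_lit 16) (nat_lit 0x25260000826a00000003) (Net.cons (nat_lit 32) (nat_lit 0x3000000000903f380) (Net.cons (nat_lit 64) (nat_lit 0xccd3bf387) (Net.cons (nat_lit 32) (nat_lit 0x100000000b694ab62) (Net.cons (nat_lit 16) (nat_lit 0x34c0000905400003366) (Net.cons (nat_lit 8) (nat_lit 0x4800e4002a00b800d40004) (Net.cons (nat_lit 4) (nat_lit 0xd0a0e060103010d0a010001) (Net.cons (nat_lit 2) (nat_lit 0x301000022000120311213010) (Net.cons (nat_lit 1) (nat_lit 0x5045500551545044441515000) Net.nil)))))))))))))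
noncomputable def NG1_4 : Net := (Net.cons (nat_lit 1) (nat_lit 0x1401414144515055405441150) (Net.cons (nat_lit 2) (nat_lit 0x3210032023101111130321220) (Net.cons (nat_lit 4) (nat_lit 0xb08070b0d080c0a03060000) (Net.cons (nat_lit 8) (nat_lit 0x800007004500dc00000006) (Net.cons (nat_lit 16) (nat_lit 0xa41b0000010200000006) (Net.cons (nat_lit 32) (nat_lit 470339584) (Net.cons (nat_lit 64) (nat_lit 0xe7e9ff886) (Net.cons (nat_lit 32) (nat_lit 0x600000000d1ff2a80) (Net.cons (nat_lit 16) (nat_lit 0x95590000810900001962) (Net.cons (nat_lit 8) (nat_lit 0x16005d0024004a004a0046) (Net.cons (nat_lit 4) (nat_lit 0x808070b050e080d0b090e00) (Net.cons (nat_lit 2) (nat_lit 0x1231031132002210122200000) (Net.cons (nat_lit 1) (nat_lit 0x1041155054145401111140510) Net.nil)))))))))))))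
noncomputable def NG1_5 : Net := (Net.cons (nat_lit 1) (nat_lit 0x405040540510010554510) (Net.cons (nat_lit 2) (nat_lit 0x112000312130011211203220) (Net.cons (nat_lit 4) (nat_lit 0x70103010c050d0a0c0a0c01) (Net.cons (nat_lit 8) (nat_lit 0x4b002100e6001a00130003) (Net.cons (nat_lit 16) (nat_lit 0x44800000582400000001) (Net.cons (nat_lit 32) (nat_lit 0x4000000008a3760d0) (Net.cons (nat_lit 64) (nat_lit 0xd9bbfedf3) (Net.cons (nat_lit 32) (nat_lit 0xb00000000d4674af1) (Net.cons (nat_lit 16) (nat_lit 0xac3b000071260000db83) (Net.cons (nat_lit 8) (nat_lit 0x7e002300f200b8001600e2) (Net.cons (nat_lit 4) (nat_lit 0x608050a0d00090a08090203) (Net.cons (nat_lit 2) (nat_lit 0x232313112100012331300010) (Net.cons (nat_lit 1) (nat_lit 0x1514514105440154151011550) Net.nil)))))))))))))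
noncomputable def NG1_6 : Net := (Net.cons (nat_lit 1) (nat_lit 0x4410454555511145055051500) (Net.cons (nat_lit 2) (nat_lit 0x1301230003301100032213300) (Net.cons (nat_lit 4) (nat_lit 0x40706040103050e05090c0c) (Net.cons (nat_lit 8) (nat_lit 0x2600b5004c00f500000002) (Net.cons (nat_lit 16) (nat_lit 0x344f0000503000000004) (Net.cons (nat_lit 32) (nat_lit 0xc00000000d3298250) (Net.cons (nat_lit 64) (nat_lit 4282247006) (Net.cons (nat_lit 32) (nat_lit 0x6000000006672837e) (Net.cons (nat_lit 16) (nat_lit 0x70df0000400c00007c0c) (Net.cons (nat_lit 8) (nat_lit 0x8600af006300e400f00002) (Net.cons (nat_lit 4) (nat_lit 0xf0d00090c010704020c000c) (Net.cons (nat_lit 2) (nat_lit 0x1023211323001103302330220) (Net.cons (nat_lit 1) (nat_lit 0x5010541141105105400441100) Net.nil)))))))))))))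
noncomputable def NG1_7 : Net := (Net.cons (nat_lit 1) (nat_lit 0x444010544105001044014000) (Net.cons (nat_lit 2) (nat_lit 0x1013221320312132031011100) (Net.cons (nat_lit 4) (nat_lit 0x202020e000f0b0303000400) (Net.cons (nat_lit 8) (nat_lit 0x600057001400e800890001) (Net.cons (nat_lit 16) (nat_lit 0x6d0c0000e89000000001) (Net.cons (nat_lit 32) (nat_lit 0x400000000c8080600) (Net.cons (nat_lit 64) (nat_lit 0xdcf48fe21) (Net.cons (nat_lit 32) (nat_lit 0x500000000262dc8d1) (Net.cons (nat_lit 16) (nat_lit 0x2b1e000007b20000ce01) (Net.cons (nat_lit 8) (nat_lit 0x600057003400d800a90001) (Net.cons (nat_lit 4) (nat_lit 0xb020a0e080f0b0b0b080c00) (Net.cons (nat_lit 2) (nat_lit 0x1013221320312132031011100) (Net.cons (nat_lit 1) (nat_lit 0x444010544105001044014000) Net.nil)))))))))))))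
noncomputable def NG1_8 : Net := (Net.cons (nat_lit 1) (nat_lit 0x5445440454445445115001000) (Net.cons (nat_lit 2) (nat_lit 0x220030130022002122000000) (Net.cons (nat_lit 4) (nat_lit 0x70308050007060e01010400) (Net.cons (nat_lit 8) (nat_lit 0x2400100039008800020001) (Net.cons (nat_lit 16) (nat_lit 0xa21100005a9300000009) (Net.cons (nat_lit 32) (nat_lit 0x100000000853341a0) (Net.cons (nat_lit 64) (nat_lit 0xac5f373f9) (Net.cons (nat_lit 32) (nat_lit 0x9000000006eb211e8) (Net.cons (nat_lit 16) (nat_lit 0xa3d10000db1f00004049) (Net.cons (nat_lit 8) (nat_lit 0x2c00d40069008100d60001) (Net.cons (nat_lit 4) (nat_lit 0x2030a0c08070e0609010d00) (Net.cons (nat_lit 2) (nat_lit 0x330030121023012033010100) (Net.cons (nat_lit 1) (nat_lit 0x5445440454445445115001000) Net.nil)))))))))))))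
noncomputable def NG1_9 : Net := (Net.cons (nat_lit 1) (nat_lit 0x1104005404050401150444100) (Net.cons (nat_lit 2) (nat_lit 0x201101011212230102011100) (Net.cons (nat_lit 4) (nat_lit 0xb0c05050207060400020200) (Net.cons (nat_lit 8) (nat_lit 0x9900300090009c000d0000) (Net.cons (nat_lit 16) (nat_lit 0xd065000048ab00000004) (Net.cons (nat_lit 32) (nat_lit 0x40000000014088230) (Net.cons (nat_lit 64) (nat_lit 0xf755bba70) (Net.cons (nat_lit 32) (nat_lit 0x100000000d7f18d24) (Net.cons (nat_lit 16) (nat_lit 0xe9ec0000d1b30000ce14) (Net.cons (nat_lit 8) (nat_lit 0x91007200510028006f0010) (Net.cons (nat_lit 4) (nat_lit 0x4020e05000e090f080c0f00) (Net.cons (nat_lit 2) (nat_lit 0x2000110012020100120322110) (Net.cons (nat_lit 1) (nat_lit 0x5555114040555011550541500) Net.nil)))))))))))))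
noncomputable def NG1_10 : Net := (Net.cons (nat_lit 1) (nat_lit 0x4404015110005450400105000) (Net.cons (nat_lit 2) (nat_lit 0x1232200002032110220001000) (Net.cons (nat_lit 4) (nat_lit 0xa0f000b01060105010a0300) (Net.cons (nat_lit 8) (nat_lit 0x1a00e3002b00dd00900004) (Net.cons (nat_lit 16) (nat_lit 0xa1180000450a00000002) (Net.cons (nat_lit 32) (nat_lit 1806402288) (Net.cons (nat_lit 64) (nat_lit 0x5fbfbebf4) (Net.cons (nat_lit 32) (nat_lit 0xe000000007f2e9af6) (Net.cons (nat_lit 16) (nat_lit 0x21920000458a00008a02) (Net.cons (nat_lit 8) (nat_lit 0x9a00eb002b005f00100004) (Net.cons (nat_lit 4) (nat_lit 0xa0e03030806010f090b0b00) (Net.cons (nat_lit 2) (nat_lit 0x3032202202032132230001000) (Net.cons (nat_lit 1) (nat_lit 0x4404015110005450400105000) Net.nil)))))))))))))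
noncomputable def NG1 : List Net := [NG1_0, NG1_1, NG1_2, NG1_3, NG1_4, NG1_5, NG1_6, NG1_7, NG1_8, NG1_9, NG1_10]
noncomputable def SG : List (List Nat) := [[(nat_lit 1), (nat_lit 11), (nat_lit 15), (nat_lit 13), (nat_lit 5), (nat_lit 5), (nat_lit 4)],
  [(nat_lit 6), (nat_lit 8), (nat_lit 11), (nat_lit 4), (nat_lit 16), (nat_lit 11), (nat_lit 7), (nat_lit 11)],
  [(nat_lit 18), (nat_lit 18), (nat_lit 18), (nat_lit 20), (nat_lit 17), (nat_lit 19), (nat_lit 18), (nat_lit 18)],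
  [(nat_lit 20), (nat_lit 18), (nat_lit 20), (nat_lit 17), (nat_lit 20), (nat_lit 20), (nat_lit 17), (nat_lit 19), (nat_lit 17), (nat_lit 17)],
  [(nat_lit 22), (nat_lit 23), (nat_lit 23)],
  [(nat_lit 24), (nat_lit 21), (nat_lit 24), (nat_lit 21), (nat_lit 21)],
  [(nat_lit 26), (nat_lit 28), (nat_lit 28), (nat_lit 25), (nat_lit 27), (nat_lit 25), (nat_lit 25), (nat_lit 28), (nat_lit 28)],
  [(nat_lit 26), (nat_lit 28), (nat_lit 28), (nat_lit 25), (nat_lit 25), (nat_lit 27), (nat_lit 25), (nat_lit 25), (nat_lit 27), (nat_lit 26)],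
  [(nat_lit 31), (nat_lit 29), (nat_lit 31), (nat_lit 29), (nat_lit 29), (nat_lit 29), (nat_lit 29)],
  [(nat_lit 30), (nat_lit 30), (nat_lit 30), (nat_lit 31), (nat_lit 30)],
  [(nat_lit 36), (nat_lit 36), (nat_lit 36), (nat_lit 33)]]
noncomputable def CG : List Lvl := [⟨(nat_lit 0), [[(nat_lit 1)],
  [(nat_lit 3)],
  [(nat_lit 5)],
  [(nat_lit 7)],
  [(nat_lit 9)],
  [(nat_lit 11)],
  [(nat_lit 13)],
  [(nat_lit 15)]], (nat_lit 2)⟩,
  ⟨(nat_lit 2), [[(nat_lit 17)],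
  [(nat_lit 19)]], (nat_lit 6)⟩,
  ⟨(nat_lit 3), [[(nat_lit 21)],
  [(nat_lit 23)]], (nat_lit 2)⟩,
  ⟨(nat_lit 1), [[(nat_lit 25)],
  [(nat_lit 27)]], (nat_lit 6)⟩,
  ⟨(nat_lit 5), [[(nat_lit 29)],
  [(nat_lit 31)]], (nat_lit 1)⟩,
  ⟨(nat_lit 4), [[(nat_lit 33)],
  [(nat_lit 35)]], (nat_lit 1)⟩,
  ⟨(nat_lit 8), [[(nat_lit 37)]], (nat_lit 1)⟩]
noncomputable def WC : List (List Nat) := [[(nat_lit 3), (nat_lit 3), (nat_lit 7), (nat_lit 7), (nat_lit 5), (nat_lit 5), (nat_lit 10), (nat_lit 11), (nat_lit 11), (nat_lit 10), (nat_lit 13), (nat_lit 19), (nat_lit 17), (nat_lit 17), (nat_lit 23)],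
  [(nat_lit 1), (nat_lit 3), (nat_lit 1), (nat_lit 4), (nat_lit 5), (nat_lit 7), (nat_lit 10), (nat_lit 11), (nat_lit 10), (nat_lit 16), (nat_lit 13), (nat_lit 19), (nat_lit 23)],
  [(nat_lit 3), (nat_lit 1), (nat_lit 1), (nat_lit 3), (nat_lit 2), (nat_lit 7), (nat_lit 7), (nat_lit 5), (nat_lit 5), (nat_lit 9), (nat_lit 11), (nat_lit 9), (nat_lit 9), (nat_lit 16), (nat_lit 13), (nat_lit 18), (nat_lit 19), (nat_lit 21)],
  [(nat_lit 11), (nat_lit 10), (nat_lit 10), (nat_lit 14), (nat_lit 18), (nat_lit 19), (nat_lit 17), (nat_lit 17)],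
  [(nat_lit 8), (nat_lit 8), (nat_lit 5), (nat_lit 8), (nat_lit 10), (nat_lit 12), (nat_lit 9), (nat_lit 14), (nat_lit 23)],
  [(nat_lit 11), (nat_lit 10), (nat_lit 10), (nat_lit 16), (nat_lit 13), (nat_lit 18), (nat_lit 19), (nat_lit 23)],
  [(nat_lit 1), (nat_lit 3), (nat_lit 8), (nat_lit 6), (nat_lit 9), (nat_lit 9), (nat_lit 12), (nat_lit 10), (nat_lit 16), (nat_lit 13), (nat_lit 17), (nat_lit 17), (nat_lit 23)],
  [(nat_lit 8), (nat_lit 8), (nat_lit 5), (nat_lit 8), (nat_lit 12), (nat_lit 10), (nat_lit 10), (nat_lit 17), (nat_lit 19)]]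

end CF.HS
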